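import Mathlib

/-!
# Minimal non-CA groups: definitions and the maximality lemma

A CA-group is one in which the centraliser of every non-central element is abelian.  `Hyp G`
collects the hypotheses of Schmidt's question: `G` is non-solvable, is not a CA-group, and all its
proper subgroups are CA-groups.  The centraliser of a bad element (non-central, with non-abelian
centraliser) is a maximal subgroup, and it is the centraliser of each non-central element of its
own centre.
-/

set_option autoImplicit false

namespace Cfsg.Agent.Lib.MinNonCA34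

open Subgroup

variable {G : Type*} [Group G]

/-- Centralisers of non-central elements are abelian, in elementwise form. -/
def IsCA (G : Type*) [Group G] : Prop :=
  ∀ x : G, x ∉ center G → ∀ a b : G, a * x = x * a → b * x = x * b → a * b = b * a

/-- The statement's form of `IsCA`. -/
theorem isCA_iff :
    IsCA G ↔ ∀ x : G, x ∉ center G → IsMulCommutative (centralizer ({x} : Set G)) := by
  constructor
  · intro h x hx
    exact ⟨⟨fun a b => Subtype.ext (h x hx a b (mem_centralizer_singleton_iff.1 a.2)
      (mem_centralizer_singleton_iff.1 b.2))⟩⟩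
  · intro h x hx a b ha hb
    exact congrArg Subtype.val ((h x hx).is_comm.comm
      (⟨a, mem_centralizer_singleton_iff.2 ha⟩ : centralizer ({x} : Set G))
      ⟨b, mem_centralizer_singleton_iff.2 hb⟩)

/-- Subgroups of CA-groups are CA-groups. -/
theorem IsCA.subgroup (h : IsCA G) (H : Subgroup G) : IsCA H := by
  intro x hx a b ha hb
  refine Subtype.ext (h x (fun hc => hx ?_) a b (congrArg Subtype.val ha) (congrArg Subtype.val hb))
  exact mem_center_iff.2 fun y => Subtype.ext (mem_center_iff.1 hc y)

theorem IsCA.of_injective {M : Type*} [Group M] (h : IsCA G) (f : M →* G)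
    (hf : Function.Injective f) : IsCA M := by
  intro x hx a b ha hb
  refine hf ?_
  rw [map_mul, map_mul]
  refine h (f x) (fun hc => hx (mem_center_iff.2 fun y => hf ?_)) _ _
    (by rw [← map_mul, ha, map_mul]) (by rw [← map_mul, hb, map_mul])
  rw [map_mul, map_mul]
  exact mem_center_iff.1 hc (f y)

theorem isCA_congr {M : Type*} [Group M] (e : G ≃* M) : IsCA G ↔ IsCA M :=
  ⟨fun h => h.of_injective e.symm.toMonoidHom e.symm.injective,
    fun h => h.of_injective e.toMonoidHom e.injective⟩

/-- A bad element: non-central with a non-abelian centraliser. -/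
def Bad (x : G) : Prop :=
  x ∉ center G ∧ ∃ a b : G, a * x = x * a ∧ b * x = x * b ∧ a * b ≠ b * a

theorem exists_bad_of_not_isCA (h : ¬ IsCA G) : ∃ x : G, Bad x := by
  simp only [IsCA, not_forall] at h
  obtain ⟨x, hx, a, b, ha, hb, hab⟩ := h
  exact ⟨x, hx, a, b, ha, hb, hab⟩

/-- The hypotheses of the theorem. -/
structure Hyp (G : Type*) [Group G] : Prop where
  not_solvable : ¬ Group.IsSolvable G
  not_ca : ¬ IsCA G
  sub_ca : ∀ H : Subgroup G, H ≠ ⊤ → IsCA H

variable (h : Hyp G)
include h

/-- In a proper subgroup an element centralising a non-abelian set is centralised by everybody. -/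
theorem Hyp.central_of_commutes {H : Subgroup G} (hH : H ≠ ⊤) {x : G} (hx : x ∈ H)
    {a b : G} (ha : a ∈ H) (hb : b ∈ H) (hax : a * x = x * a) (hbx : b * x = x * b)
    (hab : a * b ≠ b * a) : ∀ y ∈ H, y * x = x * y := by
  by_contra hne
  push Not at hne
  obtain ⟨y, hy, hyx⟩ := hne
  exact hab (congrArg Subtype.val (h.sub_ca H hH ⟨x, hx⟩
    (fun hc => hyx (congrArg Subtype.val (mem_center_iff.1 hc ⟨y, hy⟩)))
    ⟨a, ha⟩ ⟨b, hb⟩ (Subtype.ext hax) (Subtype.ext hbx)))

/-- The working form: commuting with a non-central element of a proper subgroup is transitive. -/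
theorem Hyp.comm_of_mem {H : Subgroup G} (hH : H ≠ ⊤) {x y a b : G} (hx : x ∈ H) (hy : y ∈ H)
    (hyx : y * x ≠ x * y) (ha : a ∈ H) (hb : b ∈ H) (hax : a * x = x * a)
    (hbx : b * x = x * b) : a * b = b * a := by
  by_contra hab
  exact hyx (h.central_of_commutes hH hx ha hb hax hbx hab y hy)

/-- A subgroup whose intersection with the centraliser of a bad element is non-abelian, and which
contains that element, lies in the centraliser. -/
theorem Hyp.le_centralizer_of_nonabelian {H : Subgroup G} (hH : H ≠ ⊤) {x : G} (hx : x ∈ H)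
    {a b : G} (ha : a ∈ H) (hb : b ∈ H) (hax : a * x = x * a) (hbx : b * x = x * b)
    (hab : a * b ≠ b * a) : H ≤ centralizer ({x} : Set G) := fun y hy =>
  mem_centralizer_singleton_iff.2 (h.central_of_commutes hH hx ha hb hax hbx hab y hy)

omit h in
theorem Bad.centralizer_ne_top {x : G} (hx : Bad x) : centralizer ({x} : Set G) ≠ ⊤ := fun e =>
  hx.1 (mem_center_iff.2 fun y => mem_centralizer_singleton_iff.1 (e ▸ mem_top y))

/-- The centraliser of a bad element is a maximal subgroup. -/
theorem Hyp.isCoatom_centralizer {x : G} (hx : Bad x) :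
    IsCoatom (centralizer ({x} : Set G)) := by
  refine ⟨hx.centralizer_ne_top, fun H hH => by_contra fun hne => ?_⟩
  obtain ⟨a, b, ha, hb, hab⟩ := hx.2
  exact hH.not_ge (h.le_centralizer_of_nonabelian hne
    (hH.le (mem_centralizer_singleton_iff.2 rfl)) (hH.le (mem_centralizer_singleton_iff.2 ha))
    (hH.le (mem_centralizer_singleton_iff.2 hb)) ha hb hab)

/-- A non-central element which commutes with everything centralising a bad element has the same
centraliser, and is bad. -/
theorem Hyp.centralizer_eq_of_central {x y : G} (hx : Bad x) (hy : y ∉ center G)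
    (hle : centralizer ({x} : Set G) ≤ centralizer ({y} : Set G)) :
    centralizer ({y} : Set G) = centralizer ({x} : Set G) ∧ Bad y := by
  obtain ⟨a, b, ha, hb, hab⟩ := hx.2
  refine ⟨?_, hy, a, b,
    mem_centralizer_singleton_iff.1 (hle (mem_centralizer_singleton_iff.2 ha)),
    mem_centralizer_singleton_iff.1 (hle (mem_centralizer_singleton_iff.2 hb)), hab⟩
  rcases eq_or_lt_of_le hle with e | e
  · exact e.symm
  · exact absurd ((h.isCoatom_centralizer hx).2 _ e) fun e' =>
      hy (mem_center_iff.2 fun g => mem_centralizer_singleton_iff.1 (e' ▸ mem_top g))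

/-- Every power of a bad element which is not central is bad, with the same centraliser. -/
theorem Hyp.bad_pow {x : G} (hx : Bad x) {n : ℕ} (hn : x ^ n ∉ center G) :
    centralizer ({x ^ n} : Set G) = centralizer ({x} : Set G) ∧ Bad (x ^ n) :=
  h.centralizer_eq_of_central hx hn fun g hg => mem_centralizer_singleton_iff.2
    ((Commute.pow_right (mem_centralizer_singleton_iff.1 hg : g * x = x * g) n).eq)

/-- There is a bad element of prime order modulo the centre. -/
theorem Hyp.exists_bad_prime [Finite G] :
    ∃ (p : ℕ) (x : G), p.Prime ∧ Bad x ∧ x ^ p ∈ center G ∧ ∃ k : ℕ, orderOf x = p ^ k := by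
  classical
  obtain ⟨x, hx⟩ := exists_bad_of_not_isCA h.not_ca
  have hord : ∀ n : ℕ, ∀ y : G, orderOf y = n → Bad y →
      ∃ (p : ℕ) (x : G), p.Prime ∧ Bad x ∧ x ^ p ∈ center G ∧ ∃ k : ℕ, orderOf x = p ^ k := by
    intro n
    induction n using Nat.strong_induction_on with
    | _ n ih =>
      intro y hy hbad
      have hn1 : n ≠ 1 := fun e => hbad.1 (by rw [orderOf_eq_one_iff.1 (hy.trans e)]; exact one_mem _)
      have hn0 : 0 < n := hy ▸ orderOf_pos y
      obtain ⟨p, hp, hpn⟩ := Nat.exists_prime_and_dvd hn1
      by_cases hc : y ^ p ∈ center G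
      · by_cases hpow : ∃ k, n = p ^ k
        · exact ⟨p, y, hp, hbad, hc, hy ▸ hpow⟩
        · obtain ⟨k, m, hm, rfl⟩ := Nat.exists_eq_pow_mul_and_not_dvd hn0.ne' p hp.ne_one
          have hm1 : m ≠ 1 := fun e => hpow ⟨k, by rw [e, mul_one]⟩
          have hym : y ^ m ∉ center G := fun hcm => hbad.1 <| by
            have h1 : y ^ (Nat.gcd p m) ∈ center G := by
              have e := Nat.gcd_eq_gcd_ab p m
              rw [← zpow_natCast, e, zpow_add, zpow_mul, zpow_mul]
              exact mul_mem (zpow_mem (by rwa [zpow_natCast]) _) (zpow_mem (by rwa [zpow_natCast]) _)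
            rwa [(hp.coprime_iff_not_dvd.2 hm).gcd_eq_one, pow_one] at h1
          have hlt : orderOf (y ^ m) < p ^ k * m := by
            have hm0 : m ≠ 0 := fun e => hm (e ▸ dvd_zero p)
            rw [orderOf_pow' _ hm0, hy, Nat.gcd_eq_right (dvd_mul_left m _),
              Nat.mul_div_cancel _ (Nat.pos_of_ne_zero hm0)]
            exact lt_mul_of_one_lt_right (pow_pos hp.pos k) (by omega)
          exact ih _ hlt _ rfl (h.bad_pow hbad hym).2
      · have hlt : orderOf (y ^ p) < n := by
          rw [orderOf_pow' _ hp.ne_zero, hy, Nat.gcd_eq_right hpn]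
          exact Nat.div_lt_self hn0 hp.one_lt
        exact ih _ hlt _ rfl (h.bad_pow hbad hc).2
  exact hord _ x rfl hx

/-- The centraliser of a bad element is its own normaliser, unless it is normal. -/
theorem Hyp.normalizer_centralizer {x : G} (hx : Bad x)
    (hn : ¬ (centralizer ({x} : Set G)).Normal) :
    normalizer ((centralizer ({x} : Set G) : Subgroup G) : Set G) = centralizer ({x} : Set G) := by
  rcases eq_or_lt_of_le (le_normalizer (H := centralizer ({x} : Set G))) with e | e
  · exact e.symm
  · exact absurd ((h.isCoatom_centralizer hx).2 _ e) fun e' => hn (normalizer_eq_top_iff.1 e')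

end Cfsg.Agent.Lib.MinNonCA34
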