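import Mathlib
import Cfsg.Prelude.Def_Solvable
import Cfsg.Prelude.Def_Transfer
import Cfsg.Prelude.Def_PLocal
import Cfsg.Prelude.Def_LocalStructure
import Cfsg.Prelude.Def_Sz
import Cfsg.Agent.Lib.MinNonCA34.Basic

/-!
# Minimal non-CA groups: the interfaces between the parts of the proof

Every `...Brick` below is a proposition that one file of `Lib/MinNonCA34` proves as a theorem of the same name in
lower camel case; `Assemble` derives the classification from them.
-/

set_option autoImplicit false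

namespace Cfsg.Agent.Lib.MinNonCA34

open Subgroup

universe u

/-- `G / Z(G)` is isomorphic to some `PSL₂(F)` whose number of elements satisfies `P`. -/
def PSLQuot (G : Type u) [Group G] (P : ℕ → Prop) : Prop :=
  ∃ (F : Type) (_ : Field F) (_ : Fintype F), P (Fintype.card F) ∧
    Nonempty ((G ⧸ center G) ≃* Matrix.ProjectiveSpecialLinearGroup (Fin 2) F)

/-- A perfect minimal non-CA group with simple central quotient. -/
structure QS (G : Type u) [Group G] : Prop extends Hyp G where
  perfect : commutator G = ⊤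
  simple : IsSimpleGroup (G ⧸ center G)

/-- The Klein four configuration: `a` is bad, `{1, a, b, a * b}` is a Sylow 2-subgroup, `n` permutes it transitively
and `O` is the odd normal complement of it in the centraliser of `a`. -/
structure Klein (G : Type u) [Group G] (a b n : G) (O : Subgroup G) : Prop where
  order_a : orderOf a = 2
  order_b : orderOf b = 2
  comm_ab : a * b = b * a
  ne_ab : a ≠ b
  bad_a : Bad a
  sylow : ∀ P : Sylow 2 G, Nat.card P = 4
  conj_a : n * a * n⁻¹ = b
  conj_b : n * b * n⁻¹ = a * b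
  odd_O : Odd (Nat.card O)
  O_le : O ≤ centralizer ({a} : Set G)
  O_normal : centralizer ({a} : Set G) ≤ normalizer (O : Set G)
  cover : ∀ g : G, g * a = a * g → ∃ o ∈ O, g = o ∨ g = o * a ∨ g = o * b ∨ g = o * (a * b)

/-- A nonabelian CA 2-group: all squares are central, or it is generalised dihedral modulo its centre. -/
def TwoShapeBrick : Prop :=
  ∀ (P : Type u) [Group P] [Finite P], IsPGroup 2 P → IsCA P → ¬ IsMulCommutative P →
    (∀ x : P, x * x ∈ center P) ∨
      ∃ A : Subgroup P, A.index = 2 ∧ center P ≤ A ∧ (∀ x ∈ A, ∀ y ∈ A, x * y = y * x) ∧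
        ∀ s : P, s ∉ A → ∀ x ∈ A, s * x * s⁻¹ * x ∈ center P

/-- The central quotient of a non-abelian CA-group has a partition by the centralisers. -/
def CAQuotBrick : Prop :=
  ∀ (H : Type u) [Group H] [Finite H], IsCA H → ¬ IsMulCommutative H →
    Nonempty ((H ⧸ center H) ≃* Equiv.Perm (Fin 4)) ∨
    (∃ p : ℕ, p.Prime ∧ closure {g : H ⧸ center H | g ^ p ≠ 1} ≠ ⊤) ∨
    (∃ K : Subgroup (H ⧸ center H), Cfsg.IsFrobeniusComplement K) ∨
    (∃ (F : Type) (_ : Field F) (_ : Fintype F), 4 ≤ Fintype.card F ∧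
        Nonempty ((H ⧸ center H) ≃* Matrix.ProjectiveSpecialLinearGroup (Fin 2) F)) ∨
    (∃ (F : Type) (_ : Field F) (_ : Fintype F), 5 ≤ Fintype.card F ∧ Odd (Fintype.card F) ∧
        Nonempty ((H ⧸ center H) ≃* (GL (Fin 2) F ⧸ Subgroup.center (GL (Fin 2) F)))) ∨
    Cfsg.Lie.IsoSuzuki (H ⧸ center H)

/-- A perfect CA-group is a central extension of `PSL₂(q)`. -/
def PerfectCABrick : Prop :=
  ∀ (K : Type u) [Group K] [Finite K], IsCA K → commutator K = ⊤ → Nontrivial K →
    IsSimpleGroup (K ⧸ center K) ∧ PSLQuot K (fun q => 4 ≤ q)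

/-- A minimal non-CA group is perfect. -/
def PerfectBrick : Prop :=
  ∀ (G : Type u) [Group G] [Finite G], Hyp G → commutator G = ⊤

/-- A perfect minimal non-CA group is quasisimple. -/
def RadicalBrick : Prop :=
  ∀ (G : Type u) [Group G] [Finite G], Hyp G → commutator G = ⊤ → IsSimpleGroup (G ⧸ center G)

/-- Transfer into an abelian Sylow subgroup of a perfect group. -/
def TransferBrick : Prop :=
  ∀ (G : Type u) [Group G] [Finite G], commutator G = ⊤ → ∀ (p : ℕ) [Fact p.Prime] (P : Sylow p G),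
    IsMulCommutative P → ∀ y ∈ (P : Subgroup G),
      (∀ g ∈ normalizer ((P : Subgroup G) : Set G), g * y = y * g) → y = 1

/-- The centre of a nonabelian Sylow 2-subgroup is central. -/
def CenterSylowBrick : Prop :=
  ∀ (G : Type u) [Group G] [Finite G], QS G → ∀ S : Sylow 2 G, ¬ IsMulCommutative S →
    ∀ z ∈ (S : Subgroup G), (∀ s ∈ (S : Subgroup G), s * z = z * s) → z ∈ center G

/-- If `G / Z(G)` is `PSL₂(q)`, no bad element has odd prime power order. -/
def PSLKillBrick : Prop :=
  ∀ (G : Type u) [Group G] [Finite G], QS G → PSLQuot G (fun q => 4 ≤ q) →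
    ∀ (x : G) (p k : ℕ), p.Prime → p ≠ 2 → orderOf x = p ^ k → ¬ Bad x

/-- Odd Sylow subgroups of central extensions of `PSL₂(q)`, `q ≠ 9`, are abelian. -/
def SylowAbelianBrick : Prop :=
  ∀ (G : Type u) [Group G] [Finite G], PSLQuot G (fun q => 4 ≤ q ∧ q ≠ 9) →
    ∀ (p : ℕ) [Fact p.Prime], p ≠ 2 → ∀ P : Sylow p G, IsMulCommutative P

/-- The multiplier of `PSL₂(q)` has no odd part when `q ≡ 3, 5 (mod 8)`. -/
def MultiplierBrick : Prop :=
  ∀ (G : Type u) [Group G] [Finite G], commutator G = ⊤ → Odd (Nat.card (center G)) →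
    PSLQuot G (fun q => 5 < q ∧ (q % 8 = 3 ∨ q % 8 = 5)) → center G = ⊥

/-- When the centre has even order, every noncentral 2-element has abelian centraliser. -/
def TwoGoodBrick : Prop :=
  ∀ (G : Type u) [Group G] [Finite G], QS G → Even (Nat.card (center G)) →
    ∀ (t : G) (k : ℕ), orderOf t = 2 ^ k → ¬ Bad t

/-- The dihedral case of the even branch. -/
def EvenDihedralBrick : Prop :=
  ∀ (G : Type u) [Group G] [Finite G], QS G → Even (Nat.card (center G)) →
    (∀ (t : G) (k : ℕ), orderOf t = 2 ^ k → ¬ Bad t) →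
    ∀ (S : Sylow 2 G) (A : Subgroup G), A ≤ S → A.relIndex S = 2 → (S : Subgroup G) ⊓ center G ≤ A →
      (∀ x ∈ A, ∀ y ∈ A, x * y = y * x) →
      (∃ r ∈ A, ∀ x ∈ A, ∃ i : ℕ, x⁻¹ * r ^ i ∈ center G) →
      (∀ s ∈ (S : Subgroup G), s ∉ A → ∀ x ∈ A, s * x * s⁻¹ * x ∈ center G) →
      (∀ s ∈ (S : Subgroup G), s ∉ A → s * s ∈ center G) →
      PSLQuot G (fun q => 4 ≤ q)

/-- The even branch. -/
def EvenBrick : Prop :=
  ∀ (G : Type u) [Group G] [Finite G], QS G → Even (Nat.card (center G)) → PSLQuot G (fun q => 4 ≤ q)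

/-- In the odd branch some involution is bad. -/
def OddBadBrick : Prop :=
  ∀ (G : Type u) [Group G] [Finite G], QS G → Odd (Nat.card (center G)) → ∃ a : G, orderOf a = 2 ∧ Bad a

/-- A bad involution gives the Klein four configuration. -/
def KleinBrick : Prop :=
  ∀ (G : Type u) [Group G] [Finite G], QS G → Odd (Nat.card (center G)) → ∀ a : G, orderOf a = 2 → Bad a →
    ∃ (b n : G) (O : Subgroup G), Klein G a b n O

/-- The character argument: there is no prime `p ≥ 5` with a Frobenius-like Sylow normaliser over the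
centraliser of the four-group. -/
def CharBrick : Prop :=
  ∀ (G : Type u) [Group G] [Finite G], commutator G = ⊤ →
    ∀ (a b : G) (O : Subgroup G), orderOf a = 2 → orderOf b = 2 → a * b = b * a → a ≠ b →
      (∀ P : Sylow 2 G, Nat.card P = 4) →
      (∀ K : Subgroup G, K.Normal → a ∈ K → K = ⊤) →
      Odd (Nat.card O) → centralizer ({a} : Set G) ≤ normalizer (O : Set G) → O ≤ centralizer ({a} : Set G) →
      (∀ g : G, g * a = a * g → ∃ o ∈ O, g = o ∨ g = o * a ∨ g = o * b ∨ g = o * (a * b)) →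
      (∃ n : G, n * a * n⁻¹ = b ∧ n * b * n⁻¹ = a * b) →
    ∀ (p : ℕ) [Fact p.Prime], 5 ≤ p → ∀ P : Sylow p G, IsMulCommutative P → (P : Subgroup G) ≠ ⊥ →
      centralizer ((P : Subgroup G) : Set G) = centralizer ({a} : Set G) ⊓ centralizer ({b} : Set G) →
      (centralizer ((P : Subgroup G) : Set G)).relIndex (normalizer ((P : Subgroup G) : Set G)) = 3 →
      (∃ g : G, g ∈ normalizer ((P : Subgroup G) : Set G) ∧
        centralizer ((P : Subgroup G) : Set G) ⊔ zpowers g = normalizer ((P : Subgroup G) : Set G)) →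
      (∀ y : G, y ∈ (P : Subgroup G) → y ≠ 1 →
        centralizer ({y} : Set G) ⊓ normalizer ((P : Subgroup G) : Set G) = centralizer ((P : Subgroup G) : Set G)) →
      (∃ y ∈ (P : Subgroup G), y ≠ 1 ∧
        centralizer ({y} : Set G) = centralizer ({a} : Set G) ⊓ centralizer ({b} : Set G)) →
      False

/-- The 3-local argument: a non-real element of order 3 whose centraliser is `(V × W)⟨n⟩`. -/
def ThreeBrick : Prop :=
  ∀ (L : Type u) [Group L] [Finite L], commutator L = ⊤ →
    ∀ (V W : Subgroup L) (x n : L), Nat.card V = 4 → (∀ v ∈ V, v * v = 1) → IsPGroup 3 W →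
      (∀ v ∈ W, ∀ w ∈ W, v * w = w * v) → (∀ v ∈ V, ∀ w ∈ W, v * w = w * v) →
      orderOf x = 3 → x ∈ W → n * x = x * n → n ^ 3 ∈ W → n ∈ normalizer (W : Set L) →
      n ∈ normalizer (V : Set L) → (∀ v ∈ V, n * v = v * n → v = 1) →
      (∀ g : L, g * x = x * g → ∃ (i : ℕ), ∃ v ∈ V, ∃ w ∈ W, g = n ^ i * v * w) →
      (∀ g : L, g * x * g⁻¹ ≠ x⁻¹) →
      normalizer (V : Set L) ≤ centralizer ({x} : Set L) →
      (∀ w ∈ W, w ^ 3 = 1 → n * w = w * n → w ∈ zpowers x) →
      (Nat.card W = 3 → ∀ w ∈ (closure {x, n} : Subgroup L), w ∉ zpowers x → w ^ 3 = 1 →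
        Cfsg.IsPClosed 3 (centralizer ({w} : Set L)) ∨ Cfsg.HasNormalPComplement 3 (centralizer ({w} : Set L)) ∨
          ¬ 27 ∣ Nat.card (centralizer ({w} : Set L))) →
      False

/-- In the Klein configuration nothing outside the centre of `O` is fixed by `b`. -/
def FixCentralBrick : Prop :=
  ∀ (G : Type u) [Group G] [Finite G], QS G → Odd (Nat.card (center G)) →
    ∀ (a b n : G) (O : Subgroup G), Klein G a b n O → ∀ y ∈ O, y * b = b * y → y ∈ center G

/-- Brauer–Suzuki–Wall in the Klein configuration. -/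
def BSWBrick : Prop :=
  ∀ (G : Type u) [Group G] [Finite G], QS G → Odd (Nat.card (center G)) →
    ∀ (a b n : G) (O : Subgroup G), Klein G a b n O → (∀ y ∈ O, y * b = b * y → y ∈ center G) →
      PSLQuot G (fun q => 5 < q ∧ (q % 8 = 3 ∨ q % 8 = 5))

/-- The condition on the field in the conclusion. -/
def GoodCard (q : ℕ) : Prop :=
  (q.Prime ∧ 5 < q ∧ ¬ 16 ∣ q ^ 2 - 1) ∨ ∃ p : ℕ, p.Prime ∧ p ≠ 2 ∧ (q = 3 ^ p ∨ q = 5 ^ p)

/-- The proper subgroups of the listed groups are CA-groups. -/
def ProperCABrick : Prop :=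
  ∀ (F : Type) [Field F] [Fintype F], GoodCard (Fintype.card F) →
    ∀ H : Subgroup (Matrix.ProjectiveSpecialLinearGroup (Fin 2) F), H ≠ ⊤ → IsCA H

/-- The listed groups are neither solvable nor CA-groups. -/
def NotCABrick : Prop :=
  ∀ (F : Type) [Field F] [Fintype F], Odd (Fintype.card F) → 5 < Fintype.card F →
    ¬ Group.IsSolvable (Matrix.ProjectiveSpecialLinearGroup (Fin 2) F) ∧
      ¬ IsCA (Matrix.ProjectiveSpecialLinearGroup (Fin 2) F)

/-- The field condition forced by CA proper subgroups. -/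
def GoodCardBrick : Prop :=
  ∀ (F : Type) [Field F] [Fintype F], 5 < Fintype.card F →
    (Fintype.card F % 8 = 3 ∨ Fintype.card F % 8 = 5) →
    (∀ H : Subgroup (Matrix.ProjectiveSpecialLinearGroup (Fin 2) F), H ≠ ⊤ → IsCA H) →
    GoodCard (Fintype.card F)

end Cfsg.Agent.Lib.MinNonCA34
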