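import Mathlib
import Cfsg.Agent.Lib.MinNonCA34.Spec

/-!
# Minimal non-CA groups: the assembly
-/

set_option autoImplicit false

namespace Cfsg.Agent.Lib.MinNonCA34

open Subgroup

universe u

/-- The forward direction from the bricks. -/
theorem exists_psl_of_hyp (hP : PerfectBrick.{u}) (hR : RadicalBrick.{u}) (hE : EvenBrick.{u})
    (hT : TwoGoodBrick.{u}) (hK : PSLKillBrick.{u}) (hA : OddBadBrick.{u}) (hKl : KleinBrick.{u})
    (hF : FixCentralBrick.{u}) (hB : BSWBrick.{u}) (hM : MultiplierBrick.{u}) (hG : GoodCardBrick)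
    (G : Type u) [Group G] [Finite G] (h : Hyp G) :
    ∃ (F : Type) (_ : Field F) (_ : Fintype F),
      Nonempty (G ≃* Matrix.ProjectiveSpecialLinearGroup (Fin 2) F) ∧ GoodCard (Fintype.card F) := by
  have hperf := hP G h
  have hQ : QS G := ⟨h, hperf, hR G h hperf⟩
  have hodd : Odd (Nat.card (center G)) := by
    rcases Nat.even_or_odd (Nat.card (center G)) with he | ho
    · exfalso
      obtain ⟨p, x, hp, hx, -, k, hk⟩ := h.exists_bad_prime
      by_cases hp2 : p = 2
      · subst hp2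
        exact hT G hQ he x k hk hx
      · exact hK G hQ (hE G hQ he) x p k hp hp2 hk hx
    · exact ho
  obtain ⟨a, ha, hbad⟩ := hA G hQ hodd
  obtain ⟨b, n, O, hk⟩ := hKl G hQ hodd a ha hbad
  have hq := hB G hQ hodd a b n O hk (hF G hQ hodd a b n O hk)
  have hZ : center G = ⊥ := hM G hperf hodd hq
  obtain ⟨F, _, _, ⟨h5, h8⟩, ⟨e⟩⟩ := hq
  have e' : G ≃* Matrix.ProjectiveSpecialLinearGroup (Fin 2) F :=
    ((QuotientGroup.quotientMulEquivOfEq hZ).trans QuotientGroup.quotientBot).symm.trans e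
  refine ⟨F, _, _, ⟨e'⟩, hG F h5 h8 fun H hH => ?_⟩
  have hne : H.comap e'.toMonoidHom ≠ ⊤ := by
    intro htop
    refine hH (eq_top_iff.2 fun y _ => ?_)
    obtain ⟨g, rfl⟩ := e'.surjective y
    exact mem_comap.1 (htop ▸ mem_top g)
  exact ((isCA_congr (e'.subgroupMap (H.comap e'.toMonoidHom))).1 (h.sub_ca _ hne)).of_injective
    (inclusion (show H ≤ (H.comap e'.toMonoidHom).map e'.toMonoidHom by
      rw [map_comap_eq_self_of_surjective e'.surjective])) (inclusion_injective _)

/-- The listed groups have the property. -/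
theorem hyp_of_goodCard (hC : ProperCABrick) (hN : NotCABrick) {G : Type u} [Group G]
    {F : Type} [Field F] [Fintype F] (e : G ≃* Matrix.ProjectiveSpecialLinearGroup (Fin 2) F)
    (hq : GoodCard (Fintype.card F)) : Hyp G := by
  have hodd : Odd (Fintype.card F) ∧ 5 < Fintype.card F := by
    rcases hq with ⟨hp, h5, -⟩ | ⟨p, hp, hp2, h⟩
    · exact ⟨hp.odd_of_ne_two (by omega), h5⟩
    · have h3 : 3 ≤ p := by have := hp.two_le; omega
      rcases h with h | h
      · refine ⟨h ▸ Odd.pow (by decide), ?_⟩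
        have := Nat.pow_le_pow_right (show 0 < 3 by norm_num) h3
        omega
      · refine ⟨h ▸ Odd.pow (by decide), ?_⟩
        have := Nat.pow_le_pow_right (show 0 < 5 by norm_num) h3
        omega
  obtain ⟨hns, hnca⟩ := hN F hodd.1 hodd.2
  refine ⟨fun hs => hns ?_, fun hca => hnca ((isCA_congr e).1 hca), fun H hH => ?_⟩
  · have := hs
    exact Group.isSolvable_of_surjective (f := e.toMonoidHom) e.surjective
  · refine (hC F hq (H.map e.toMonoidHom) fun htop => hH ?_).of_injective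
      (e.subgroupMap H).toMonoidHom (e.subgroupMap H).injective
    exact map_injective e.injective (htop.trans (map_top_of_surjective _ e.surjective).symm)

/-- The theorem from the bricks. -/
theorem final_of_bricks (hP : PerfectBrick.{u}) (hR : RadicalBrick.{u}) (hE : EvenBrick.{u})
    (hT : TwoGoodBrick.{u}) (hK : PSLKillBrick.{u}) (hA : OddBadBrick.{u}) (hKl : KleinBrick.{u})
    (hF : FixCentralBrick.{u}) (hB : BSWBrick.{u}) (hM : MultiplierBrick.{u}) (hGC : GoodCardBrick)
    (hC : ProperCABrick) (hN : NotCABrick) {G : Type u} [Group G] [Finite G] :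
    (¬ Group.IsSolvable G ∧ ¬ (∀ x : G, x ∉ Subgroup.center G → IsMulCommutative (Subgroup.centralizer ({x} : Set G))) ∧ ∀ H : Subgroup G, H ≠ ⊤ → (∀ x : H, x ∉ Subgroup.center H → IsMulCommutative (Subgroup.centralizer ({x} : Set H)))) ↔
      ∃ (F : Type) (_ : Field F) (_ : Fintype F), Nonempty (G ≃* Matrix.ProjectiveSpecialLinearGroup (Fin 2) F) ∧
        (((Fintype.card F).Prime ∧ 5 < Fintype.card F ∧ ¬ 16 ∣ Fintype.card F ^ 2 - 1) ∨
         (∃ p : ℕ, p.Prime ∧ p ≠ 2 ∧ (Fintype.card F = 3 ^ p ∨ Fintype.card F = 5 ^ p))) := by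
  constructor
  · rintro ⟨h1, h2, h3⟩
    exact exists_psl_of_hyp hP hR hE hT hK hA hKl hF hB hM hGC G
      ⟨h1, fun h => h2 (isCA_iff.1 h), fun H hH => isCA_iff.2 (h3 H hH)⟩
  · rintro ⟨F, _, _, ⟨e⟩, hq⟩
    have h := hyp_of_goodCard hC hN e hq
    exact ⟨h.not_solvable, fun hh => h.not_ca (isCA_iff.2 hh), fun H hH => isCA_iff.1 (h.sub_ca H hH)⟩

end Cfsg.Agent.Lib.MinNonCA34
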