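import Mathlib
import Cfsg.Agent.Lib.MinNonCA34.Spec
import Cfsg.Agent.S0508
import Cfsg.Agent.Lib.Perm.ZassenhausPGL
import Cfsg.Agent.Lib.PSolvable.Core

/-!
# Minimal non-CA groups: the Klein configuration with inverted odd core

With `C_O(b) ≤ Z` the involution `b` inverts `O` modulo the centre, and the theorem of Brauer, Suzuki
and Wall identifies the central quotient.
-/

set_option autoImplicit false

namespace Cfsg.Agent.Lib.MinNonCA34

open Subgroup

universe u

namespace BSWAux

/-- An element of square one in a subgroup of odd order is trivial. -/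
theorem eq_one_of_odd {G : Type*} [Group G] [Finite G] {H : Subgroup G} (hH : Odd (Nat.card H))
    {z : G} (hz : z ∈ H) (h : z * z = 1) : z = 1 := by
  have h1 : orderOf z ∣ 2 := orderOf_dvd_of_pow_eq_one (by rw [pow_two]; exact h)
  have h2 : orderOf z ∣ Nat.card H := by
    have e := orderOf_dvd_natCard (⟨z, hz⟩ : H)
    rwa [← Subgroup.orderOf_coe] at e
  rcases (Nat.dvd_prime Nat.prime_two).1 h1 with h' | h'
  · exact orderOf_eq_one_iff.1 h'
  · exact absurd (even_iff_two_dvd.2 (h' ▸ h2)) (Nat.not_even_iff_odd.2 hH)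

/-- A proper subgroup of a simple group has big index. -/
theorem dvd_factorial_index {L : Type*} [Group L] [Finite L] [IsSimpleGroup L] {H : Subgroup L}
    (hH : H ≠ ⊤) : Nat.card L ∣ H.index.factorial := by
  have hk : (MulAction.toPermHom L (L ⧸ H)).ker = ⊥ := by
    rw [← normalCore_eq_ker]
    exact H.normalCore_normal.eq_bot_or_eq_top.resolve_right fun h =>
      hH (top_le_iff.1 (h ▸ H.normalCore_le))
  have h := Subgroup.card_dvd_of_injective _ ((MonoidHom.ker_eq_bot_iff _).1 hk)
  rwa [Nat.card_perm] at h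

variable {G : Type u} [Group G] [Finite G]

/-- Every proper normal subgroup is central. -/
theorem le_center_of_normal (h : QS G) {N : Subgroup G} [hN : N.Normal] (hne : N ≠ ⊤) :
    N ≤ center G := by
  have := h.simple
  rcases (hN.map (QuotientGroup.mk' (center G))
    (QuotientGroup.mk'_surjective _)).eq_bot_or_eq_top with e | e
  · exact fun x hx => (QuotientGroup.eq_one_iff x).1
      ((Subgroup.mem_bot).1 (e ▸ mem_map_of_mem (QuotientGroup.mk' (center G)) hx))
  · refine absurd (top_le_iff.1 (h.perfect ▸ ?_)) hne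
    rw [commutator_def, commutator_le]
    intro g _ k _
    have key : ∀ x : G, ∃ z ∈ center G, (QuotientGroup.mk' N) x = QuotientGroup.mk' N z := by
      intro x
      obtain ⟨m, hm, hmx⟩ := mem_map.1 (e.symm ▸ mem_top (QuotientGroup.mk' (center G) x))
      refine ⟨m⁻¹ * x, (QuotientGroup.eq (s := center G)).1 hmx, ?_⟩
      rw [map_mul, map_inv, show QuotientGroup.mk' N m = 1 from (QuotientGroup.eq_one_iff m).2 hm,
        inv_one, one_mul]
    obtain ⟨z, hz, hzx⟩ := key g
    obtain ⟨w, -, hwx⟩ := key k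
    rw [← QuotientGroup.eq_one_iff, ← QuotientGroup.mk'_apply, map_commutatorElement,
      commutatorElement_eq_one_iff_mul_comm, hzx, hwx, ← map_mul, ← map_mul,
      mem_center_iff.1 hz w]

/-- Commuting with an involution can be tested modulo an odd centre. -/
theorem comm_of_mk_comm (hodd : Odd (Nat.card (center G))) {t g : G} (ht : t * t = 1)
    (h : QuotientGroup.mk' (center G) (g * t) = QuotientGroup.mk' (center G) (t * g)) :
    g * t = t * g := by
  set z := (g * t)⁻¹ * (t * g) with hzdef
  have hz : z ∈ center G := (QuotientGroup.eq (s := center G)).1 h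
  have hc : ∀ x : G, z * x = x * z := fun x => (mem_center_iff.1 hz x).symm
  have e : t * g = g * t * z := by rw [hzdef]; group
  have e2 : g = g * (z * z) :=
    calc g = t * (t * g) := by rw [← mul_assoc, ht, one_mul]
      _ = t * (g * t * z) := by rw [e]
      _ = t * g * t * z := by group
      _ = g * t * z * t * z := by rw [e]
      _ = g * t * (z * t) * z := by group
      _ = g * (t * t) * (z * z) := by rw [hc t]; group
      _ = g * (z * z) := by rw [ht, mul_one]
  rw [e, eq_one_of_odd hodd hz (mul_eq_left.1 e2.symm), mul_one]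

section

variable {a b n : G} {O : Subgroup G}

theorem sq_a (hk : Klein G a b n O) : a * a = 1 := by
  have h := pow_orderOf_eq_one a
  rwa [hk.order_a, pow_two] at h

theorem sq_b (hk : Klein G a b n O) : b * b = 1 := by
  have h := pow_orderOf_eq_one b
  rwa [hk.order_b, pow_two] at h

theorem sq_ab (hk : Klein G a b n O) : a * b * (a * b) = 1 := by
  rw [mul_assoc, ← mul_assoc b, ← hk.comm_ab, mul_assoc a b b, sq_b hk, mul_one, sq_a hk]

theorem comm_a (hk : Klein G a b n O) {y : G} (hy : y ∈ O) : y * a = a * y :=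
  mem_centralizer_singleton_iff.1 (hk.O_le hy)

theorem center_le (hk : Klein G a b n O) (hodd : Odd (Nat.card (center G))) : center G ≤ O := by
  intro z hz
  obtain ⟨o, ho, hoz⟩ := hk.cover z (mem_center_iff.1 hz a).symm
  have hw : o⁻¹ * z * (o⁻¹ * z) = 1 := by
    rcases hoz with e | e | e | e <;> rw [e] <;> simp [sq_a hk, sq_b hk, sq_ab hk]
  have hcomm : Commute o⁻¹ z := mem_center_iff.1 hz o⁻¹
  have h1 : orderOf (o⁻¹ * z) ∣ 2 := orderOf_dvd_of_pow_eq_one (by rw [pow_two]; exact hw)
  have h2 : orderOf (o⁻¹ * z) ∣ Nat.card O * Nat.card (center G) := by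
    refine hcomm.orderOf_mul_dvd_mul_orderOf.trans (Nat.mul_dvd_mul ?_ ?_)
    · have e := orderOf_dvd_natCard (⟨o⁻¹, inv_mem ho⟩ : O)
      rwa [← Subgroup.orderOf_coe] at e
    · have e := orderOf_dvd_natCard (⟨z, hz⟩ : center G)
      rwa [← Subgroup.orderOf_coe] at e
  rcases (Nat.dvd_prime Nat.prime_two).1 h1 with e | e
  · rwa [← inv_mul_eq_one.1 (orderOf_eq_one_iff.1 e)]
  · exact absurd (even_iff_two_dvd.2 (e ▸ h2)) (Nat.not_even_iff_odd.2 (hk.odd_O.mul hodd))

theorem b_not_central (hk : Klein G a b n O) : b ∉ center G := fun h => hk.bad_a.1 <| by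
  have e : a = n⁻¹ * b * n := by rw [← hk.conj_a]; group
  rwa [e, mul_assoc, ← mem_center_iff.1 h n, inv_mul_cancel_left]

theorem ab_not_central (hk : Klein G a b n O) : a * b ∉ center G := fun h => b_not_central hk <| by
  have e : b = n⁻¹ * (a * b) * n := by rw [← hk.conj_b]; group
  rwa [e, mul_assoc, ← mem_center_iff.1 h n, inv_mul_cancel_left]

theorem b_mem (hk : Klein G a b n O) : b ∈ normalizer (O : Set G) :=
  hk.O_normal (mem_centralizer_singleton_iff.2 hk.comm_ab.symm)

variable (hfix : ∀ y ∈ O, y * b = b * y → y ∈ center G)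
include hfix

/-- `b` moves every nontrivial element of the image of `O`. -/
theorem fix_quot (hk : Klein G a b n O) (hodd : Odd (Nat.card (center G))) {y : G} (hy : y ∈ O)
    (h : QuotientGroup.mk' (center G) (y * b) = QuotientGroup.mk' (center G) (b * y)) :
    y ∈ center G :=
  hfix y hy (comm_of_mk_comm hodd (sq_b hk) h)

/-- `b` inverts `O` modulo the centre. -/
theorem inv_quot (hk : Klein G a b n O) (hodd : Odd (Nat.card (center G))) {y : G} (hy : y ∈ O) :
    QuotientGroup.mk' (center G) (b * y * b⁻¹) = (QuotientGroup.mk' (center G) y)⁻¹ := by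
  set π := QuotientGroup.mk' (center G) with hπ
  have hb2 : π b * π b = 1 := by rw [← map_mul, sq_b hk, map_one]
  have hbi : (π b)⁻¹ = π b := inv_eq_of_mul_eq_one_right hb2
  let M : Subgroup (G ⧸ center G) := O.map π
  have hM : ∀ q ∈ M, q⁻¹ * (π b * q * (π b)⁻¹) ∈ M := by
    intro q hq
    obtain ⟨x, hx, rfl⟩ := mem_map.1 hq
    rw [← map_inv π b, ← map_mul, ← map_mul, ← map_inv, ← map_mul]
    exact mem_map_of_mem _ (mul_mem (inv_mem hx) ((mem_normalizer_iff.1 (b_mem hk) x).1 hx))
  let φ : M → M := fun q => ⟨(q : G ⧸ center G)⁻¹ * (π b * q * (π b)⁻¹), hM q q.2⟩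
  have hinj : Function.Injective φ := by
    intro q r e
    have e' : (q : G ⧸ center G)⁻¹ * (π b * q * (π b)⁻¹)
        = (r : G ⧸ center G)⁻¹ * (π b * r * (π b)⁻¹) := congrArg Subtype.val e
    obtain ⟨x, hx, hxe⟩ := mem_map.1 (mul_mem r.2 (inv_mem q.2))
    have hc : π x * π b = π b * π x := by
      rw [hxe]
      calc (r : G ⧸ center G) * (q : G ⧸ center G)⁻¹ * π b
          = r * ((q : G ⧸ center G)⁻¹ * (π b * q * (π b)⁻¹)) * (π b * (q : G ⧸ center G)⁻¹) := by group
        _ = π b * ((r : G ⧸ center G) * (q : G ⧸ center G)⁻¹) := by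
          rw [e', hbi]
          simp only [mul_assoc, mul_inv_cancel_left]
          rw [← mul_assoc (π b) (π b), hb2, one_mul]
    have hxc : x ∈ center G := fix_quot hfix hk hodd hx (by rw [map_mul, map_mul]; exact hc)
    have h1 : (r : G ⧸ center G) * (q : G ⧸ center G)⁻¹ = 1 :=
      hxe ▸ (QuotientGroup.eq_one_iff x).2 hxc
    exact (Subtype.ext (mul_inv_eq_one.1 h1)).symm
  obtain ⟨q, hq⟩ := Finite.injective_iff_surjective.1 hinj ⟨π y, mem_map_of_mem _ hy⟩
  have hw : (q : G ⧸ center G)⁻¹ * (π b * q * (π b)⁻¹) = π y := congrArg Subtype.val hq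
  rw [map_mul, map_mul, map_inv, ← hw, hbi]
  simp only [mul_inv_rev, inv_inv, hbi, mul_assoc, hb2, mul_one]

theorem O_comm_quot (hk : Klein G a b n O) (hodd : Odd (Nat.card (center G))) {y x : G}
    (hy : y ∈ O) (hx : x ∈ O) :
    Commute (QuotientGroup.mk' (center G) y) (QuotientGroup.mk' (center G) x) := by
  have e := inv_quot hfix hk hodd (mul_mem hy hx)
  rw [show b * (y * x) * b⁻¹ = b * y * b⁻¹ * (b * x * b⁻¹) by group,
    map_mul _ (b * y * b⁻¹), map_mul _ y x,
    inv_quot hfix hk hodd hy, inv_quot hfix hk hodd hx, ← mul_inv_rev, inv_inj] at e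
  exact e.symm

/-- A non-central element of `O` is inverted by `b` and centralised only inside `C(a)`. -/
theorem centralizer_le (hk : Klein G a b n O) (h : QS G) (hodd : Odd (Nat.card (center G)))
    {y : G} (hy : y ∈ O) (hyc : y ∉ center G) {g : G} (hg : g * y = y * g) : g * a = a * g := by
  by_contra hga
  have hbad : Bad y := ⟨hyc, g, a, hg, (comm_a hk hy).symm, hga⟩
  set z := y * (b * y * b⁻¹) with hzdef
  have hz : z ∈ center G := (QuotientGroup.eq_one_iff z).1 <| by
    rw [← QuotientGroup.mk'_apply, hzdef, map_mul, inv_quot hfix hk hodd hy, mul_inv_cancel]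
  have hbN : b ∈ normalizer ((centralizer ({y} : Set G) : Subgroup G) : Set G) := by
    have key : ∀ x : G, x ∈ centralizer ({y} : Set G) → b * x * b⁻¹ ∈ centralizer ({y} : Set G) := by
      intro x hx
      have h1 : Commute (b * x * b⁻¹) (b * y * b⁻¹) :=
        (Commute.conj_iff b).2 (mem_centralizer_singleton_iff.1 hx)
      have h2 : y = z * (b * y * b⁻¹)⁻¹ := by rw [hzdef]; group
      rw [mem_centralizer_singleton_iff]
      show Commute (b * x * b⁻¹) y
      rw [h2]
      exact (show Commute (b * x * b⁻¹) z from mem_center_iff.1 hz _).mul_right h1.inv_right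
    refine mem_normalizer_iff.2 fun x => ⟨key x, fun hx => ?_⟩
    have hbi : b⁻¹ = b := inv_eq_of_mul_eq_one_right (sq_b hk)
    have h' := key _ hx
    rwa [hbi, show b * (b * x * b) * b = b * b * x * (b * b) by group, sq_b hk, one_mul,
      mul_one] at h'
  have hn : ¬ (centralizer ({y} : Set G)).Normal := fun hnn =>
    hk.bad_a.1 (le_center_of_normal h hbad.centralizer_ne_top
      (mem_centralizer_singleton_iff.2 (comm_a hk hy).symm))
  rw [h.toHyp.normalizer_centralizer hbad hn, mem_centralizer_singleton_iff] at hbN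
  exact hyc (hfix y hy hbN.symm)

/-- The normaliser modulo the centre of a non-central element of `O` centralises `a`. -/
theorem conj_fix (hk : Klein G a b n O) (h : QS G) (hodd : Odd (Nat.card (center G)))
    {y g : G} (hy : y ∈ O) (hyc : y ∉ center G) (hg : g * y * g⁻¹ ∈ O) : g * a = a * g := by
  have hyc' : g * y * g⁻¹ ∉ center G := fun hc => hyc <| by
    have e : y = g⁻¹ * (g * y * g⁻¹ * g) := by group
    rwa [e, ← mem_center_iff.1 hc g, inv_mul_cancel_left]
  set t := g * a * g⁻¹ with ht
  have ht2 : t * t = 1 := by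
    rw [ht, show g * a * g⁻¹ * (g * a * g⁻¹) = g * (a * a) * g⁻¹ by group, sq_a hk]; group
  have hty : t * (g * y * g⁻¹) = g * y * g⁻¹ * t :=
    ((Commute.conj_iff g).2 (comm_a hk hy).symm).eq
  have hta : t * a = a * t := centralizer_le hfix hk h hodd hg hyc' hty
  obtain ⟨o, ho, hot⟩ := hk.cover t hta
  have hoy := O_comm_quot hfix hk hodd ho hg
  rcases hot with e | e | e | e
  · have h1 : t = 1 := eq_one_of_odd hk.odd_O (e ▸ ho) ht2
    exact absurd (by rw [conj_eq_one_iff.1 h1]; exact one_mem _) hk.bad_a.1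
  · have h1 : o * o = 1 := by
      rw [e, show o * a * (o * a) = o * (a * o) * a by group, ← comm_a hk ho,
        show o * (o * a) * a = o * o * (a * a) by group, sq_a hk, mul_one] at ht2
      exact ht2
    rw [eq_one_of_odd hk.odd_O ho h1, one_mul] at e
    exact mul_inv_eq_iff_eq_mul.1 e
  · exfalso
    refine hyc' (fix_quot hfix hk hodd hg ?_)
    rw [map_mul, map_mul]
    refine Commute.eq ?_
    rw [show b = o⁻¹ * t by rw [e]; group, map_mul, map_inv]
    exact (hoy.symm.inv_right).mul_right ((show Commute t (g * y * g⁻¹) from hty).symm.map _)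
  · exfalso
    refine hyc' (fix_quot hfix hk hodd hg ?_)
    rw [map_mul, map_mul]
    refine Commute.eq ?_
    rw [show b = a⁻¹ * (o⁻¹ * t) by rw [e]; group, map_mul, map_inv, map_mul, map_inv]
    exact ((show Commute (g * y * g⁻¹) a from comm_a hk hg).map _).inv_right.mul_right
      ((hoy.symm.inv_right).mul_right ((show Commute t (g * y * g⁻¹) from hty).symm.map _))

end

end BSWAux

open BSWAux in
/-- Brauer–Suzuki–Wall in the Klein configuration. -/
theorem bsw : BSWBrick.{u} := by
  intro G _ _ h hodd a b n O hk hfix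
  classical
  have : IsSimpleGroup (G ⧸ center G) := h.simple
  have : Fact (Nat.Prime 2) := ⟨Nat.prime_two⟩
  set π := QuotientGroup.mk' (center G) with hπdef
  have hπ : Function.Surjective π := QuotientGroup.mk'_surjective _
  have hker : ∀ x : G, π x = 1 ↔ x ∈ center G := fun x => QuotientGroup.eq_one_iff x
  have ha1 : π a ≠ 1 := fun e => hk.bad_a.1 ((hker a).1 e)
  have hb1 : π b ≠ 1 := fun e => b_not_central hk ((hker b).1 e)
  have hab1 : π (a * b) ≠ 1 := fun e => ab_not_central hk ((hker _).1 e)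
  have hsa : π a * π a = 1 := by rw [← map_mul, sq_a hk, map_one]
  have hsb : π b * π b = 1 := by rw [← map_mul, sq_b hk, map_one]
  have hsab : π a * π b * (π a * π b) = 1 := by rw [← map_mul, ← map_mul, sq_ab hk, map_one]
  have hcab : π a * π b = π b * π a := by rw [← map_mul, hk.comm_ab, map_mul]
  rw [map_mul] at hab1
  have hia : (π a)⁻¹ = π a := inv_eq_of_mul_eq_one_right hsa
  have hib : (π b)⁻¹ = π b := inv_eq_of_mul_eq_one_right hsb
  have hne : π a ≠ π b := fun e => hab1 (by rw [e, hsb])
  -- the four-group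
  let V : Subgroup (G ⧸ center G) :=
    { carrier := {x | x = 1 ∨ x = π a ∨ x = π b ∨ x = π a * π b}
      one_mem' := Or.inl rfl
      mul_mem' := by
        have r1 : π b * π a = π a * π b := hcab.symm
        rintro x y (rfl | rfl | rfl | rfl) (rfl | rfl | rfl | rfl) <;>
          simp only [Set.mem_setOf_eq, one_mul, mul_one, true_or, or_true, hsa, hsb, hsab, r1,
            show π a * (π a * π b) = π b by rw [← mul_assoc, hsa, one_mul],
            show π a * π b * π b = π a by rw [mul_assoc, hsb, mul_one],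
            show π a * π b * π a = π b by rw [mul_assoc, r1, ← mul_assoc, hsa, one_mul],
            show π b * (π a * π b) = π a by rw [← mul_assoc, r1, mul_assoc, hsb, mul_one]]
      inv_mem' := by
        rintro x (rfl | rfl | rfl | rfl) <;>
          simp only [Set.mem_setOf_eq, inv_one, hia, hib, true_or, or_true,
            mul_inv_rev, hcab.symm] }
  have hVmem : ∀ x, x ∈ V ↔ (x = 1 ∨ x = π a ∨ x = π b ∨ x = π a * π b) := fun x => Iff.rfl
  have hVset : (V : Set (G ⧸ center G)) = ({1, π a, π b, π a * π b} : Set _) := by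
    ext x; simp only [Set.mem_insert_iff, Set.mem_singleton_iff]; exact hVmem x
  have hV4 : Nat.card V = 4 := by
    show Nat.card ↥(V : Set (G ⧸ center G)) = 4
    rw [hVset, Nat.card_coe_set_eq]
    rw [Set.ncard_insert_of_notMem, Set.ncard_insert_of_notMem, Set.ncard_pair]
    · exact fun e => ha1 (right_eq_mul.1 e)
    · simp only [Set.mem_insert_iff, Set.mem_singleton_iff, not_or]
      exact ⟨hne, fun e => hb1 (left_eq_mul.1 e)⟩
    · simp only [Set.mem_insert_iff, Set.mem_singleton_iff, not_or]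
      exact ⟨Ne.symm ha1, Ne.symm hb1, Ne.symm hab1⟩
  have hV2 : ∀ x : V, x * x = 1 := by
    rintro ⟨x, hx⟩
    refine Subtype.ext ?_
    show x * x = 1
    rcases hx with rfl | rfl | rfl | rfl
    exacts [one_mul 1, hsa, hsb, hsab]
  -- the Sylow 2-subgroup of the quotient
  obtain ⟨S, hVS⟩ := (IsPGroup.of_card (p := 2) (n := 2) (by rw [hV4]; norm_num) : IsPGroup 2 V).exists_le_sylow
  have hS4 : Nat.card S ≤ 4 := by
    obtain ⟨P, hP⟩ := Sylow.mapSurjective_surjective (f := π) hπ 2 S
    have h1 : Nat.card S ∣ Nat.card P := by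
      rw [← hP]
      exact Subgroup.card_map_dvd _ _
    rw [hk.sylow P] at h1
    exact Nat.le_of_dvd (by norm_num) h1
  have hSV : V = (S : Subgroup (G ⧸ center G)) :=
    Subgroup.eq_of_le_of_card_ge hVS (by rw [hV4]; exact hS4)
  have hS4' : Nat.card S = 4 := by rw [← hV4, hSV]
  have hKV : IsKleinFour V := by
    refine ⟨hV4, ?_⟩
    refine (Nat.dvd_prime Nat.prime_two).1 ?_ |>.resolve_left fun e => ?_
    · exact Monoid.exponent_dvd_of_forall_pow_eq_one fun x => by rw [pow_two]; exact hV2 x
    · have := Monoid.exp_eq_one_iff.1 e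
      have h1 := Nat.card_of_subsingleton (1 : V)
      omega
  -- the odd core of the centraliser of the involution
  set O' : Subgroup (G ⧸ center G) := O.map π with hO'
  set C : Subgroup (G ⧸ center G) := centralizer ({π a} : Set (G ⧸ center G)) with hC
  have hCmem : ∀ x : G, π x ∈ C → x * a = a * x := fun x hx =>
    comm_of_mk_comm hodd (sq_a hk) (by
      rw [← hπdef, map_mul, map_mul]; exact mem_centralizer_singleton_iff.1 hx)
  have hO'C : O' ≤ C := by
    rintro x ⟨y, hy, rfl⟩
    rw [hC, mem_centralizer_singleton_iff, ← map_mul, comm_a hk hy, map_mul]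
  have hVC : V ≤ C := by
    intro x hx
    rw [hC, mem_centralizer_singleton_iff]
    rcases hx with rfl | rfl | rfl | rfl
    · rw [one_mul, mul_one]
    · rfl
    · exact hcab.symm
    · rw [mul_assoc, hcab.symm]
  have hdec : ∀ x ∈ C, ∃ o ∈ O', ∃ v ∈ V, x = o * v := by
    intro x hx
    obtain ⟨g, rfl⟩ := hπ x
    obtain ⟨o, ho, e⟩ := hk.cover g (hCmem g hx)
    refine ⟨π o, mem_map_of_mem _ ho, ?_⟩
    rcases e with rfl | rfl | rfl | rfl
    · exact ⟨1, one_mem _, (mul_one _).symm⟩
    · exact ⟨π a, Or.inr (Or.inl rfl), map_mul ..⟩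
    · exact ⟨π b, Or.inr (Or.inr (Or.inl rfl)), map_mul ..⟩
    · exact ⟨π a * π b, Or.inr (Or.inr (Or.inr rfl)), by rw [map_mul, map_mul]⟩
  have hO'odd : Odd (Nat.card O') := hk.odd_O.of_dvd_nat (Subgroup.card_map_dvd _ _)
  have hO'n : C ≤ normalizer (O' : Set (G ⧸ center G)) := by
    intro x hx
    obtain ⟨g, rfl⟩ := hπ x
    exact le_normalizer_map π
      (mem_map_of_mem _ (hk.O_normal (mem_centralizer_singleton_iff.2 (hCmem g hx))))
  have hcore : O' = (Cfsg.oddCore C).map C.subtype := by
    have hle : O'.subgroupOf C ≤ Cfsg.oddCore C := by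
      have : (O'.subgroupOf C).Normal := (normal_subgroupOf_iff_le_normalizer hO'C).2 hO'n
      refine PSolvable.le_pPrimeCore ?_
      rw [Nat.card_congr (subgroupOfEquivOfLe hO'C).toEquiv]
      exact Nat.coprime_two_right.2 hO'odd
    apply le_antisymm
    · intro x hx
      exact ⟨⟨x, hO'C hx⟩, hle (mem_subgroupOf.2 hx), rfl⟩
    · rintro x ⟨⟨y, hy⟩, hyc, rfl⟩
      obtain ⟨o, ho, v, hv, rfl⟩ := hdec y hy
      show o * v ∈ O'
      have hvc : (⟨v, hVC hv⟩ : C) ∈ Cfsg.oddCore C := by
        have e := mul_mem (inv_mem (hle (mem_subgroupOf.2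
          (show ((⟨o, hO'C ho⟩ : C) : G ⧸ center G) ∈ O' from ho)))) hyc
        rwa [show (⟨o, hO'C ho⟩ : C)⁻¹ * ⟨o * v, hy⟩ = ⟨v, hVC hv⟩ from
          Subtype.ext (inv_mul_cancel_left o v)] at e
      have h1 := eq_one_of_odd (Nat.coprime_two_right.1 (PSolvable.pPrimeCore_coprime (p := 2)
          (G := C))) hvc (Subtype.ext (show v * v = 1 from congrArg Subtype.val (hV2 ⟨v, hv⟩)))
      rw [show v = 1 from congrArg Subtype.val h1, mul_one]
      exact ho
  -- inversion
  have hinv : ∀ y ∈ O', π b * y * (π b)⁻¹ = y⁻¹ := by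
    rintro y ⟨x, hx, rfl⟩
    rw [← map_inv π b, ← map_mul, ← map_mul]
    exact inv_quot hfix hk hodd hx
  have hca : ∀ y ∈ O', π a * y * (π a)⁻¹ = y := fun y hy => by
    rw [show π a * y = y * π a from (mem_centralizer_singleton_iff.1 (hO'C hy)).symm,
      mul_inv_cancel_right]
  have hinvab : ∀ y ∈ O', π a * π b * y * (π a * π b)⁻¹ = y⁻¹ := fun y hy => by
    rw [show π a * π b * y * (π a * π b)⁻¹ = π a * (π b * y * (π b)⁻¹) * (π a)⁻¹ by group,
      hinv y hy, hca _ (inv_mem hy)]
  have hO'ne : O' ≠ ⊥ := by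
    intro e
    have hOc : ∀ o ∈ O, o ∈ center G := fun o ho =>
      (hker o).1 (mem_bot.1 (e ▸ mem_map_of_mem π ho))
    obtain ⟨-, x, y, hx, hy, hxy⟩ := hk.bad_a
    obtain ⟨o, ho, hx'⟩ := hk.cover x hx
    obtain ⟨o', ho', hy'⟩ := hk.cover y hy
    have hcc : ∀ (o : G), o ∈ center G → ∀ g, Commute o g := fun o ho g => (mem_center_iff.1 ho g).symm
    have cab : Commute a b := hk.comm_ab
    refine hxy ?_
    have key : ∀ v w : G, (v = 1 ∨ v = a ∨ v = b ∨ v = a * b) →
        (w = 1 ∨ w = a ∨ w = b ∨ w = a * b) → Commute (o * v) (o' * w) := by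
      intro v w hv hw
      refine ((hcc o (hOc o ho) _)).mul_left ((hcc o' (hOc o' ho') v).symm.mul_right ?_)
      rcases hv with e1 | e1 | e1 | e1 <;> rcases hw with e2 | e2 | e2 | e2 <;> rw [e1, e2] <;>
        first
          | exact Commute.one_left _
          | exact Commute.one_right _
          | exact Commute.refl _
          | exact cab
          | exact cab.symm
          | exact (Commute.refl a).mul_right cab
          | exact ((Commute.refl a).mul_right cab).symm
          | exact cab.symm.mul_right (Commute.refl b)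
          | exact (cab.symm.mul_right (Commute.refl b)).symm
    obtain ⟨v, hv, rfl⟩ : ∃ v, (v = 1 ∨ v = a ∨ v = b ∨ v = a * b) ∧ x = o * v := by
      rcases hx' with e | e | e | e
      exacts [⟨1, Or.inl rfl, by rw [mul_one]; exact e⟩, ⟨a, by simp, e⟩, ⟨b, by simp, e⟩,
        ⟨a * b, by simp, e⟩]
    obtain ⟨w, hw, rfl⟩ : ∃ w, (w = 1 ∨ w = a ∨ w = b ∨ w = a * b) ∧ y = o' * w := by
      rcases hy' with e | e | e | e
      exacts [⟨1, Or.inl rfl, by rw [mul_one]; exact e⟩, ⟨a, by simp, e⟩, ⟨b, by simp, e⟩,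
        ⟨a * b, by simp, e⟩]
    exact key v w hv hw
  have hnc : ∀ s : G ⧸ center G, (∀ y ∈ O', s * y * s⁻¹ = y⁻¹) →
      s ∉ centralizer (O' : Set (G ⧸ center G)) := by
    intro s hs hc
    refine hO'ne ((Subgroup.eq_bot_iff_forall _).2 fun y hy => eq_one_of_odd hO'odd hy ?_)
    have e : y⁻¹ = y := by
      rw [← hs y hy, ← mem_centralizer_iff.1 hc y hy, mul_inv_cancel_right]
    exact mul_eq_one_iff_inv_eq.2 e
  have hSmem : ∀ x, x ∈ (S : Subgroup (G ⧸ center G)) ↔
      (x = 1 ∨ x = π a ∨ x = π b ∨ x = π a * π b) := fun x => by rw [← hSV]; exact hVmem x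
  have hinf : (S : Subgroup (G ⧸ center G)) ⊓ centralizer (O' : Set (G ⧸ center G))
      = zpowers (π a) := by
    apply le_antisymm
    · rintro x ⟨hx, hxc⟩
      rcases (hSmem x).1 hx with rfl | rfl | rfl | rfl
      · exact one_mem _
      · exact mem_zpowers _
      · exact absurd hxc (hnc _ hinv)
      · exact absurd hxc (hnc _ hinvab)
    · rw [zpowers_le]
      exact ⟨(hSmem _).2 (Or.inr (Or.inl rfl)), mem_centralizer_iff.2 fun y hy =>
        mem_centralizer_singleton_iff.1 (hO'C hy)⟩
  have hoa : orderOf (π a) = 2 := orderOf_eq_prime (by rw [pow_two]; exact hsa) ha1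
  obtain ⟨F, _, _, hFodd, ⟨e⟩⟩ := S0508.result (G := G ⧸ center G) S 2 le_rfl
    (by
      have : IsKleinFour V := hKV
      obtain ⟨e⟩ : Nonempty (V ≃* DihedralGroup 2) := IsKleinFour.nonempty_mulEquiv
      exact ⟨(MulEquiv.subgroupCongr hSV).symm.trans e⟩)
    (π a) hoa ((hSmem _).2 (Or.inr (Or.inl rfl)))
    (fun s hs => mem_centralizer_singleton_iff.1 (hVC (hSV ▸ hs))) O' hcore
    (fun _ => by
      rw [hinf]
      refine ⟨inferInstance, ?_⟩
      have h1 := PSolvable.card_mul_relIndex (H := zpowers (π a))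
        (K := (S : Subgroup (G ⧸ center G))) (hinf ▸ inf_le_left)
      rw [Nat.card_zpowers, hoa, hS4'] at h1
      omega)
    (by
      intro s hs hsc y hy
      rcases (hSmem s).1 hs with rfl | rfl | rfl | rfl
      · exact absurd (one_mem _) hsc
      · exact absurd (mem_centralizer_iff.2 fun y hy =>
          mem_centralizer_singleton_iff.1 (hO'C hy)) hsc
      · exact hinv y hy
      · exact hinvab y hy)
    (by
      intro Y hY hYne x hx
      obtain ⟨y, hy, hy1⟩ : ∃ y ∈ Y, y ≠ 1 := by
        by_contra hcon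
        push Not at hcon
        exact hYne ((Subgroup.eq_bot_iff_forall _).2 hcon)
      obtain ⟨g, rfl⟩ := hπ x
      obtain ⟨y, hyO, rfl⟩ := mem_map.1 (hY hy)
      have hgy := hY ((mem_normalizer_iff.1 hx _).1 hy)
      rw [← map_inv π g, ← map_mul, ← map_mul] at hgy
      obtain ⟨y', hy'O, hy'⟩ := mem_map.1 hgy
      have hgO : g * y * g⁻¹ ∈ O := by
        have hz := center_le hk hodd ((QuotientGroup.eq (s := center G)).1 hy')
        simpa using mul_mem hy'O hz
      rw [mem_centralizer_singleton_iff, ← map_mul, ← map_mul,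
        conj_fix hfix hk h hodd hyO (fun hc => hy1 ((hker y).2 hc)) hgO])
  refine ⟨F, inferInstance, inferInstance, ?_, ⟨e⟩⟩
  -- the order
  have hcard := Lib.Perm.ZassenhausPGL.card_PSL_two (K := F) hFodd
  rw [← Nat.card_congr e.toEquiv] at hcard
  have h4 : 4 ∣ Nat.card (G ⧸ center G) := hS4' ▸ Subgroup.card_subgroup_dvd_card _
  have h8 : ¬ 8 ∣ Nat.card (G ⧸ center G) := by
    intro h8
    obtain ⟨Q, hQ⟩ := Sylow.exists_subgroup_card_pow_prime 2 (n := 3) h8
    obtain ⟨S', hS'⟩ := (IsPGroup.of_card hQ).exists_le_sylow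
    have h1 := Subgroup.card_dvd_of_le hS'
    rw [hQ, Nat.card_congr (Sylow.equiv S' S).toEquiv, hS4'] at h1
    norm_num at h1
  have hCne : C ≠ ⊤ := by
    intro e
    refine hk.bad_a.1 (mem_center_iff.2 fun g => hCmem g ?_)
    rw [e]; exact mem_top _
  have hC4 : 4 ∣ Nat.card C := hV4 ▸ Subgroup.card_dvd_of_le hVC
  have hCO : Nat.card O' ∣ Nat.card C := Subgroup.card_dvd_of_le hO'C
  have hO'1 : Nat.card O' ≠ 1 := fun e => hO'ne (card_eq_one.1 e)
  obtain ⟨j, hj⟩ := hCO
  have hCdvd : Nat.card C ∣ Nat.card (G ⧸ center G) := Subgroup.card_subgroup_dvd_card _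
  have hfac := dvd_factorial_index hCne
  have hidx := C.card_mul_index
  set q := Fintype.card F with hqdef
  have hq5 : q ≠ 3 ∧ q ≠ 5 := by
    refine ⟨fun e' => ?_, fun e' => ?_⟩ <;> rw [e'] at hcard
    · -- order twelve
      have hL : Nat.card (G ⧸ center G) = 12 := by omega
      rw [hL] at hfac hidx hCdvd
      have h1 : 12 ≤ Nat.card C := by
        have h43 : 4 * Nat.card O' ∣ Nat.card C :=
          (Nat.Coprime.mul_dvd_of_dvd_of_dvd
            (by simpa [Nat.coprime_comm] using Nat.Coprime.pow_left 2 (Nat.coprime_two_left.2 hO'odd))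
            hC4 ⟨j, hj⟩)
        have h3 : 3 ≤ Nat.card O' := by
          obtain ⟨i, hi⟩ := hO'odd
          omega
        have := Nat.le_of_dvd Nat.card_pos h43
        omega
      exact hCne ((Subgroup.card_eq_iff_eq_top C).1 (by
        have := Nat.le_of_dvd (by norm_num) hCdvd
        omega))
    · -- order sixty
      have hL : Nat.card (G ⧸ center G) = 60 := by omega
      rw [hL] at hfac hidx hCdvd
      have h43 : 4 * Nat.card O' ∣ Nat.card C :=
        (Nat.Coprime.mul_dvd_of_dvd_of_dvd
          (by simpa [Nat.coprime_comm] using Nat.Coprime.pow_left 2 (Nat.coprime_two_left.2 hO'odd))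
          hC4 ⟨j, hj⟩)
      have hidx5 : C.index = 5 ∧ Nat.card C = 12 := by
        have h3 : 3 ≤ Nat.card O' := by
          obtain ⟨i, hi⟩ := hO'odd
          omega
        have := Nat.le_of_dvd Nat.card_pos h43
        have hi : C.index ≤ 5 := by
          by_contra hcon
          have := Nat.mul_le_mul (show 12 ≤ Nat.card C by omega) (Nat.succ_le_of_lt (not_le.1 hcon))
          omega
        have hi' : ¬ C.index < 5 := by
          intro hlt
          interval_cases C.index <;> simp [Nat.factorial] at hfac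
        constructor
        · omega
        · rw [show C.index = 5 by omega] at hidx; omega
      have hO3 : Nat.card O' = 3 := by
        have h1 := Nat.le_of_dvd Nat.card_pos h43
        obtain ⟨i, hi⟩ := hO'odd
        omega
      have hN : normalizer (O' : Set (G ⧸ center G)) ≠ ⊤ := fun e => by
        rcases (normalizer_eq_top_iff.1 e).eq_bot_or_eq_top with e1 | e1
        · exact hO'ne e1
        · rw [e1, card_top, hL] at hO3; omega
      have hNi : (normalizer (O' : Set (G ⧸ center G))).index = 5 := by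
        have h1 := Subgroup.index_dvd_of_le hO'n
        rw [hidx5.1] at h1
        rcases (Nat.dvd_prime (by norm_num)).1 h1 with h | h
        · exact absurd (index_eq_one.1 h) hN
        · exact h
      have : Fact (Nat.Prime 3) := ⟨Nat.prime_three⟩
      obtain ⟨P, hP⟩ := (IsPGroup.of_card (p := 3) (n := 1) (by rw [hO3]; norm_num) :
        IsPGroup 3 O').exists_le_sylow
      have hPc : Nat.card P = 3 := by
        obtain ⟨k, hk3⟩ := IsPGroup.iff_card.1 P.2
        have h1 : 3 ^ k ∣ 60 := by
          rw [← hk3, ← hL]; exact Subgroup.card_subgroup_dvd_card _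
        have h2 : k ≤ 1 := by
          by_contra hcon
          have h9 := (pow_dvd_pow 3 (not_le.1 hcon)).trans h1
          norm_num at h9
        have h3 : 3 ∣ 3 ^ k := by
          have h4 := Subgroup.card_dvd_of_le hP
          rw [hO3, hk3] at h4
          exact h4
        interval_cases k <;> simp_all
      have hPO : O' = (P : Subgroup (G ⧸ center G)) :=
        Subgroup.eq_of_le_of_card_ge hP (by rw [hO3, hPc])
      have hmod := card_sylow_modEq_one 3 (G ⧸ center G)
      rw [P.card_eq_index_normalizer] at hmod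
      change (normalizer ((P : Subgroup (G ⧸ center G)) : Set (G ⧸ center G))).index ≡ 1 [MOD 3] at hmod
      rw [← hPO, hNi] at hmod
      exact absurd hmod (by decide)
  refine ⟨?_, ?_⟩
  · obtain ⟨i, hi⟩ := hFodd
    have : 2 ≤ q := hqdef ▸ Fintype.one_lt_card
    omega
  · have h1 : q % 8 = 1 ∨ q % 8 = 3 ∨ q % 8 = 5 ∨ q % 8 = 7 := by
      obtain ⟨i, hi⟩ := hFodd
      omega
    rcases h1 with h1 | h1 | h1 | h1
    · exfalso
      refine h8 ?_
      obtain ⟨i, hi⟩ : ∃ i, q = 8 * i + 1 := ⟨q / 8, by omega⟩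
      refine ⟨(4 * i + 1) * ((8 * i + 1) * i), Nat.eq_of_mul_eq_mul_left (show 0 < 2 by omega) ?_⟩
      rw [hcard, hi, Nat.add_sub_cancel]
      ring
    · exact Or.inl h1
    · exact Or.inr h1
    · exfalso
      obtain ⟨i, hi⟩ : ∃ i, q = 8 * i + 7 := ⟨q / 8, by omega⟩
      refine h8 ⟨(i + 1) * ((8 * i + 7) * (4 * i + 3)), Nat.eq_of_mul_eq_mul_left (show 0 < 2 by omega) ?_⟩
      rw [hcard, hi, show 8 * i + 7 - 1 = 8 * i + 6 by omega]
      ring

end Cfsg.Agent.Lib.MinNonCA34
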