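import Cfsg.Agent.Lib.MinNonCA34.Spec
import Cfsg.Agent.Lib.Blocks.FrobeniusSylow.ThreeInvolution
import Cfsg.Agent.Lib.Blocks.PrincipalInner
import Cfsg.Agent.Lib.CharCount.Basic
import Cfsg.Agent.S0948

/-!
# Minimal non-CA groups: the character argument

The principal 2-block and the principal p-block are compared on the sections of `a` and of an
element `y₀` of `P` whose centraliser is the centraliser of the four-group.
-/

set_option autoImplicit false

namespace Cfsg.Agent.Lib.MinNonCA34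

open Cfsg Subgroup
open Cfsg.Agent.Lib
open Cfsg.Agent.Lib.Blocks.FrobeniusSylow (Data orbSum)

universe u

namespace CharArg

/-- No solution when the exceptional sign is positive. -/
theorem arith_pos {s1 s2 x1 x2 x3 : ℤ} (h1 : s1 = 1 ∨ s1 = -1) (h2 : s2 = 1 ∨ s2 = -1)
    (hx1 : 2 ≤ x1) (hx2 : 2 ≤ x2) (hx3 : 2 ≤ x3)
    (e : x1 * x2 * x3 + s1 * x2 * x3 + s2 * x1 * x3 + 9 * (x1 * x2) = 0) : False := by
  have hpos : 0 < x1 * x2 := by positivity
  have hge : 0 ≤ ((x1 - 1) * (x2 - 1) - 1) * x3 :=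
    mul_nonneg (by nlinarith) (by omega)
  have n1 : 0 ≤ (1 + s1) * (x2 * x3) :=
    mul_nonneg (by omega) (by positivity)
  have n2 : 0 ≤ (1 + s2) * (x1 * x3) :=
    mul_nonneg (by omega) (by positivity)
  linarith

/-- No solution when the exceptional sign is negative. -/
theorem arith_neg {s2 x1 x2 x3 : ℤ} (h2 : s2 = 1 ∨ s2 = -1)
    (hx1 : 2 ≤ x1) (hx2 : 2 ≤ x2) (c1 : 4 ∣ x1 - 1) (c2 : 4 ∣ x2 - s2) (c3 : 4 ∣ x3 + 1)
    (e1 : 1 + x1 + s2 * x2 - x3 = 0)
    (e2 : x1 * x2 * x3 + x2 * x3 + s2 * x1 * x3 - 9 * (x1 * x2) = 0) : False := by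
  have h5 : 5 ≤ x1 := by omega
  have hpos : 0 < x1 * x2 := by positivity
  rcases h2 with rfl | rfl
  · have h3 : 11 ≤ x3 := by omega
    have : 0 ≤ (x3 - 9) * (x1 * x2) := mul_nonneg (by omega) hpos.le
    nlinarith
  · have h3 : 3 ≤ x2 := by omega
    have hlo : 8 ≤ x3 := by
      by_contra hlt
      have a1 : 0 ≤ (7 - x3) * (x1 * x2) := mul_nonneg (by omega) hpos.le
      have a2 : 0 ≤ (x1 - 5) * x2 := mul_nonneg (by omega) (by omega)
      rcases le_or_gt x3 0 with hz | hz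
      · have a3 : 0 ≤ (-x3) * ((x1 + 1) * (x2 - 1)) :=
          mul_nonneg (by omega) (mul_nonneg (by omega) (by omega))
        nlinarith
      · have a4 : 0 ≤ x3 * ((x1 - 5) * x2) := mul_nonneg hz.le a2
        have a5 : 0 ≤ (7 - x3) * x2 := mul_nonneg (by omega) (by omega)
        nlinarith
    have hhi : x3 ≤ 13 := by
      by_contra hlt
      have a1 : 0 ≤ (x3 - 14) * (x1 * x2) := mul_nonneg (by omega) hpos.le
      have a2 : 0 ≤ x3 * ((x2 - 3) * x1) := mul_nonneg (by omega) (mul_nonneg (by omega) (by omega))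
      have a3 : 0 ≤ x3 * x2 := mul_nonneg (by omega) (by omega)
      nlinarith
    obtain rfl : x3 = 11 := by omega
    obtain rfl : x1 = x2 + 10 := by omega
    have hx : x2 ≤ 4 := by nlinarith
    interval_cases x2 <;> omega

/-- A group of odd order has no involution. -/
theorem eq_one_of_sq {G : Type*} [Group G] {O : Subgroup G} (hO : Odd (Nat.card O)) {x : G}
    (hx : x ∈ O) (h : x * x = 1) : x = 1 := by
  have h2 : orderOf x ∣ 2 := orderOf_dvd_of_pow_eq_one (by rw [pow_two, h])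
  have ho : Odd (orderOf x) := hO.of_dvd_nat (Subgroup.orderOf_dvd_natCard O hx)
  rcases (Nat.dvd_prime Nat.prime_two).1 h2 with e | e
  · exact orderOf_eq_one_iff.1 e
  · rw [e] at ho
    exact absurd ho (by decide)

/-- The p-part of a product of two conjugate involutions is trivial. -/
theorem hno {G : Type u} [Group G] [Finite G] [Fintype G] {p : ℕ} [Fact p.Prime] {P : Sylow p G}
    [Fintype (Blocks.FrobeniusSylow.autP P)] (h : Data P 3) (hp : p ≠ 2) {t : G} (ht : t * t = 1)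
    (lam : ↥(P : Subgroup G) →* ℂˣ) :
    ∀ g, Blocks.FrobeniusSylow.star P (Blocks.FrobeniusSylow.phi lam) g ≠ 0 →
      ∀ x : G, ¬ IsConj (t * (x * t * x⁻¹)) g := by
  intro g hg x hcx
  obtain ⟨d, hd⟩ := Blocks.FrobeniusSylow.exists_pPart_mem P g
  have hw : IsConj (g ^ Blocks.pPartExp G p) ((⟨_, hd⟩ : ↥(P : Subgroup G)) : G) :=
    isConj_iff.2 ⟨d, rfl⟩
  rw [Blocks.FrobeniusSylow.star_apply h (Blocks.FrobeniusSylow.inv_phi lam) hw] at hg
  obtain ⟨-, -, -, -, hww⟩ := Blocks.FrobeniusSylow.sq_pPart_of_triple h ht hcx hw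
  rw [Blocks.FrobeniusSylow.eq_one_of_sq_odd hp hww, Blocks.FrobeniusSylow.phi_apply_one] at hg
  exact hg rfl

/-- In a perfect group a nonprincipal irreducible character has degree at least two. -/
theorem two_le_degree {G : Type u} [Group G] [Finite G] (hperf : commutator G = ⊤)
    (χ : IrrCharacter G) (hne : (χ : G → ℂ) ≠ fun _ => 1) :
    2 ≤ charDegree (χ : G → ℂ) := by
  cases nonempty_fintype G
  obtain ⟨he, hd0⟩ := Blocks.HeightZero.charDegree_eq χ
  by_contra hlt
  have h1 : charDegree (χ : G → ℂ) = 1 := by omega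
  rw [h1, Nat.cast_one] at he
  obtain ⟨φ, hφ⟩ := Chars.exists_hom_of_degree_one (Chars.irr_isCharacter χ) he.symm
  refine hne ?_
  rw [hφ]
  funext g
  have : g ∈ φ.ker := Abelianization.commutator_subset_ker φ (hperf ▸ mem_top g)
  rw [MonoidHom.mem_ker.1 this, Units.val_one]

end CharArg

open CharArg in
theorem char : CharBrick.{u} := by
  intro G _ _ hperf a b O ha hb hab hne hSyl hgen hO hnO hOle hcover hn p _ hp5 P hPab hP1 hCP
    hidx hcyc hfrob hy0
  obtain ⟨n, hna, hnb⟩ := hn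
  obtain ⟨y0, hy0P, hy01, hy0C⟩ := hy0
  classical
  let : Fintype G := Fintype.ofFinite _
  have hp : p.Prime := Fact.out
  -- the four-group
  have haa : a * a = 1 := by rw [← pow_two, ← ha, pow_orderOf_eq_one]
  have hbb : b * b = 1 := by rw [← pow_two, ← hb, pow_orderOf_eq_one]
  have ha1 : a ≠ 1 := fun e => by rw [e, orderOf_one] at ha; omega
  have hb1 : b ≠ 1 := fun e => by rw [e, orderOf_one] at hb; omega
  have t1 : a * (a * b) = b := by rw [← mul_assoc, haa, one_mul]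
  have t2 : b * (a * b) = a := by rw [hab, ← mul_assoc, hbb, one_mul]
  have t3 : a * b * a = b := by rw [mul_assoc, ← hab, ← mul_assoc, haa, one_mul]
  have t4 : a * b * b = a := by rw [mul_assoc, hbb, mul_one]
  have t5 : a * b * (a * b) = 1 := by rw [← mul_assoc, t3, hbb]
  have t6 : b * a = a * b := hab.symm
  have hai : a⁻¹ = a := inv_eq_of_mul_eq_one_right haa
  have hbi : b⁻¹ = b := inv_eq_of_mul_eq_one_right hbb
  let Vf : Finset G := {1, a, b, a * b}
  have hab1 : a * b ≠ 1 := fun e => hne (by rw [← hbi]; exact eq_inv_of_mul_eq_one_left e)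
  have hVsq : ∀ v ∈ Vf, v * v = 1 := by
    intro v hv
    simp only [Vf, Finset.mem_insert, Finset.mem_singleton] at hv
    rcases hv with rfl | rfl | rfl | rfl
    exacts [mul_one 1, haa, hbb, t5]
  have hVa : ∀ v ∈ Vf, v * a = a * v ∧ v * b = b * v := by
    intro v hv
    simp only [Vf, Finset.mem_insert, Finset.mem_singleton] at hv
    rcases hv with rfl | rfl | rfl | rfl
    exacts [⟨by simp, by simp⟩, ⟨rfl, hab⟩, ⟨t6, rfl⟩,
      ⟨by rw [t3, t1], by rw [t4, t2]⟩]
  let V : Subgroup G :=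
    { carrier := (Vf : Set G)
      one_mem' := by simp [Vf]
      mul_mem' := by
        intro x y hx hy
        simp only [Vf, Finset.coe_insert, Finset.coe_singleton, Set.mem_insert_iff,
          Set.mem_singleton_iff] at hx hy ⊢
        rcases hx with rfl | rfl | rfl | rfl <;> rcases hy with rfl | rfl | rfl | rfl <;>
          simp [haa, hbb, t1, t2, t3, t4, t5, t6]
      inv_mem' := by
        intro x hx
        have : x⁻¹ = x := inv_eq_of_mul_eq_one_right (hVsq x hx)
        rw [this]; exact hx }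
  have hVcard : Nat.card V = 4 := by
    change Nat.card (Vf : Set G) = 4
    rw [Nat.card_coe_set_eq, Set.ncard_coe_finset]
    simp [Vf, hne, ha1.symm, hb1.symm, hab1.symm, ha1, hb1]
  have hV2 : IsPGroup 2 V := IsPGroup.of_card (n := 2) (by rw [hVcard]; norm_num)
  obtain ⟨T, hT⟩ := hV2.exists_le_sylow
  have hTV : (T : Subgroup G) = V :=
    (eq_of_le_of_card_ge hT (by rw [hVcard]; exact (hSyl T).le)).symm
  have hKlein : IsKleinFour (T : Subgroup G) := by
    have : Nontrivial ↥(T : Subgroup G) :=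
      Finite.one_lt_card_iff_nontrivial.1 (by rw [hSyl T]; norm_num)
    refine ⟨hSyl T, (Monoid.exponent_eq_prime_iff Nat.prime_two).2 fun g hg => ?_⟩
    have hgV : (g : G) ∈ Vf := (SetLike.ext_iff.1 hTV (g : G)).1 g.2
    exact orderOf_eq_prime (Subtype.ext (by simpa [pow_two] using hVsq _ hgV)) hg
  have hone' : ∀ s : G, orderOf s = 2 → IsConj a s := by
    intro s hs
    obtain ⟨c, hc⟩ := Blocks.FrobeniusSylow.exists_conj_mem T (u := s) ⟨1, by rw [hs, pow_one]⟩
    rw [hTV] at hc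
    have hs' : IsConj (c * s * c⁻¹) s := (isConj_iff.2 ⟨c, rfl⟩ : IsConj s _).symm
    have hc' : c * s * c⁻¹ ∈ Vf := hc
    simp only [Vf, Finset.mem_insert, Finset.mem_singleton] at hc'
    rcases hc' with e | e | e | e
    · rw [conj_eq_one_iff.1 e, orderOf_one] at hs; omega
    · rwa [e] at hs'
    · rw [e] at hs'
      exact (isConj_iff.2 ⟨n, hna⟩ : IsConj a b).trans hs'
    · rw [e] at hs'
      exact ((isConj_iff.2 ⟨n, hna⟩ : IsConj a b).trans (isConj_iff.2 ⟨n, hnb⟩)).trans hs'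
  have hone : ∀ s t : G, orderOf s = 2 → orderOf t = 2 → IsConj s t := fun s t hs ht =>
    (hone' s hs).symm.trans (hone' t ht)
  -- the principal 2-block
  obtain ⟨M2, hM2⟩ := CharCount.exists_isPModular 2 Nat.prime_two
  have := Blocks.isPModular_isPrime hM2
  obtain ⟨ζ2, ζ3, ζ4, ε, hε, hn2, hn3, h23, h24, h34, hB2, hinv, c2, c3, c4, hrel⟩ :=
    Cfsg.Agent.S0948.result M2 hM2 T hKlein hone
  obtain ⟨hz2, hz3, hz4⟩ := hinv a ha
  have hn4 : (ζ4 : G → ℂ) ≠ fun _ => 1 := fun e => by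
    rw [e] at hz4
    norm_num at hz4
  -- odd elements of the centraliser of a
  have hodd : ∀ w : G, w * a = a * w → Odd (orderOf w) → w ∈ O := by
    intro w hw hwo
    have hsq : ∀ o ∈ O, ∀ v ∈ Vf, (o * v) ^ 2 ∈ O := by
      intro o ho v hv
      have hvi : v⁻¹ = v := inv_eq_of_mul_eq_one_right (hVsq v hv)
      have hm := (mem_normalizer_iff.1 (hnO (mem_centralizer_singleton_iff.2 (hVa v hv).1)) o).1 ho
      rw [hvi] at hm
      rw [pow_two, mul_assoc, ← mul_assoc v o v]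
      exact mul_mem ho hm
    have h2 : w ^ 2 ∈ O := by
      obtain ⟨o, ho, rfl | rfl | rfl | rfl⟩ := hcover w hw
      · exact pow_mem ho 2
      · exact hsq o ho a (by simp [Vf])
      · exact hsq o ho b (by simp [Vf])
      · exact hsq o ho (a * b) (by simp [Vf])
    obtain ⟨k, hk⟩ := hwo
    have : (w ^ 2) ^ (k + 1) = w := by
      rw [← pow_mul, show 2 * (k + 1) = orderOf w + 1 by omega, pow_succ, pow_orderOf_eq_one,
        one_mul]
    rw [← this]
    exact pow_mem h2 _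
  have hval : ∀ (ζ : IrrCharacter G), ζ ∈ principalBlock M2 G → ∀ v w : G, orderOf v = 2 →
      w * v = v * w → Odd (orderOf w) → (ζ : G → ℂ) (v * w) = (ζ : G → ℂ) v := by
    intro ζ hζ v w hv hw hwo
    obtain ⟨c, rfl⟩ := isConj_iff.1 (hone' v hv)
    set w' := c⁻¹ * w * c with hw'
    have hw'a : w' * a = a * w' := by
      calc w' * a = c⁻¹ * (w * (c * a * c⁻¹)) * c := by rw [hw']; group
        _ = c⁻¹ * ((c * a * c⁻¹) * w) * c := by rw [hw]
        _ = a * w' := by rw [hw']; group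
    have hw'o : Odd (orderOf w') := by
      rwa [hw', show orderOf (c⁻¹ * w * c) = orderOf w by
        simpa using orderOf_injective (MulAut.conj c⁻¹).toMonoidHom (MulAut.conj c⁻¹).injective w]
    have hcore : w' ∈ centralizerPPrimeCore 2 a := by
      have : (O.subgroupOf (centralizer ({a} : Set G))).Normal :=
        normal_subgroupOf_of_le_normalizer hnO
      refine ⟨⟨w', mem_centralizer_singleton_iff.2 hw'a⟩, PSolvable.le_pPrimeCore
        (N := O.subgroupOf (centralizer ({a} : Set G))) ?_ (hodd w' hw'a hw'o), rfl⟩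
      rw [Nat.card_congr (subgroupOfEquivOfLe hOle).toEquiv]
      exact Nat.coprime_two_right.2 hO
    have h1 := Blocks.PrincipalSection.apply_mul_eq hM2 (u := a) ⟨1, by rw [ha, pow_one]⟩
      (Blocks.PrincipalInner.secondMain_holds hM2 ⟨1, by rw [ha, pow_one]⟩) hcore hζ
    rw [← Chars.irr_isClassFunction ζ (a * w') c, ← Chars.irr_isClassFunction ζ a c] at h1
    rw [← h1]
    rw [hw']; group
  -- the principal p-block
  have hp2 : p ≠ 2 := by omega
  obtain ⟨M, hM⟩ := CharCount.exists_isPModular p hp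
  have := Blocks.isPModular_isPrime hM
  have h : Data P 3 :=
    ⟨fun x hx y hy => congrArg Subtype.val (hPab.is_comm.comm ⟨x, hx⟩ ⟨y, hy⟩), hidx, hfrob⟩
  have hlarge : 3 + 1 < Nat.card (P : Subgroup G) := by
    obtain ⟨k, hk⟩ := P.isPGroup'.exists_card_eq
    rcases Nat.eq_zero_or_pos k with rfl | hk0
    · exact absurd (Subgroup.eq_bot_of_card_eq _ (by rw [hk, pow_zero])) hP1
    · rw [hk]
      have := Nat.le_self_pow (by omega : k ≠ 0) p
      omega
  let : Fintype (Blocks.FrobeniusSylow.autP P) := Fintype.ofFinite _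
  let : Fintype (↥(P : Subgroup G) →* ℂˣ) := Fintype.ofFinite _
  let : Fintype ↥(P : Subgroup G) := Fintype.ofFinite _
  obtain ⟨X, Y, aX, δ, ζ, hδ, -, hYmem, hYex, hB, hXY, ⟨htX, hta⟩, hXc, hX, hζ, -, hdec⟩ :=
    Blocks.FrobeniusSylow.exists_shape_three hM h hlarge
  have hPle : ∀ y ∈ (P : Subgroup G), y * a = a * y ∧ y * b = b * y := by
    intro y hy
    have : y ∈ centralizer ((P : Subgroup G) : Set G) :=
      mem_centralizer_iff.2 fun z hz => h.comm z hz y hy
    rw [hCP] at this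
    exact ⟨mem_centralizer_singleton_iff.1 this.1, mem_centralizer_singleton_iff.1 this.2⟩
  have hPodd : ∀ y ∈ (P : Subgroup G), Odd (orderOf y) := by
    intro y hy
    obtain ⟨k, hk⟩ := Blocks.FrobeniusSylow.exists_orderOf_eq_pow P ⟨y, hy⟩
    rw [show orderOf y = p ^ k from hk]
    exact (hp.odd_of_ne_two hp2).pow
  have hreg : ¬ p ∣ orderOf a := by
    rw [ha]; intro hd; exact hp2 ((Nat.prime_dvd_prime_iff_eq hp Nat.prime_two).1 hd)
  have hu0 := Blocks.FrobeniusSylow.exists_orderOf_eq_pow P ⟨y0, hy0P⟩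
  have hC0 : ∀ y : G, Commute y0 y → y * a = a * y ∧ y * b = b * y := by
    intro y hy
    have : y ∈ centralizer ({y0} : Set G) := mem_centralizer_singleton_iff.2 hy.eq.symm
    rw [hy0C] at this
    exact ⟨mem_centralizer_singleton_iff.1 this.1, mem_centralizer_singleton_iff.1 this.2⟩
  have hVy0 : ∀ v ∈ Vf, Commute y0 v := by
    intro v hv
    simp only [Vf, Finset.mem_insert, Finset.mem_singleton] at hv
    rcases hv with rfl | rfl | rfl | rfl
    exacts [Commute.one_right _, (hPle y0 hy0P).1, (hPle y0 hy0P).2,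
      Commute.mul_right (hPle y0 hy0P).1 (hPle y0 hy0P).2]
  set R0 : Finset G := Finset.univ.filter
    (fun o : G => o ∈ O ∧ Commute y0 o ∧ ¬ p ∣ orderOf o) with hR0
  have hR0pos : (R0.card : ℂ) ≠ 0 := by
    rw [Nat.cast_ne_zero]
    refine Finset.card_ne_zero.2 ⟨1, ?_⟩
    simp [R0, one_mem, hp.ne_one]
  -- the sum over the regular elements of the centraliser of y0
  have hsplit : ∀ χ : IrrCharacter G, χ ∈ principalBlock M2 G → ∀ s : ℂ,
      (∀ v : G, orderOf v = 2 → (χ : G → ℂ) v = s) → χ ∉ principalBlock M G →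
      ∑ o ∈ R0, (χ : G → ℂ) (y0 * o) = -3 * s * R0.card := by
    intro χ hχ2 s hs hχ
    have h0 := Blocks.FrobeniusSylow.sum_section_eq_zero hM h (u := y0) hu0 hy01 hχ
    have e : ∑ o ∈ R0, ∑ v ∈ Vf, (χ : G → ℂ) (y0 * (o * v)) = 0 := by
      rw [← h0, ← Finset.sum_product']
      refine Finset.sum_bij (fun t _ => t.1 * t.2) ?_ ?_ ?_ (fun _ _ => rfl)
      · intro t ht
        obtain ⟨ho, hv⟩ := Finset.mem_product.1 ht
        obtain ⟨-, -, hoc, hor⟩ := Finset.mem_filter.1 ho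
        have hcomm : Commute t.1 t.2 := by
          have := hC0 t.1 hoc
          simp only [Vf, Finset.mem_insert, Finset.mem_singleton] at hv
          rcases hv with e | e | e | e <;> rw [e]
          exacts [Commute.one_right _, this.1, this.2, Commute.mul_right this.1 this.2]
        refine Finset.mem_filter.2 ⟨Finset.mem_univ _, hoc.mul_right (hVy0 _ hv), fun hd => ?_⟩
        have hd' := hd.trans hcomm.orderOf_mul_dvd_mul_orderOf
        rcases hp.dvd_mul.1 hd' with d | d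
        · exact hor d
        · have := Nat.le_of_dvd (by norm_num) (d.trans (orderOf_dvd_of_pow_eq_one
            (show t.2 ^ 2 = 1 by rw [pow_two, hVsq _ hv])))
          omega
      · intro t ht t' ht' e
        obtain ⟨ho, hv⟩ := Finset.mem_product.1 ht
        obtain ⟨ho', hv'⟩ := Finset.mem_product.1 ht'
        obtain ⟨-, hoO, -, -⟩ := Finset.mem_filter.1 ho
        obtain ⟨-, hoO', -, -⟩ := Finset.mem_filter.1 ho'
        have e1 : t'.1⁻¹ * t.1 = t'.2 * t.2⁻¹ := by
          rw [eq_mul_inv_iff_mul_eq, mul_assoc, e, inv_mul_cancel_left]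
        have hV : t'.2 * t.2⁻¹ ∈ V := mul_mem (show t'.2 ∈ V from hv') (inv_mem (show t.2 ∈ V from hv))
        have hx := eq_one_of_sq hO (mul_mem (inv_mem hoO') hoO) (by rw [e1]; exact hVsq _ hV)
        rw [hx] at e1
        exact Prod.ext (inv_mul_eq_one.1 hx).symm (mul_inv_eq_one.1 e1.symm).symm
      · intro y hy
        obtain ⟨-, hyc, hyr⟩ := Finset.mem_filter.1 hy
        have hy' := hC0 y hyc
        have mk : ∀ o ∈ O, ∀ v ∈ Vf, y = o * v →
            ∃ t, ∃ _ : t ∈ R0 ×ˢ Vf, t.1 * t.2 = y := by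
          intro o ho v hv e
          have hvv := hVsq v hv
          have ho' : o = y * v := by rw [e, mul_assoc, hvv, mul_one]
          refine ⟨(o, v), Finset.mem_product.2 ⟨Finset.mem_filter.2
            ⟨Finset.mem_univ _, ho, ?_, fun hd => ?_⟩, hv⟩, e.symm⟩
          · rw [ho']; exact hyc.mul_right (hVy0 _ hv)
          · have hcomm : Commute y v := by
              simp only [Vf, Finset.mem_insert, Finset.mem_singleton] at hv
              rcases hv with e | e | e | e <;> rw [e]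
              exacts [Commute.one_right _, hy'.1, hy'.2, Commute.mul_right hy'.1 hy'.2]
            rw [ho'] at hd
            rcases hp.dvd_mul.1 (hd.trans hcomm.orderOf_mul_dvd_mul_orderOf) with d | d
            · exact hyr d
            · have := Nat.le_of_dvd (by norm_num) (d.trans (orderOf_dvd_of_pow_eq_one
                (show v ^ 2 = 1 by rw [pow_two, hvv])))
              omega
        obtain ⟨o, ho, e | e | e | e⟩ := hcover y hy'.1
        · exact mk o ho 1 (by simp [Vf]) (by rw [mul_one, e])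
        · exact mk o ho a (by simp [Vf]) e
        · exact mk o ho b (by simp [Vf]) e
        · exact mk o ho (a * b) (by simp [Vf]) e
    have hterm : ∀ o ∈ R0, ∑ v ∈ Vf, (χ : G → ℂ) (y0 * (o * v)) =
        (χ : G → ℂ) (y0 * o) + 3 * s := by
      intro o ho
      obtain ⟨-, hoO, hoc, -⟩ := Finset.mem_filter.1 ho
      obtain ⟨hoa, hob⟩ := hC0 o hoc
      obtain ⟨hya, hyb⟩ := hPle y0 hy0P
      have hodd' : Odd (orderOf (y0 * o)) :=
        ((hPodd y0 hy0P).mul (hO.of_dvd_nat (Subgroup.orderOf_dvd_natCard O hoO))).of_dvd_nat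
          hoc.orderOf_mul_dvd_mul_orderOf
      have hv : ∀ v : G, orderOf v = 2 → Commute y0 v → Commute o v →
          (χ : G → ℂ) (y0 * (o * v)) = s := by
        intro v hv hc1 hc2
        have hc : Commute (y0 * o) v := hc1.mul_left hc2
        rw [← mul_assoc, hc.eq, hval χ hχ2 v _ hv hc.eq hodd', hs v hv]
      have hab2 : orderOf (a * b) = 2 := orderOf_eq_prime (by rw [pow_two, t5]) hab1
      simp only [Vf]
      rw [Finset.sum_insert (by simp [ha1.symm, hb1.symm, hab1.symm]),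
        Finset.sum_insert (by simp [hne, hb1]), Finset.sum_insert (by simp [ha1]),
        Finset.sum_singleton, mul_one, hv a ha hya hoa, hv b hb hyb hob,
        hv (a * b) hab2 (Commute.mul_right hya hyb) (Commute.mul_right hoa hob)]
      ring
    rw [Finset.sum_congr rfl hterm, Finset.sum_add_distrib, Finset.sum_const, nsmul_eq_mul] at e
    linear_combination e
  -- members of both blocks
  have hboth : ∀ χ : IrrCharacter G, χ ∈ principalBlock M2 G → ∀ s : ℤ, (s = 1 ∨ s = -1) →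
      (∀ v : G, orderOf v = 2 → (χ : G → ℂ) v = (s : ℂ)) →
      (χ ∈ X ∧ aX χ = s ∧ ∑ o ∈ R0, (χ : G → ℂ) (y0 * o) = (s : ℂ) * R0.card) ∨
      (∑ o ∈ R0, (χ : G → ℂ) (y0 * o) = -3 * (s : ℂ) * R0.card) := by
    intro χ hχ2 s hs1 hs
    by_cases hχ : χ ∈ principalBlock M G
    swap
    · exact Or.inr (hsplit χ hχ2 _ hs hχ)
    left
    have hPval : ∀ x : ↥(P : Subgroup G), x ≠ 1 → (χ : G → ℂ) x = (s : ℂ) := by
      intro x hx
      obtain ⟨hxa, -⟩ := hPle x x.2
      have e1 := Blocks.FrobeniusSylow.apply_section hM h (u := (x : G)) (y := a)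
        (Blocks.FrobeniusSylow.exists_orderOf_eq_pow P x) (fun e => hx (Subtype.ext e)) hxa hreg hχ
      rw [← e1, hxa, hval χ hχ2 a x ha hxa (hPodd x x.2), hs a ha]
    rcases (hB χ).1 hχ with hχX | hχY
    · have e2 := (hX χ hχX).2 ⟨y0, hy0P⟩ (fun e => hy01 (congrArg Subtype.val e))
      have e3 := hPval ⟨y0, hy0P⟩ (fun e => hy01 (congrArg Subtype.val e))
      refine ⟨hχX, by exact_mod_cast e2.symm.trans e3, ?_⟩
      rw [Finset.sum_congr rfl (g := fun _ => (s : ℂ)) (fun o ho => ?_), Finset.sum_const,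
        nsmul_eq_mul, mul_comm]
      obtain ⟨-, -, hoc, hor⟩ := Finset.mem_filter.1 ho
      rw [Blocks.FrobeniusSylow.apply_section hM h hu0 hy01 hoc hor hχ]
      exact e3
    · exfalso
      obtain ⟨lam, hl, rfl⟩ := hYex χ hχY
      have e4 := Blocks.FrobeniusSylow.classInner_phi_one h hl
      have horb : ∀ x : ↥(P : Subgroup G), x ≠ 1 →
          Blocks.FrobeniusSylow.phi lam x = 3 - (δ : ℂ) * (s : ℂ) := by
        intro x hx
        have e5 := (hζ lam hl x hx).symm.trans (hPval x hx)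
        have : (δ : ℂ) * (δ : ℂ) = 1 := by rcases hδ with e | e <;> rw [e] <;> norm_num
        simp only [Blocks.FrobeniusSylow.phi, Pi.sub_apply, Pi.smul_apply,
          Blocks.FrobeniusSylow.ch_one, smul_eq_mul, mul_one]
        rw [← Nat.card_eq_fintype_card, Blocks.FrobeniusSylow.card_autP h]
        push_cast
        linear_combination Blocks.FrobeniusSylow.orbSum lam x * this - (δ : ℂ) * e5
      simp only [classInner, map_one, mul_one] at e4
      rw [← Finset.add_sum_erase _ _ (Finset.mem_univ (1 : ↥(P : Subgroup G))),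
        Blocks.FrobeniusSylow.phi_apply_one, zero_add,
        Finset.sum_congr rfl (fun x hx => horb x (Finset.ne_of_mem_erase hx)), Finset.sum_const,
        Finset.card_erase_of_mem (Finset.mem_univ _), Finset.card_univ, nsmul_eq_mul,
        inv_mul_eq_iff_eq_mul₀ Chars.natCard_ne_zero, ← Nat.card_eq_fintype_card,
        Nat.cast_sub Nat.card_pos] at e4
      have e6 : ((Nat.card (P : Subgroup G) : ℤ) - 1) * (3 - δ * s) =
          (Nat.card (P : Subgroup G) : ℤ) * 3 := by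
        rw [← Int.cast_inj (α := ℂ)]
        push_cast at e4 ⊢
        linear_combination e4
      rcases hδ with e | e <;> rcases hs1 with e' | e' <;> rw [e, e'] at e6 <;> omega
  -- memberships
  have hmem : ∀ χ, χ = ζ2 ∨ χ = ζ3 ∨ χ = ζ4 → χ ∈ principalBlock M2 G := fun χ hχ => by
    rw [hB2]; exact Or.inr hχ
  have g2 := hboth ζ2 (hmem _ (Or.inl rfl)) 1 (Or.inl rfl)
    (fun v hv => by rw [(hinv v hv).1, Int.cast_one])
  have g3 := hboth ζ3 (hmem _ (Or.inr (Or.inl rfl))) ε hε (fun v hv => (hinv v hv).2.1)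
  have g4 := hboth ζ4 (hmem _ (Or.inr (Or.inr rfl))) (-1) (Or.inr rfl)
    (fun v hv => by rw [(hinv v hv).2.2]; norm_num)
  have hsum : (R0.card : ℂ) + ∑ o ∈ R0, (ζ2 : G → ℂ) (y0 * o)
      + (ε : ℂ) * ∑ o ∈ R0, (ζ3 : G → ℂ) (y0 * o) - ∑ o ∈ R0, (ζ4 : G → ℂ) (y0 * o) = 0 := by
    have e := Finset.sum_eq_zero (s := R0) (fun o ho => by
      obtain ⟨-, hoO, hoc, -⟩ := Finset.mem_filter.1 ho
      exact hrel (y0 * o)
        (((hPodd y0 hy0P).mul (hO.of_dvd_nat (Subgroup.orderOf_dvd_natCard O hoO))).of_dvd_nat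
          hoc.orderOf_mul_dvd_mul_orderOf))
    simpa [Finset.sum_add_distrib, Finset.sum_sub_distrib, ← Finset.mul_sum] using e
  -- the two equations
  obtain ⟨lam, hl⟩ : ∃ l : ↥(P : Subgroup G) →* ℂˣ, l ≠ 1 := by
    have : Nontrivial (↥(P : Subgroup G) →* ℂˣ) := Finite.one_lt_card_iff_nontrivial.1 (by
      rw [Blocks.FrobeniusSylow.card_hom h]; omega)
    exact exists_ne 1
  have key : ∀ θ1 θ2 : IrrCharacter G, ∀ s1 s2 s3 x3 : ℤ, θ1 ≠ θ2 →
      (θ1 : G → ℂ) ≠ (fun _ => 1) → (θ2 : G → ℂ) ≠ (fun _ => 1) →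
      θ1 ∈ X → θ2 ∈ X → aX θ1 = s1 → aX θ2 = s2 → (s1 = 1 ∨ s1 = -1) → (s2 = 1 ∨ s2 = -1) →
      (θ1 : G → ℂ) a = (s1 : ℂ) → (θ2 : G → ℂ) a = (s2 : ℂ) → (s3 = 1 ∨ s3 = -1) → x3 ≠ 0 →
      1 + s1 * (charDegree (θ1 : G → ℂ) : ℤ) + s2 * (charDegree (θ2 : G → ℂ) : ℤ) + s3 * x3 = 0 →
      (charDegree (θ1 : G → ℂ) : ℤ) * (charDegree (θ2 : G → ℂ) : ℤ) * x3
        + s1 * (charDegree (θ2 : G → ℂ) : ℤ) * x3 + s2 * (charDegree (θ1 : G → ℂ) : ℤ) * x3
        + 9 * s3 * ((charDegree (θ1 : G → ℂ) : ℤ) * (charDegree (θ2 : G → ℂ) : ℤ)) = 0 := by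
    intro θ1 θ2 s1 s2 s3 x3 h12 hθ1 hθ2 hm1 hm2 ha1' ha2' hs1 hs2 hv1 hv2 hs3 hx3 hr
    have hne1 : Chars.trivialIrr G ≠ θ1 := fun e => hθ1 (by rw [← e]; rfl)
    have hne2 : Chars.trivialIrr G ≠ θ2 := fun e => hθ2 (by rw [← e]; rfl)
    have hXe : X = {Chars.trivialIrr G, θ1, θ2} := by
      refine (Finset.eq_of_subset_of_card_le ?_ ?_).symm
      · simp [Finset.insert_subset_iff, htX, hm1, hm2]
      · simp [hXc, hne1, hne2, h12]
    have hd : ∀ F : IrrCharacter G → ℂ, ∑ χ : IrrCharacter G,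
        (Blocks.FrobeniusSylow.coef h lam χ : ℂ) * F χ = F (Chars.trivialIrr G) + (s1 : ℂ) * F θ1
          + (s2 : ℂ) * F θ2 - (δ : ℂ) * F (ζ lam) := by
      intro F
      rw [hdec lam hl F, hXe, Finset.sum_insert (by simp [hne1, hne2]),
        Finset.sum_pair h12, hta, ha1', ha2', Int.cast_one, one_mul]
      ring
    have e1 := Blocks.FrobeniusSylow.sum_coef_regular h lam (g := (1 : G))
      Blocks.FrobeniusSylow.one_regular
    rw [hd] at e1
    have et := Blocks.FrobeniusSylow.sum_coef_regular h lam hreg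
    rw [hd] at et
    have e2 := Blocks.FrobeniusSylow.sum_coef_sq_div h lam a (hno h hp2 haa lam)
    rw [hd] at e2
    have ht : ∀ g : G, (Chars.trivialIrr G : G → ℂ) g = 1 := fun _ => rfl
    obtain ⟨d1, n1⟩ := Blocks.HeightZero.charDegree_eq θ1
    obtain ⟨d2, n2⟩ := Blocks.HeightZero.charDegree_eq θ2
    rw [ht, hv1, hv2] at et
    rw [ht, ← d1, ← d2] at e1
    rw [ht, ht, hv1, hv2, ← d1, ← d2] at e2
    have hr' : (1 : ℂ) + (s1 : ℂ) * (charDegree (θ1 : G → ℂ) : ℂ)
        + (s2 : ℂ) * (charDegree (θ2 : G → ℂ) : ℂ) + (s3 : ℂ) * (x3 : ℂ) = 0 := by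
      exact_mod_cast hr
    have hη1 : (ζ lam : G → ℂ) 1 = -((δ : ℂ) * (s3 : ℂ) * (x3 : ℂ)) := by
      have : (δ : ℂ) * (δ : ℂ) = 1 := by rcases hδ with e | e <;> rw [e] <;> norm_num
      linear_combination (δ : ℂ) * hr' - (δ : ℂ) * e1 - (ζ lam : G → ℂ) 1 * this
    have hηa : (ζ lam : G → ℂ) a = 3 * (δ : ℂ) := by
      have q1 : (s1 : ℂ) * (s1 : ℂ) = 1 := by rcases hs1 with e | e <;> rw [e] <;> norm_num
      have q2 : (s2 : ℂ) * (s2 : ℂ) = 1 := by rcases hs2 with e | e <;> rw [e] <;> norm_num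
      have : (δ : ℂ) * (δ : ℂ) = 1 := by rcases hδ with e | e <;> rw [e] <;> norm_num
      linear_combination -(δ : ℂ) * et + (δ : ℂ) * q1 + (δ : ℂ) * q2 - (ζ lam : G → ℂ) a * this
    rw [hη1, hηa] at e2
    have n1' : (charDegree (θ1 : G → ℂ) : ℂ) ≠ 0 := Nat.cast_ne_zero.2 n1
    have n2' : (charDegree (θ2 : G → ℂ) : ℂ) ≠ 0 := Nat.cast_ne_zero.2 n2
    have n3' : (x3 : ℂ) ≠ 0 := Int.cast_ne_zero.2 hx3
    rw [← Int.cast_inj (α := ℂ)]
    push_cast
    rcases hδ with q | q <;> rcases hs1 with q1 | q1 <;> rcases hs2 with q2 | q2 <;>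
      rcases hs3 with q3 | q3 <;> rw [q, q1, q2, q3] at e2 <;> rw [q1, q2, q3] <;>
      push_cast at e2 ⊢ <;> field_simp at e2 <;>
      linear_combination e2
  have hr1 : 1 + (charDegree (ζ2 : G → ℂ) : ℤ) + ε * (charDegree (ζ3 : G → ℂ) : ℤ)
      - (charDegree (ζ4 : G → ℂ) : ℤ) = 0 := by
    have e := hrel 1 (by simp)
    rw [← (Blocks.HeightZero.charDegree_eq ζ2).1, ← (Blocks.HeightZero.charDegree_eq ζ3).1,
      ← (Blocks.HeightZero.charDegree_eq ζ4).1] at e
    exact_mod_cast e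
  have p2 : (2 : ℤ) ≤ (charDegree (ζ2 : G → ℂ) : ℤ) := by exact_mod_cast two_le_degree hperf ζ2 hn2
  have p3 : (2 : ℤ) ≤ (charDegree (ζ3 : G → ℂ) : ℤ) := by exact_mod_cast two_le_degree hperf ζ3 hn3
  have p4 : (2 : ℤ) ≤ (charDegree (ζ4 : G → ℂ) : ℤ) := by exact_mod_cast two_le_degree hperf ζ4 hn4
  have hεε : (ε : ℂ) * (ε : ℂ) = 1 := by rcases hε with e | e <;> rw [e] <;> norm_num
  rcases g2 with ⟨m2, a2, u2⟩ | u2 <;> rcases g3 with ⟨m3, a3, u3⟩ | u3 <;>
    rcases g4 with ⟨m4, a4, u4⟩ | u4 <;> rw [u2, u3, u4] at hsum <;> push_cast at hsum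
  · exact hR0pos (by linear_combination (1 / 4 : ℂ) * hsum - (R0.card : ℂ) / 4 * hεε)
  · -- ζ2, ζ3 inside
    have e := key ζ2 ζ3 1 ε (-1) (charDegree (ζ4 : G → ℂ) : ℤ) h23 hn2 hn3 m2 m3 a2 a3 (Or.inl rfl) hε
      (by rw [hz2, Int.cast_one]) hz3 (Or.inr rfl) (by omega) (by linear_combination hr1)
    exact arith_neg hε p2 p3 c2 c3 c4 (by linear_combination hr1) (by linear_combination e)
  · -- ζ2, ζ4 inside
    have e := key ζ2 ζ4 1 (-1) ε (charDegree (ζ3 : G → ℂ) : ℤ) h24 hn2 hn4 m2 m4 a2 a4 (Or.inl rfl)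
      (Or.inr rfl) (by rw [hz2, Int.cast_one]) (by rw [hz4]; norm_num) hε (by omega)
      (by linear_combination hr1)
    rcases hε with rfl | rfl
    · exact arith_pos (Or.inl rfl) (Or.inr rfl) p2 p4 p3 (by linear_combination e)
    · exact arith_neg (Or.inr rfl) p2 p4 c2 (by simpa using c4) (by simpa using c3)
        (by linear_combination hr1) (by linear_combination e)
  · exact hR0pos (by linear_combination (-1 / 4 : ℂ) * hsum - 3 * (R0.card : ℂ) / 4 * hεε)
  · -- ζ3, ζ4 inside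
    have e := key ζ3 ζ4 ε (-1) 1 (charDegree (ζ2 : G → ℂ) : ℤ) h34 hn3 hn4 m3 m4 a3 a4 hε
      (Or.inr rfl) hz3 (by rw [hz4]; norm_num) (Or.inl rfl) (by omega)
      (by linear_combination hr1)
    exact arith_pos hε (Or.inr rfl) p3 p4 p2 (by linear_combination e)
  · exact hR0pos (by linear_combination (-1 / 4 : ℂ) * hsum + (R0.card : ℂ) / 4 * hεε)
  · exact hR0pos (by linear_combination (-1 / 4 : ℂ) * hsum - 3 * (R0.card : ℂ) / 4 * hεε)
  · exact hR0pos (by linear_combination (-1 / 8 : ℂ) * hsum - 3 * (R0.card : ℂ) / 8 * hεε)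

end Cfsg.Agent.Lib.MinNonCA34
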