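import Cfsg.Agent.Lib.MinNonCA34.Spec
import Cfsg.Agent.Lib.SL2.Dickson
import Cfsg.Agent.Lib.SL2.PGLMax
import Cfsg.Agent.Lib.SL2.SmallExist
import Cfsg.Agent.Lib.LinGroup.Simple

/-!
# Minimal non-CA groups: the converse

In `PSL₂(q)` with `q` odd only involutions can have non-abelian centralisers.  Dickson's list shows
that a subgroup containing a dihedral group of order `4m`, `m ≥ 3` odd, is that centraliser or the
whole group, for the fields in the conclusion of the theorem.
-/

set_option autoImplicit false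

namespace Cfsg.Agent.Lib.MinNonCA34

open Cfsg.Agent.Lib.SL2

namespace ConverseAux

variable {F : Type*} [Field F] [Fintype F]

theorem simple_psl (h : 4 ≤ Fintype.card F) : IsSimpleGroup (PSLtwo F) :=
  LinGroup.isSimpleGroup_PSL_fin le_rfl fun _ => by rw [Nat.card_eq_fintype_card]; exact h

/-- The centraliser of an element which is not an involution lies in its torus. -/
theorem mem_torus_of_sq_ne {x y : PSLtwo F} (hx2 : x * x ≠ 1) (h : y * x = x * y) : y ∈ torus x := by
  rcases semi_or_unip x with hs | hu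
  · exact mem_torus_of_commute_semi hs hx2 h
  · exact mem_torus_of_commute_unip hu h

theorem orderOf_dvd_torus (x : PSLtwo F) : orderOf x ∣ Nat.card (torus x) :=
  Subgroup.orderOf_dvd_natCard _ (mem_torus_self x)

theorem semi_of_invol (hodd : Odd (Fintype.card F)) {t : PSLtwo F} (ht : orderOf t = 2) : IsSemi t := by
  rcases semi_or_unip t with hs | hu
  · exact hs
  exfalso
  obtain ⟨p, hpc⟩ := CharP.exists F
  obtain ⟨n, hp, hn⟩ := FiniteField.card F p
  haveI : Fact p.Prime := ⟨hp⟩
  have hd := orderOf_dvd_of_unip p hu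
  rw [ht, Nat.prime_dvd_prime_iff_eq Nat.prime_two hp] at hd
  rw [hn, ← hd] at hodd
  exact Nat.not_even_iff_odd.2 hodd ((Nat.even_pow.2 ⟨even_two, n.ne_zero⟩))

theorem semi_unip_torus_ne {u v : PSLtwo F} (hu : IsSemi u) (hv : IsUnip v) (hv1 : v ≠ 1) :
    torus u ≠ torus v := by
  intro e
  obtain ⟨p, hpc⟩ := CharP.exists F
  obtain ⟨n, hp, hn⟩ := FiniteField.card F p
  haveI : Fact p.Prime := ⟨hp⟩
  have h1 := coprime_card_torus_semi p hu
  rw [e, card_torus_unip hv hv1, hn, Nat.coprime_pow_left_iff n.pos, Nat.coprime_self] at h1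
  exact hp.ne_one h1

/-- Four does not divide the order of a semisimple torus. -/
theorem four_not_dvd (h8 : Fintype.card F % 8 = 3 ∨ Fintype.card F % 8 = 5) {x : PSLtwo F}
    (hx : IsSemi x) : ¬ 4 ∣ Nat.card (torus x) := by
  have hg : Nat.gcd 2 (Fintype.card F - 1) = 2 := Nat.gcd_eq_left (by omega)
  rcases card_torus_semi hx with e | e <;> rw [e, hg] <;> omega

/-- Eight does not divide the order of the group. -/
theorem eight_not_dvd (h8 : Fintype.card F % 8 = 3 ∨ Fintype.card F % 8 = 5) :
    ¬ 8 ∣ Nat.card (PSLtwo F) := by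
  intro hd
  have h := card_PSLtwo_odd (F := F) (Nat.odd_iff.2 (by omega))
  have h16 : 16 ∣ Fintype.card F * (Fintype.card F ^ 2 - 1) := by
    rw [← h, show (16 : ℕ) = 2 * 8 by norm_num]; exact mul_dvd_mul_left 2 hd
  have hco : Nat.Coprime 16 (Fintype.card F) := by
    rw [show (16 : ℕ) = 2 ^ 4 by norm_num]
    exact Nat.Coprime.pow_left _ (Nat.prime_two.coprime_iff_not_dvd.2 (by omega))
  have h2 := hco.dvd_of_dvd_mul_left h16
  obtain ⟨k, hk⟩ : ∃ k, Fintype.card F = 8 * k + 3 ∨ Fintype.card F = 8 * k + 5 :=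
    ⟨Fintype.card F / 8, by omega⟩
  rcases hk with hk | hk <;> rw [hk] at h2
  · have e : (8 * k + 3) ^ 2 - 1 = 16 * (4 * k * k + 3 * k) + 8 := by
      exact Nat.sub_eq_of_eq_add (by ring)
    rw [e] at h2; omega
  · have e : (8 * k + 5) ^ 2 - 1 = 16 * (4 * k * k + 5 * k + 1) + 8 := by
      exact Nat.sub_eq_of_eq_add (by ring)
    rw [e] at h2; omega

theorem orderOf_ne_four (h8 : Fintype.card F % 8 = 3 ∨ Fintype.card F % 8 = 5) (x : PSLtwo F) :
    orderOf x ≠ 4 := by
  intro h4
  rcases semi_or_unip x with hs | hu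
  · exact four_not_dvd h8 hs (h4 ▸ orderOf_dvd_torus x)
  · obtain ⟨p, hpc⟩ := CharP.exists F
    obtain ⟨n, hp, hn⟩ := FiniteField.card F p
    haveI : Fact p.Prime := ⟨hp⟩
    have hd := orderOf_dvd_of_unip p hu
    rw [h4] at hd
    rcases (Nat.dvd_prime hp).1 hd with h | h
    · omega
    · rw [← h] at hp; norm_num at hp

/-- Element orders in `PSL₂` over a field with three or five elements. -/
theorem small_orders (hF : Fintype.card F = 3 ∨ Fintype.card F = 5) (x : PSLtwo F) :
    orderOf x ≤ 5 := by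
  by_cases hx : x = 1
  · rw [hx, orderOf_one]; norm_num
  have hd := Nat.le_of_dvd Nat.card_pos (orderOf_dvd_torus x)
  have hle : Nat.card (torus x) ≤ 5 := by
    rcases semi_or_unip x with hs | hu
    · rcases card_torus_semi hs with e | e <;> rw [e] <;> rcases hF with h | h <;> rw [h] <;> decide
    · rw [card_torus_unip hu hx]; omega
  omega

theorem orders_alt_four : ∀ σ : alternatingGroup (Fin 4), σ ^ 2 = 1 ∨ σ ^ 3 = 1 := by decide

theorem orders_alt_five : ∀ σ : Equiv.Perm (Fin 5), Equiv.Perm.sign σ = 1 →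
    σ ^ 2 = 1 ∨ σ ^ 3 = 1 ∨ σ ^ 5 = 1 := by decide +kernel

theorem perm_four_cycle : orderOf (finRotate 4) = 4 := by
  refine orderOf_eq_prime_pow (p := 2) (n := 1) ?_ ?_ <;> decide

end ConverseAux

open ConverseAux

/-- The listed groups are neither solvable nor CA-groups. -/
theorem notCA : NotCABrick := by
  intro F _ _ hodd h5
  classical
  haveI := simple_psl (F := F) (by omega)
  have hg : Nat.gcd 2 (Fintype.card F - 1) = 2 := Nat.gcd_eq_left (by
    obtain ⟨k, hk⟩ := hodd; omega)
  have h2 : (2 : F) ≠ 0 := by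
    intro h
    haveI : CharP F 2 := CharTwo.of_one_ne_zero_of_two_eq_zero one_ne_zero h
    obtain ⟨n, -, hn⟩ := FiniteField.card F 2
    rw [hn] at hodd
    exact Nat.not_even_iff_odd.2 hodd (Nat.even_pow.2 ⟨even_two, n.ne_zero⟩)
  obtain ⟨c, d, hcd⟩ : ∃ c d : F, c ^ 2 + d ^ 2 = -1 := by
    obtain ⟨a, b, hab⟩ := FiniteField.exists_root_sum_quadratic
      (f := (Polynomial.X ^ 2 : Polynomial F)) (g := Polynomial.X ^ 2 + Polynomial.C 1)
      (Polynomial.degree_X_pow 2) (Polynomial.degree_X_pow_add_C (by norm_num) 1)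
      (Nat.odd_iff.1 hodd)
    simp only [Polynomial.eval_pow, Polynomial.eval_X, Polynomial.eval_add, Polynomial.eval_C] at hab
    exact ⟨a, b, by linear_combination hab⟩
  let w : SLtwo F := weyl
  let n : SLtwo F := ofEntries c d d (-c) (by linear_combination -hcd)
  have hwc : w ∉ Subgroup.center (SLtwo F) := by
    intro hc
    have := congrArg (fun g : SLtwo F => g 0 0) (Subgroup.mem_center_iff.1 hc (upper 1))
    simp only [mul_00] at this
    simp [w, weyl, upper, ofEntries] at this
  set t : PSLtwo F := proj w with ht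
  have ht1 : t ≠ 1 := fun h => hwc (proj_eq_one_iff.1 h)
  have ht2 : orderOf t = 2 := orderOf_eq_prime (by
    rw [ht, ← map_pow, pow_two, weyl_mul_weyl, proj_neg, map_one]) ht1
  have hts := semi_of_invol hodd ht2
  -- an element of the torus which is not an involution
  haveI := isCyclic_torus_semi hts
  obtain ⟨r, hr⟩ := IsCyclic.exists_generator (α := torus t)
  have hrcard : orderOf (r : PSLtwo F) = Nat.card (torus t) := by
    rw [Subgroup.orderOf_coe]; exact orderOf_eq_card_of_forall_mem_zpowers hr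
  have hr2 : (r : PSLtwo F) * r ≠ 1 := by
    intro h
    have hd : orderOf (r : PSLtwo F) ∣ 2 := orderOf_dvd_of_pow_eq_one (by rw [pow_two]; exact h)
    rw [hrcard] at hd
    have := Nat.le_of_dvd (by norm_num) hd
    rcases card_torus_semi hts with e | e <;> rw [e, hg] at this <;>
      obtain ⟨k, hk⟩ := hodd <;> omega
  have hr1 : (r : PSLtwo F) ≠ 1 := fun h => hr2 (by rw [h, mul_one])
  have hnw : n * w = -(w * n) := by
    apply ext_entries <;>
      simp only [Matrix.SpecialLinearGroup.coe_neg, Matrix.neg_apply, mul_00, mul_01, mul_10, mul_11] <;>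
      simp [n, w, weyl, ofEntries]
  have hnt : proj n * t = t * proj n := by
    rw [ht, ← map_mul, ← map_mul, hnw, proj_neg]
  have hnT : proj n ∉ torus t := by
    intro h
    rw [ht, proj_mem_torus_iff, Subgroup.mem_centralizer_singleton_iff, hnw] at h
    have h00 := congrArg (fun g : SLtwo F => g 0 0) h
    have h01 := congrArg (fun g : SLtwo F => g 0 1) h
    simp only [Matrix.SpecialLinearGroup.coe_neg, Matrix.neg_apply, mul_00, mul_01] at h00 h01
    simp [n, w, weyl, ofEntries] at h00 h01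
    have hd0 : d = 0 := (mul_eq_zero.1 (show (2 : F) * d = 0 by linear_combination -h00)).resolve_left h2 
    have hc0 : c = 0 := (mul_eq_zero.1 (show (2 : F) * c = 0 by linear_combination h01)).resolve_left h2
    rw [hd0, hc0] at hcd
    simp at hcd
  have hnr : proj n * (r : PSLtwo F) ≠ r * proj n := by
    intro h
    apply hnT
    rw [← torus_eq_of_mem ht1 r.2 hr1]
    exact mem_torus_of_sq_ne hr2 h
  have hnca : ¬ IsCA (PSLtwo F) := by
    intro hca
    refine hnr (hca t ?_ _ _ hnt (torus_comm ht1 r.2 (mem_torus_self t)))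
    intro htc
    have hne : ¬ (∀ a b : PSLtwo F, a * b = b * a) := fun hall => hnr (hall _ _)
    rcases (Subgroup.Normal.eq_bot_or_eq_top (H := Subgroup.center (PSLtwo F)) inferInstance) with h | h
    · rw [h, Subgroup.mem_bot] at htc
      exact ht1 htc
    · exact hne fun a b => (Subgroup.mem_center_iff.1 (h ▸ Subgroup.mem_top a) b).symm
  refine ⟨fun hs => ?_, hnca⟩
  exact hnr ((IsSimpleGroup.comm_iff_isSolvable.2 hs) _ _)

/-- The field condition forced by CA proper subgroups. -/
theorem goodCard : GoodCardBrick := by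
  intro F _ _ h5 h8 hca
  classical
  obtain ⟨p, hpc⟩ := CharP.exists F
  obtain ⟨f, hp, hf⟩ := FiniteField.card F p
  haveI : Fact p.Prime := ⟨hp⟩
  have hp2 : p ≠ 2 := by
    rintro rfl
    have : 2 ∣ Fintype.card F := hf ▸ dvd_pow_self 2 f.ne_zero
    omega
  have hfo : Odd (f : ℕ) := by
    rw [← Nat.not_even_iff_odd]
    rintro ⟨k, hk⟩
    have h1 : Fintype.card F % 8 = 1 := by
      rw [hf, hk, ← two_mul, pow_mul, Nat.pow_mod]
      obtain ⟨j, hj⟩ := hp.odd_of_ne_two hp2
      have : p ^ 2 % 8 = 1 := by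
        rw [Nat.pow_mod]
        have : p % 8 = 1 ∨ p % 8 = 3 ∨ p % 8 = 5 ∨ p % 8 = 7 := by omega
        rcases this with e | e | e | e <;> rw [e]
      rw [this, one_pow, Nat.one_mod]
    omega
  by_cases hf1 : (f : ℕ) = 1
  · left
    rw [hf1, pow_one] at hf
    refine ⟨hf ▸ hp, h5, fun hd => ?_⟩
    obtain ⟨k, hk⟩ : ∃ k, Fintype.card F = 8 * k + 3 ∨ Fintype.card F = 8 * k + 5 :=
      ⟨Fintype.card F / 8, by omega⟩
    rcases hk with hk | hk <;> rw [hk] at hd
    · have e : (8 * k + 3) ^ 2 - 1 = 16 * (4 * k * k + 3 * k) + 8 := by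
        exact Nat.sub_eq_of_eq_add (by ring)
      rw [e] at hd; omega
    · have e : (8 * k + 5) ^ 2 - 1 = 16 * (4 * k * k + 5 * k + 1) + 8 := by
        exact Nat.sub_eq_of_eq_add (by ring)
      rw [e] at hd; omega
  right
  obtain ⟨l, hl, d, hd⟩ : ∃ l, l.Prime ∧ l ∣ (f : ℕ) := ⟨_, Nat.minFac_prime hf1, Nat.minFac_dvd _⟩
  have hd0 : d ≠ 0 := fun h => f.ne_zero (by rw [hd, h, mul_zero])
  letI := Fintype.ofFinite (GaloisField p d)
  have hK : Fintype.card (GaloisField p d) = p ^ d := by
    rw [← Nat.card_eq_fintype_card, GaloisField.card p d hd0]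
  obtain ⟨K, ⟨e⟩⟩ := exists_subfield_of_card_pow (GaloisField p d) F hl.ne_zero
    (by rw [hK, hf, ← pow_mul, mul_comm, ← hd])
  haveI : Fintype K := Fintype.ofFinite K
  have hKc : Fintype.card K = p ^ d := by rw [← hK]; exact Fintype.card_congr e.symm.toEquiv
  have hsmall : p ^ d ≤ 5 := by
    by_contra hgt
    obtain ⟨H, ⟨i⟩⟩ := exists_iso_of_subfield (F := F) (K := K) ⊤
    let i' : H ≃* PSLtwo K := i.trans Subgroup.topEquiv
    have hoddK : Odd (Fintype.card K) := by rw [hKc]; exact (hp.odd_of_ne_two hp2).pow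
    have hne : H ≠ ⊤ := by
      intro htop
      have h1 : Nat.card (PSLtwo F) = Nat.card (PSLtwo K) := by
        rw [← Nat.card_congr i'.toEquiv, htop, Subgroup.card_top]
      have h2 := card_PSLtwo_odd (F := F) (Nat.odd_iff.2 (by omega))
      have h3 := card_PSLtwo_odd (F := K) hoddK
      have hlt : Fintype.card K < Fintype.card F := by
        rw [hKc, hf, hd]
        exact Nat.pow_lt_pow_right hp.one_lt (lt_mul_left (Nat.pos_of_ne_zero hd0) hl.one_lt)
      rw [h1, h3] at h2
      have hA : Fintype.card K * (Fintype.card K ^ 2 - 1) < Fintype.card F * (Fintype.card F ^ 2 - 1) :=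
        Nat.mul_lt_mul_of_lt_of_le hlt (Nat.sub_le_sub_right (Nat.pow_le_pow_left hlt.le 2) 1)
          (by have := Nat.pow_le_pow_left h5.le 2; omega)
      omega
    exact (notCA (↥K) hoddK (by omega)).2 ((isCA_congr i').1 (hca H hne))
  have hp35 : (p = 3 ∨ p = 5) ∧ d = 1 := by
    have hp5 : p ≤ 5 := le_trans (Nat.le_self_pow hd0 p) hsmall
    have hd1 : d = 1 := by
      by_contra hne
      have h2 := Nat.pow_le_pow_right hp.pos (show 2 ≤ d by omega)
      have h3 : 3 ^ 2 ≤ p ^ 2 := Nat.pow_le_pow_left (by have := hp.two_le; omega) 2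
      omega
    refine ⟨?_, hd1⟩
    interval_cases p <;> first | omega | (exact absurd hp (by norm_num))
  refine ⟨l, hl, ?_, ?_⟩
  · rintro rfl
    rw [hd] at hfo
    exact Nat.not_even_iff_odd.2 hfo ⟨d, by ring⟩
  · rw [hf, hd, hp35.2, mul_one]
    exact hp35.1.imp (fun h => by rw [h]) (fun h => by rw [h])

/-- The proper subgroups of the listed groups are CA-groups. -/
theorem properCA : ProperCABrick := by
  intro F _ _ hgood H hH
  classical
  have h8 : Fintype.card F % 8 = 3 ∨ Fintype.card F % 8 = 5 := by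
    rcases hgood with ⟨hp, h5, hd⟩ | ⟨p, hp, hp2, h | h⟩
    · have ho := hp.odd_of_ne_two (by omega)
      obtain ⟨k, hk⟩ : ∃ k, Fintype.card F = 8 * k + 1 ∨ Fintype.card F = 8 * k + 3 ∨
          Fintype.card F = 8 * k + 5 ∨ Fintype.card F = 8 * k + 7 :=
        ⟨Fintype.card F / 8, by obtain ⟨j, hj⟩ := ho; omega⟩
      rcases hk with hk | hk | hk | hk
      · exfalso; apply hd; rw [hk]
        exact ⟨4 * k * k + k, Nat.sub_eq_of_eq_add (by ring)⟩
      · omega
      · omega
      · exfalso; apply hd; rw [hk]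
        exact ⟨4 * k * k + 7 * k + 3, Nat.sub_eq_of_eq_add (by ring)⟩
    all_goals
      obtain ⟨j, rfl⟩ := hp.odd_of_ne_two hp2
      rw [h, pow_succ, pow_mul, Nat.mul_mod, Nat.pow_mod]
      norm_num
  have hodd : Odd (Fintype.card F) := Nat.odd_iff.2 (by omega)
  have hg : Nat.gcd 2 (Fintype.card F - 1) = 2 := Nat.gcd_eq_left (by omega)
  intro x hx a b hax hbx
  by_contra hab
  set t : PSLtwo F := (x : PSLtwo F) with htdef
  have hta : (a : PSLtwo F) * t = t * a := congrArg Subtype.val hax
  have htb : (b : PSLtwo F) * t = t * b := congrArg Subtype.val hbx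
  have hab' : (a : PSLtwo F) * b ≠ b * a := fun h => hab (Subtype.ext h)
  have ht1 : t ≠ 1 := fun h => hx (by rw [show x = 1 from Subtype.ext h]; exact Subgroup.one_mem _)
  have ht2 : t * t = 1 := by
    by_contra h
    exact hab' (torus_comm ht1 (mem_torus_of_sq_ne h hta) (mem_torus_of_sq_ne h htb))
  have hto : orderOf t = 2 := orderOf_eq_prime (by rw [pow_two]; exact ht2) ht1
  have hts := semi_of_invol hodd hto
  set A : Subgroup (PSLtwo F) := torus t ⊓ H with hA
  have hAm : IsMember H A := isMember_of_mem x.2 ht1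
  have htA : t ∈ A := ⟨mem_torus_self t, x.2⟩
  have hAs : IsSemiMember H A := (semiMember_or_unipMember hAm).resolve_right
    fun hu => not_semi_of_unip (hu.2 t htA) hts
  have hNmem : ∀ c : H, (c : PSLtwo F) * t = t * c → (c : PSLtwo F) ∈ normIn H A := fun c hc =>
    (mem_normIn_iff hAm htA ht1).2 ⟨c.2, by
      rw [hc, mul_inv_cancel_right]; exact mem_torus_self t⟩
  rcases hAs.normIn_cases with he | ⟨hcardN, hout⟩
  · have h1 := hNmem a hta
    have h2 := hNmem b htb
    rw [he] at h1 h2
    exact hab' (hAm.comm h1 h2)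
  haveI := hAs.isCyclic
  obtain ⟨r, hr⟩ := IsCyclic.exists_generator (α := A)
  have hro : orderOf (r : PSLtwo F) = Nat.card A := by
    rw [Subgroup.orderOf_coe]; exact orderOf_eq_card_of_forall_mem_zpowers hr
  have hA2 : 2 ∣ Nat.card A := by have := Subgroup.orderOf_dvd_natCard A htA; rwa [hto] at this
  have hA4 : ¬ 4 ∣ Nat.card A := fun h =>
    four_not_dvd h8 hts (h.trans (Subgroup.card_dvd_of_le inf_le_left))
  have hA3 : Nat.card A ≠ 2 := by
    intro h
    -- the centraliser in `H` would have order four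
    haveI : Fact (Nat.Prime 2) := ⟨Nat.prime_two⟩
    haveI hc : IsMulCommutative (normIn H A) :=
      IsPGroup.isMulCommutative_of_card_eq_prime_sq (p := 2) (by rw [hcardN, h]; norm_num)
    exact hab' (congrArg Subtype.val (hc.is_comm.comm ⟨_, hNmem a hta⟩ ⟨_, hNmem b htb⟩))
  have hA6 : 6 ≤ Nat.card A := by
    have := hAm.two_le_card
    omega
  have hr2 : (r : PSLtwo F) * r ≠ 1 := by
    intro h
    have := Nat.le_of_dvd (by norm_num)
      (orderOf_dvd_of_pow_eq_one (show (r : PSLtwo F) ^ 2 = 1 by rw [pow_two]; exact h))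
    omega
  have hr1 : (r : PSLtwo F) ≠ 1 := fun h => hr2 (by rw [h, mul_one])
  have hrH : (r : PSLtwo F) ∈ H := hAm.le r.2
  -- `H` is not the normaliser of the member
  have hnot : normIn H A ≠ H := by
    intro he
    apply hx
    refine Subgroup.mem_center_iff.2 fun y => Subtype.ext ?_
    show (y : PSLtwo F) * t = t * y
    have hy : (y : PSLtwo F) ∈ normIn H A := he.symm ▸ y.2
    by_cases hyA : (y : PSLtwo F) ∈ A
    · exact hAm.comm hyA htA
    · have h1 := (hout _ hy hyA).2 t htA
      rw [inv_eq_of_mul_eq_one_right ht2] at h1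
      exact mul_inv_eq_iff_eq_mul.1 h1
  have hcardlt : ∀ k, Nat.card H = k → 2 * Nat.card A ∣ k ∧ 2 * Nat.card A < k := by
    intro k hk
    rw [← hcardN, ← hk]
    refine ⟨Subgroup.card_dvd_of_le (normIn_le H A), ?_⟩
    exact lt_of_le_of_ne (Subgroup.card_le_of_le (normIn_le H A))
      fun h => hnot (Subgroup.eq_of_le_of_card_ge (normIn_le H A) h.ge)
  obtain ⟨p, hpc⟩ := CharP.exists F
  haveI : Fact p.Prime := ⟨CharP.char_is_prime F p⟩
  rcases dickson p H with h | ⟨B, hB, hBN, -⟩ | ⟨u, hu, hu1, hle⟩ | h | ⟨K, δ, hK3, h⟩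
  · rw [h] at hrH
    exact hr1 (Subgroup.mem_bot.1 hrH)
  · have hrB : (r : PSLtwo F) ∈ B := by
      by_contra hn
      rcases hB.normIn_cases with he | ⟨-, ho⟩
      · exact hn (he ▸ (hBN.symm ▸ hrH))
      · exact hr2 (ho _ (hBN.symm ▸ hrH) hn).1
    have hBA : B = A := by
      exact (hB.1.eq_of_mem hrB hr1).trans (hAm.eq_of_mem r.2 hr1).symm
    exact hnot (hBA ▸ hBN)
  · have hnorm : ∀ g ∈ H, g * u * g⁻¹ ∈ torus u := fun g hg =>
      (Subgroup.mem_normalizer_iff.1 (hle hg) u).1 (mem_torus_self u)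
    obtain ⟨n, hn, hnA⟩ : ∃ n ∈ normIn H A, n ∉ A := by
      by_contra hh
      push Not at hh
      have := Subgroup.card_le_of_le hh
      omega
    have hmem := commutator_mem_torus_unip hu hu1 (hnorm n (normIn_le H A hn)) (hnorm _ hrH)
    rw [(hout n hn hnA).2 _ r.2] at hmem
    have hne : (r : PSLtwo F)⁻¹ * (r : PSLtwo F)⁻¹ ≠ 1 := fun e => hr2 (by
      rw [← mul_inv_rev, inv_eq_one] at e; exact e)
    have hinA : (r : PSLtwo F)⁻¹ * (r : PSLtwo F)⁻¹ ∈ A := A.mul_mem (A.inv_mem r.2) (A.inv_mem r.2)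
    exact semi_unip_torus_ne (hAs.2 _ hinA hne) hu hu1 (torus_eq_of_mem hu1 hmem hne)
  · rcases h with ⟨⟨e⟩⟩ | ⟨⟨e⟩⟩ | ⟨⟨e⟩⟩
    · have := (e ⟨_, hrH⟩ : alternatingGroup (Fin 4))
      have ho : orderOf (e ⟨(r : PSLtwo F), hrH⟩) = Nat.card A := by
        rw [MulEquiv.orderOf_eq, ← hro, ← Subgroup.orderOf_coe]
      rcases orders_alt_four (e ⟨_, hrH⟩) with h | h <;>
        · have := Nat.le_of_dvd (by norm_num) (orderOf_dvd_of_pow_eq_one h); omega
    · obtain ⟨y, hy⟩ := e.surjective (finRotate 4)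
      have ho : orderOf (y : PSLtwo F) = 4 := by
        rw [Subgroup.orderOf_coe, ← MulEquiv.orderOf_eq e, hy, perm_four_cycle]
      exact orderOf_ne_four h8 _ ho
    · have ho : orderOf ((e ⟨(r : PSLtwo F), hrH⟩ : alternatingGroup (Fin 5)) : Equiv.Perm (Fin 5)) =
          Nat.card A := by
        rw [Subgroup.orderOf_coe, MulEquiv.orderOf_eq, ← hro, ← Subgroup.orderOf_coe]
      rcases orders_alt_five _ (Equiv.Perm.mem_alternatingGroup.1 (e ⟨_, hrH⟩).2) with h | h | h <;>
        · have := Nat.le_of_dvd (by norm_num) (orderOf_dvd_of_pow_eq_one h); omega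
  · haveI : Fintype K := Fintype.ofFinite K
    have hKodd : Odd (Fintype.card K) := by
      have hpow : Fintype.card F = Fintype.card K ^ Module.finrank K F := Module.card_eq_pow_finrank
      rw [← Nat.not_even_iff_odd]
      intro hev
      rw [hpow] at hodd
      exact Nat.not_even_iff_odd.2 hodd (hev.pow_of_ne_zero Module.finrank_pos.ne')
    have hpow : Fintype.card F = Fintype.card K ^ Module.finrank K F := Module.card_eq_pow_finrank
    have hKq : Fintype.card K = Fintype.card F ∨ Fintype.card K = 3 ∨ Fintype.card K = 5 := by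
      rcases hgood with ⟨hp', -, -⟩ | ⟨l, hl, hl2, hq⟩
      · left
        rw [hpow] at hp' ⊢
        rw [Nat.Prime.pow_eq_iff hp' |>.1 rfl |>.2, pow_one]
      · have key : ∀ r : ℕ, r.Prime → Fintype.card F = r ^ l →
            Fintype.card K = Fintype.card F ∨ Fintype.card K = r := by
          intro r hr he
          obtain ⟨i, hi, hKi⟩ := (Nat.dvd_prime_pow hr).1
            (show Fintype.card K ∣ r ^ l from he ▸ hpow ▸ dvd_pow_self _ Module.finrank_pos.ne')
          have hil : i * Module.finrank K F = l := by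
            apply Nat.pow_right_injective hr.two_le
            show r ^ (i * Module.finrank K F) = r ^ l
            rw [pow_mul, ← hKi, ← hpow, he]
          rcases (Nat.dvd_prime hl).1 ⟨_, hil.symm⟩ with h1 | h1
          · right; rw [hKi, h1, pow_one]
          · left; rw [hKi, he, h1]
        rcases hq with hq | hq
        · exact (key 3 Nat.prime_three hq).imp_right Or.inl
        · exact (key 5 (by norm_num) hq).imp_right Or.inr
    have hmapc : ∀ R : Subgroup (Matrix.ProjGenLinGroup (Fin 2) F),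
        H.map Matrix.ProjectiveSpecialLinearGroup.toPGL = R.map (MulAut.conj δ).toMonoidHom →
        Nat.card H = Nat.card R := by
      intro R hR
      rw [← Subgroup.card_map_of_injective Matrix.ProjectiveSpecialLinearGroup.toPGL_injective, hR,
        Subgroup.card_map_of_injective (MulEquiv.injective _)]
    have hlow : 2 * Nat.card H ≤ Fintype.card F * (Fintype.card F ^ 2 - 1) := by
      rw [← card_PSLtwo_odd hodd]
      exact Nat.mul_le_mul_left 2 (Subgroup.card_le_card_group H)
    rcases h with h | h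
    · have hc : Nat.card H = Fintype.card K * (Fintype.card K ^ 2 - 1) := by
        rw [hmapc _ h, card_glMap_range', Nat.card_eq_fintype_card]
      rcases hKq with hk | hk | hk
      · rw [hk] at hc
        have := Nat.card_pos (α := H)
        omega
      all_goals
        rw [hk] at hc
        exact eight_not_dvd h8 (dvd_trans (by rw [hc]; norm_num) (Subgroup.card_subgroup_dvd_card H))
    · have hc : Nat.card H = Nat.card (PSLtwo K) := by
        rw [hmapc _ h, Nat.card_congr (rangeSlMapEquiv K).toEquiv]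
      rcases hKq with hk | hk
      · apply hH
        apply Subgroup.eq_top_of_card_eq
        have h2 := card_PSLtwo_odd (F := K) hKodd
        rw [hk, ← card_PSLtwo_odd hodd, ← hc] at h2
        show Nat.card H = Nat.card (PSLtwo F)
        omega
      · let eH : H ≃* PSLtwo K :=
          (H.equivMapOfInjective _ Matrix.ProjectiveSpecialLinearGroup.toPGL_injective).trans
            ((MulEquiv.subgroupCongr h).trans (((slMap K).range.equivMapOfInjective
              (MulAut.conj δ).toMonoidHom (MulEquiv.injective _)).symm.trans (rangeSlMapEquiv K)))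
        have := small_orders (F := K) hk (eH ⟨_, hrH⟩)
        rw [MulEquiv.orderOf_eq, ← Subgroup.orderOf_coe] at this
        change orderOf (r : PSLtwo F) ≤ 5 at this
        omega

end Cfsg.Agent.Lib.MinNonCA34
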