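import Mathlib
import Cfsg.Prelude.Def_Transfer
import Cfsg.Agent.Lib.MinNonCA34.Basic
import Cfsg.Agent.Lib.MinNonCA34.Spec
import Cfsg.Agent.Lib.AbelianConj.Basic
import Cfsg.Agent.Lib.Classical.LowRank.Index
import Cfsg.Agent.Lib.IsolatedOdd.Transfer
import Cfsg.Agent.S0075
import Cfsg.Agent.S0111
import Cfsg.Agent.S2202

/-!
# Minimal non-CA groups: the even branch

With a centre of even order, every non-central 2-element has abelian centraliser.  A Sylow 2-subgroup is
then elementary abelian modulo the centre (so every involution centraliser of the central quotient is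
abelian) or is dihedral modulo the centre.
-/

set_option autoImplicit false

namespace Cfsg.Agent.Lib.MinNonCA34

open Subgroup
open scoped Pointwise commutatorElement

universe u

namespace EvenAux

variable {G : Type*} [Group G]

theorem center_comm {z : G} (hz : z ∈ center G) (g : G) : g * z = z * g := mem_center_iff.1 hz g

theorem mk'_eq_one {x : G} : QuotientGroup.mk' (center G) x = 1 ↔ x ∈ center G :=
  QuotientGroup.eq_one_iff x

theorem mul_mem_iff {S A : Subgroup G} (h2 : A.relIndex S = 2) {x y : G} (hx : x ∈ S) (hy : y ∈ S) :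
    x * y ∈ A ↔ (x ∈ A ↔ y ∈ A) := by
  have := Subgroup.mul_mem_iff_of_index_two (H := A.subgroupOf S) h2 (a := ⟨x, hx⟩) (b := ⟨y, hy⟩)
  simpa [mem_subgroupOf] using this

/-- Split off the 2-part of an element. -/
theorem two_part [Finite G] (x : G) :
    ∃ a b : G, x = a * b ∧ (∃ e, orderOf a = 2 ^ e) ∧ a ∈ zpowers x ∧ b ∈ zpowers (x * x) := by
  obtain ⟨e, m, hm, he⟩ := Nat.exists_eq_two_pow_mul_odd (orderOf_pos x).ne'
  have hc : Nat.Coprime m (2 ^ (e + 1)) := (Nat.coprime_two_right.2 hm).pow_right _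
  have hb := Nat.gcd_eq_gcd_ab m (2 ^ (e + 1))
  rw [hc.gcd_eq_one, Nat.cast_one] at hb
  set u := Nat.gcdA m (2 ^ (e + 1))
  set v := Nat.gcdB m (2 ^ (e + 1))
  refine ⟨(x ^ m) ^ u, (x * x) ^ ((2 ^ e : ℤ) * v), ?_, ?_,
    zpow_mem (pow_mem (mem_zpowers x) _) _, zpow_mem (mem_zpowers _) _⟩
  · rw [← pow_two, ← zpow_natCast x m, ← zpow_natCast x 2, ← zpow_mul, ← zpow_mul, ← zpow_add]
    conv_lhs => rw [← zpow_one x, hb]
    congr 1
    push_cast
    ring
  · have h1 : orderOf ((x ^ m) ^ u) ∣ 2 ^ e := by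
      refine orderOf_dvd_of_pow_eq_one ?_
      rw [← zpow_natCast, ← zpow_mul, mul_comm, zpow_mul, zpow_natCast, ← pow_mul, mul_comm,
        ← he, pow_orderOf_eq_one, one_zpow]
    obtain ⟨j, -, hj⟩ := (Nat.dvd_prime_pow Nat.prime_two).1 h1
    exact ⟨j, hj⟩

theorem isPGroup_zpowers {g : G} {e : ℕ} (hg : orderOf g = 2 ^ e) : IsPGroup 2 (zpowers g) :=
  IsPGroup.of_card (n := e) (by rw [Nat.card_zpowers, hg])

/-- A 2-element normalising a Sylow 2-subgroup lies in it. -/
theorem mem_of_normalises (S : Sylow 2 G) {g : G} {e : ℕ} (hg : orderOf g = 2 ^ e)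
    (hn : g ∈ normalizer ((S : Subgroup G) : Set G)) : g ∈ (S : Subgroup G) := by
  have h := (isPGroup_zpowers hg).inf_normalizer_sylow S
  exact (h.le ⟨mem_zpowers g, hn⟩).2

theorem exists_pow_two_of_mem {S : Sylow 2 G} {s : G} (hs : s ∈ (S : Subgroup G)) :
    ∃ e, orderOf s = 2 ^ e := by
  obtain ⟨e, he⟩ := IsPGroup.iff_orderOf.1 S.isPGroup' (⟨s, hs⟩ : (S : Subgroup G))
  exact ⟨e, by rw [← he, Subgroup.orderOf_mk]⟩

/-- A 2-element of a subgroup containing a Sylow 2-subgroup is conjugate into it there. -/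
theorem exists_conj_mem [Finite G] (S : Sylow 2 G) {K : Subgroup G} (hSK : (S : Subgroup G) ≤ K)
    {g : G} {e : ℕ} (hg : orderOf g = 2 ^ e) (hgK : g ∈ K) :
    ∃ x ∈ K, x * g * x⁻¹ ∈ (S : Subgroup G) := by
  have hp : IsPGroup 2 (zpowers (⟨g, hgK⟩ : K)) :=
    isPGroup_zpowers (e := e) (by rw [Subgroup.orderOf_mk, hg])
  obtain ⟨Q, hQ⟩ := hp.exists_le_sylow
  obtain ⟨y, hy⟩ := MulAction.exists_smul_eq K Q (S.subtype hSK)
  refine ⟨y, y.2, ?_⟩
  have h1 : (⟨g, hgK⟩ : K) ∈ (Q : Subgroup K) := hQ (mem_zpowers _)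
  have h2 := Subgroup.smul_mem_pointwise_smul _ (MulAut.conj y) (Q : Subgroup K) h1
  have h3 : MulAut.conj y • (Q : Subgroup K) = ((S.subtype hSK : Sylow 2 K) : Subgroup K) := by
    rw [← hy]; rfl
  rw [h3] at h2
  simpa [Sylow.coe_subtype, mem_subgroupOf] using h2

theorem comm_central {z : G} (hz : z ∈ center G) (w q : G) :
    w * (z * q) * w⁻¹ * (z * q)⁻¹ = w * q * w⁻¹ * q⁻¹ := by
  rw [← mul_assoc, center_comm hz w, show z * w * q * w⁻¹ * (z * q)⁻¹ = z * (w * q * w⁻¹ * q⁻¹) * z⁻¹ by group,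
    ← center_comm hz, mul_inv_cancel_right]

/-- Elements centralising `t` modulo the centre. -/
def Emod (t : G) : Subgroup G :=
  (centralizer ({QuotientGroup.mk' (center G) t} : Set (G ⧸ center G))).comap
    (QuotientGroup.mk' (center G))

theorem mem_Emod {t g : G} : g ∈ Emod t ↔ g * t * g⁻¹ * t⁻¹ ∈ center G := by
  rw [Emod, mem_comap, mem_centralizer_singleton_iff, ← mk'_eq_one, map_mul, map_mul, map_mul,
    map_inv, map_inv, mul_inv_eq_one, mul_inv_eq_iff_eq_mul]

theorem centralizer_le_Emod {t g : G} (h : g * t = t * g) : g ∈ Emod t := by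
  rw [mem_Emod, h, mul_inv_cancel_right, mul_inv_cancel]
  exact one_mem _

/-- The commutator with `t`, a homomorphism into the centre. -/
def phi (t : G) : Emod t →* center G where
  toFun g := ⟨(g : G) * t * (g : G)⁻¹ * t⁻¹, mem_Emod.1 g.2⟩
  map_one' := Subtype.ext (by simp)
  map_mul' g h := by
    refine Subtype.ext ?_
    show (g : G) * h * t * ((g : G) * h)⁻¹ * t⁻¹ =
      ((g : G) * t * (g : G)⁻¹ * t⁻¹) * ((h : G) * t * (h : G)⁻¹ * t⁻¹)
    have hc := center_comm (mem_Emod.1 h.2)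
    calc (g : G) * h * t * ((g : G) * h)⁻¹ * t⁻¹
        = (g : G) * ((h : G) * t * (h : G)⁻¹ * t⁻¹) * (t * (g : G)⁻¹ * t⁻¹) := by group
      _ = ((h : G) * t * (h : G)⁻¹ * t⁻¹) * (g : G) * (t * (g : G)⁻¹ * t⁻¹) := by rw [hc (g : G)]
      _ = ((h : G) * t * (h : G)⁻¹ * t⁻¹) * ((g : G) * t * (g : G)⁻¹ * t⁻¹) := by group
      _ = _ := (hc _).symm

theorem phi_eq_one {t : G} {g : Emod t} : phi t g = 1 ↔ (g : G) * t = t * (g : G) := by
  rw [Subtype.ext_iff]
  show (g : G) * t * (g : G)⁻¹ * t⁻¹ = 1 ↔ _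
  rw [mul_inv_eq_one, mul_inv_eq_iff_eq_mul]

theorem phi_sq {t : G} (ht : t * t ∈ center G) (g : Emod t) : phi t g * phi t g = 1 := by
  refine Subtype.ext ?_
  show ((g : G) * t * (g : G)⁻¹ * t⁻¹) * ((g : G) * t * (g : G)⁻¹ * t⁻¹) = 1
  have hc := center_comm (mem_Emod.1 g.2)
  calc ((g : G) * t * (g : G)⁻¹ * t⁻¹) * ((g : G) * t * (g : G)⁻¹ * t⁻¹)
      = (g : G) * t * (g : G)⁻¹ * (t⁻¹ * ((g : G) * t * (g : G)⁻¹ * t⁻¹)) := by group
    _ = (g : G) * t * (g : G)⁻¹ * (((g : G) * t * (g : G)⁻¹ * t⁻¹) * t⁻¹) := by rw [hc t⁻¹]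
    _ = (g : G) * (t * t) * (g : G)⁻¹ * (t * t)⁻¹ := by group
    _ = 1 := by rw [center_comm ht]; group

theorem phi_conj {t : G} (x g : Emod t) : phi t (x * g * x⁻¹) = phi t g := by
  rw [map_mul, map_mul, map_inv]
  refine Subtype.ext ?_
  have hc := center_comm (phi t g).2
  show (phi t x : G) * (phi t g : G) * (phi t x : G)⁻¹ = (phi t g : G)
  rw [hc, mul_inv_cancel_right]

/-- Every value of the commutator with `t` is taken on the Sylow 2-subgroup. -/
theorem phi_hit [Finite G] (S : Sylow 2 G) {t : G} (hSE : (S : Subgroup G) ≤ Emod t)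
    (ht : t * t ∈ center G) (g : Emod t) :
    ∃ s : Emod t, (s : G) ∈ (S : Subgroup G) ∧ phi t s = phi t g := by
  obtain ⟨a, b, hab, ⟨e, he⟩, ha, hb⟩ := two_part (g : G)
  have hgE : zpowers (g : G) ≤ Emod t := zpowers_le.2 g.2
  have haE : a ∈ Emod t := hgE ha
  obtain ⟨j, rfl⟩ := hb
  have hg2 : phi t (g * g) = 1 := by rw [map_mul, phi_sq ht]
  have hg : g = ⟨a, haE⟩ * (g * g) ^ j := Subtype.ext (by simpa using hab)
  obtain ⟨x, hx, hxs⟩ := exists_conj_mem S hSE he haE
  refine ⟨⟨x, hx⟩ * ⟨a, haE⟩ * ⟨x, hx⟩⁻¹, hxs, ?_⟩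
  rw [phi_conj]
  conv_rhs => rw [hg, map_mul, map_zpow, hg2, one_zpow, mul_one]

theorem four_identity {C : Type*} [CommGroup C] (k a b c : C) :
    k * a * (k * b) * (k * c) * (k * a * b * c)⁻¹ = k * k := by
  rw [mul_inv_eq_iff_eq_mul]
  ac_rfl

/-- The setting: every non-central 2-element has abelian centraliser. -/
structure Setup (G : Type*) [Group G] [Finite G] (S : Sylow 2 G) : Prop where
  qs : QS G
  good : ∀ (t : G) (k : ℕ), orderOf t = 2 ^ k → ¬ Bad t
  central : ∀ z ∈ (S : Subgroup G), (∀ s ∈ (S : Subgroup G), s * z = z * s) → z ∈ center G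
  nonab : ¬ IsMulCommutative (S : Subgroup G)

variable [Finite G] {S : Sylow 2 G} (h : Setup G S)
include h

theorem Setup.comm {t a b : G} (ht : t ∈ (S : Subgroup G)) (htZ : t ∉ center G)
    (ha : a * t = t * a) (hb : b * t = t * b) : a * b = b * a := by
  obtain ⟨e, he⟩ := exists_pow_two_of_mem ht
  by_contra hab
  exact h.good t e he ⟨htZ, a, b, ha, hb, hab⟩

theorem Setup.exists_not_comm {t : G} (ht : t ∈ (S : Subgroup G)) (htZ : t ∉ center G) :
    ∃ s ∈ (S : Subgroup G), s * t ≠ t * s := by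
  by_contra hne
  push Not at hne
  exact htZ (h.central t ht hne)

theorem Setup.not_comm_group : ¬ ∀ a b : G ⧸ center G, a * b = b * a := by
  intro hc
  have htop : commutator G ≤ center G := by
    rw [_root_.commutator_def, commutator_le]
    intro a _ b _
    rw [← mk'_eq_one, map_commutatorElement, commutatorElement_eq_one_iff_mul_comm]
    exact hc _ _
  rw [h.qs.perfect] at htop
  exact h.nonab ⟨⟨fun a b => Subtype.ext (center_comm (htop (mem_top (b : G))) a)⟩⟩

theorem Setup.center_quot : center (G ⧸ center G) = ⊥ := by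
  have := h.qs.simple
  refine ((inferInstance : (center (G ⧸ center G)).Normal).eq_bot_or_eq_top).resolve_right fun e => ?_
  exact h.not_comm_group fun a b => mem_center_iff.1 (e ▸ mem_top b) a

theorem Setup.Emod_ne_top {t : G} (htZ : t ∉ center G) : Emod t ≠ ⊤ := by
  intro e
  have h1 : QuotientGroup.mk' (center G) t ∈ center (G ⧸ center G) := by
    refine mem_center_iff.2 fun y => ?_
    obtain ⟨g, rfl⟩ := QuotientGroup.mk'_surjective (center G) y
    have hg : g ∈ Emod t := e ▸ mem_top g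
    exact mem_centralizer_singleton_iff.1 (mem_comap.1 hg)
  rw [h.center_quot, mem_bot] at h1
  exact htZ (mk'_eq_one.1 h1)

/-- What commutes with `t` and with some other element moving `t` is central in `Emod t`. -/
theorem Setup.central_Emod {t u k : G} (htZ : t ∉ center G) (hu : u ∈ Emod t)
    (hut : u * t ≠ t * u) (hkt : k * t = t * k) (huk : u * k = k * u) :
    ∀ g ∈ Emod t, g * k = k * g :=
  h.qs.central_of_commutes (h.Emod_ne_top htZ) (centralizer_le_Emod hkt) (centralizer_le_Emod rfl) hu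
    hkt.symm huk (fun e => hut e.symm)

omit h in
theorem mem_sylow_of_center {z : G} {e : ℕ} (hz : z ∈ center G) (he : orderOf z = 2 ^ e)
    (S : Sylow 2 G) : z ∈ (S : Subgroup G) :=
  mem_of_normalises S he (center_le_normalizer _ hz)

/-- A lift of an element normalising the image of `S` normalises `S`. -/
theorem Setup.normalises {n : G}
    (hn : QuotientGroup.mk' (center G) n ∈
      normalizer (((S : Subgroup G).map (QuotientGroup.mk' (center G)) : Subgroup _) : Set _))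
    {s : G} (hs : s ∈ (S : Subgroup G)) : n * s * n⁻¹ ∈ (S : Subgroup G) := by
  have h1 := (mem_normalizer_iff.1 hn (QuotientGroup.mk' (center G) s)).1 (mem_map_of_mem _ hs)
  rw [← map_inv, ← map_mul, ← map_mul] at h1
  obtain ⟨s', hs', hz⟩ := mem_map.1 h1
  rw [← mul_inv_eq_one, ← map_inv, ← map_mul, mk'_eq_one] at hz
  obtain ⟨e, he⟩ := exists_pow_two_of_mem hs
  refine mem_of_normalises S (e := e) ?_ ?_
  · rw [← he]
    exact (MulAut.conj n).orderOf_eq s
  · have : n * s * n⁻¹ = (s' * (n * s * n⁻¹)⁻¹)⁻¹ * s' := by group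
    rw [this]
    exact mul_mem (center_le_normalizer _ (inv_mem hz)) (le_normalizer hs')

theorem Setup.card_map_gt_two :
    2 < Nat.card ((S : Subgroup G).map (QuotientGroup.mk' (center G))) := by
  by_contra hle
  push Not at hle
  refine h.nonab ⟨⟨fun a b => ?_⟩⟩
  refine Subtype.ext ?_
  by_cases ha : (a : G) ∈ center G
  · exact (center_comm ha b).symm
  by_cases hb : (b : G) ∈ center G
  · exact center_comm hb a
  have hab : QuotientGroup.mk' (center G) a = QuotientGroup.mk' (center G) b := by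
    by_contra hne
    set T := (S : Subgroup G).map (QuotientGroup.mk' (center G))
    have h3 : ({1, QuotientGroup.mk' (center G) (a : G), QuotientGroup.mk' (center G) (b : G)} :
        Set (G ⧸ center G)) ⊆ (T : Set _) := by
      intro x hx
      rcases hx with rfl | rfl | rfl
      · exact one_mem T
      · exact mem_map_of_mem _ a.2
      · exact mem_map_of_mem _ b.2
    have h4 := Set.ncard_le_ncard h3 (Set.toFinite _)
    rw [Set.ncard_insert_of_notMem (fun hh => hh.elim (fun e => ha (mk'_eq_one.1 e.symm))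
      (fun e => hb (mk'_eq_one.1 (Set.mem_singleton_iff.1 e).symm))) (Set.toFinite _), Set.ncard_pair hne,
      ← Nat.card_coe_set_eq] at h4
    exact absurd h4 (by simp only [SetLike.coe_sort_coe]; omega)
  rw [← mul_inv_eq_one, ← map_inv, ← map_mul, mk'_eq_one] at hab
  obtain ⟨z, hz, hzb⟩ : ∃ z ∈ center G, (a : G) = z * b := ⟨_, hab, by group⟩
  show (a : G) * b = b * a
  rw [hzb, ← mul_assoc (b : G), center_comm hz (b : G)]

/-- With two different abelian subgroups of index two the central quotient of `S` has order at most 4. -/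
theorem Setup.abelian_index_two_unique
    (h4 : 4 < Nat.card ((S : Subgroup G).map (QuotientGroup.mk' (center G))))
    {A A' : Subgroup G} (hA : A ≤ (S : Subgroup G)) (hA' : A' ≤ (S : Subgroup G))
    (hi : A.relIndex (S : Subgroup G) = 2) (hi' : A'.relIndex (S : Subgroup G) = 2)
    (hc : ∀ x ∈ A, ∀ y ∈ A, x * y = y * x) (hc' : ∀ x ∈ A', ∀ y ∈ A', x * y = y * x) : A' ≤ A := by
  intro a' ha'
  by_contra ha
  set π := QuotientGroup.mk' (center G)
  have hz : A ⊓ A' ≤ π.ker := fun x hx => by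
    rw [QuotientGroup.ker_mk']
    refine h.central x (hA hx.1) fun s hs => ?_
    by_cases hsA : s ∈ A
    · exact hc s hsA x hx.1
    have hs' : a'⁻¹ * s ∈ A := (mul_mem_iff hi (inv_mem (hA' ha')) hs).2
      (iff_of_false (fun h0 => ha (by simpa using inv_mem h0)) hsA)
    have e1 := hc _ hs' x hx.1
    have e2 := hc' a' ha' x hx.2
    calc s * x = a' * ((a'⁻¹ * s) * x) := by group
      _ = a' * (x * (a'⁻¹ * s)) := by rw [e1]
      _ = (a' * x) * (a'⁻¹ * s) := by group
      _ = (x * a') * (a'⁻¹ * s) := by rw [e2]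
      _ = x * s := by group
  have h1 : Nat.card ((S : Subgroup G).map π) = π.ker.relIndex (S : Subgroup G) :=
    (Subgroup.relIndex_ker _ π).symm
  have h2 : π.ker.relIndex (S : Subgroup G) ≤ (A ⊓ A').relIndex (S : Subgroup G) :=
    Subgroup.relIndex_le_of_le_left hz
      (fun h0 => by
        have := Subgroup.relIndex_inf_ne_zero (H := A) (K := A') (L := (S : Subgroup G))
          (by rw [hi]; norm_num) (by rw [hi']; norm_num)
        exact this h0)
  have h3 := Subgroup.relIndex_inf_le (H := A) (K := A') (L := (S : Subgroup G))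
  rw [hi, hi'] at h3
  omega

variable (hsq : ∀ s ∈ (S : Subgroup G), s * s ∈ center G)
include hsq

theorem Setup.le_Emod_of_squares {t : G} (ht : t ∈ (S : Subgroup G)) : (S : Subgroup G) ≤ Emod t := by
  intro s hs
  rw [mem_Emod]
  have e : s * t * s⁻¹ * t⁻¹ = ((s * t) * (s * t)) * (t * t)⁻¹ * (t * (s * s)⁻¹ * t⁻¹) := by group
  rw [e]
  refine mul_mem (mul_mem (hsq _ (mul_mem hs ht)) (inv_mem (hsq t ht))) ?_
  rw [center_comm (inv_mem (hsq s hs)) t, mul_inv_cancel_right]
  exact inv_mem (hsq s hs)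

/-- For `|S/Z| ≥ 8` the centraliser of `t` in `S` has index at least four. -/
theorem Setup.exists_two_outside
    (h4 : 4 < Nat.card ((S : Subgroup G).map (QuotientGroup.mk' (center G))))
    {t : G} (ht : t ∈ (S : Subgroup G)) (htZ : t ∉ center G) :
    ∃ u ∈ (S : Subgroup G), ∃ v ∈ (S : Subgroup G),
      u * t ≠ t * u ∧ v * t ≠ t * v ∧ u * v * t ≠ t * (u * v) := by
  by_contra hne
  push Not at hne
  have := h.qs.simple
  have : Fact (Nat.Prime 2) := ⟨Nat.prime_two⟩
  set π := QuotientGroup.mk' (center G) with hπ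
  set A := (S : Subgroup G) ⊓ centralizer ({t} : Set G) with hA
  have memA : ∀ x, x ∈ A ↔ x ∈ (S : Subgroup G) ∧ x * t = t * x := fun x => by
    rw [hA, mem_inf, mem_centralizer_singleton_iff]
  obtain ⟨u, hu, hut⟩ := h.exists_not_comm ht htZ
  have hi : A.relIndex (S : Subgroup G) = 2 := by
    refine Subgroup.index_eq_two_iff.2 ⟨⟨u, hu⟩, fun b => ?_⟩
    rw [mem_subgroupOf, mem_subgroupOf]
    show Xor' ((b : G) * u ∈ A) ((b : G) ∈ A)
    by_cases hb : (b : G) ∈ A
    · refine Or.inr ⟨hb, fun hbu => hut ?_⟩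
      have := ((memA _).1 (show (b : G)⁻¹ * ((b : G) * u) ∈ A from mul_mem (inv_mem hb) hbu)).2
      rwa [inv_mul_cancel_left] at this
    · refine Or.inl ⟨(memA _).2 ⟨mul_mem b.2 hu, ?_⟩, hb⟩
      exact hne b b.2 u hu (fun hc => hb ((memA _).2 ⟨b.2, hc⟩)) hut
  have hAc : ∀ x ∈ A, ∀ y ∈ A, x * y = y * x := fun x hx y hy =>
    h.comm ht htZ ((memA x).1 hx).2 ((memA y).1 hy).2
  set Sb : Sylow 2 (G ⧸ center G) := S.mapSurjective (QuotientGroup.mk'_surjective (center G)) with hSb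
  have hSbc : (Sb : Subgroup (G ⧸ center G)) = (S : Subgroup G).map π := Sylow.coe_mapSurjective _ _
  have hab : IsMulCommutative Sb := by
    refine ⟨⟨fun x y => Subtype.ext ?_⟩⟩
    obtain ⟨a, ha, hax⟩ := mem_map.1 (show (x : G ⧸ center G) ∈ (S : Subgroup G).map π by
      rw [← hSbc]; exact x.2)
    obtain ⟨b, hb, hby⟩ := mem_map.1 (show (y : G ⧸ center G) ∈ (S : Subgroup G).map π by
      rw [← hSbc]; exact y.2)
    show (x : G ⧸ center G) * y = y * x
    rw [← hax, ← hby]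
    have hE : π a ∈ centralizer ({π b} : Set (G ⧸ center G)) :=
      mem_comap.1 (h.le_Emod_of_squares hsq hb ha)
    exact mem_centralizer_singleton_iff.1 hE
  have hperf : commutator (G ⧸ center G) = ⊤ := by
    rw [_root_.commutator_def, ← map_top_of_surjective π (QuotientGroup.mk'_surjective (center G)),
      ← map_commutator, ← _root_.commutator_def, h.qs.perfect]
  have hfoc := Cfsg.Agent.S0075.result Sb hab
  rw [IsolatedOdd.pResidual_eq_top_of_perfect Sb (hperf ▸ le_top), inf_top_eq] at hfoc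
  have hle : ⁅(Sb : Subgroup (G ⧸ center G)), normalizer ((Sb : Subgroup (G ⧸ center G)) : Set _)⁆
      ≤ A.map π := by
    rw [commutator_le]
    intro x hx y hy
    rw [hSbc] at hx hy
    obtain ⟨s, hs, rfl⟩ := mem_map.1 hx
    obtain ⟨n, rfl⟩ := QuotientGroup.mk'_surjective (center G) y
    have hn : ∀ r ∈ (S : Subgroup G), n * r * n⁻¹ ∈ (S : Subgroup G) := fun r hr => h.normalises hy hr
    have hAn : A.map (MulAut.conj n).toMonoidHom ≤ A := by
      have hle : A.map (MulAut.conj n).toMonoidHom ≤ (S : Subgroup G) := by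
        rintro _ ⟨r, hr, rfl⟩
        exact hn r ((memA r).1 hr).1
      have hmap : (S : Subgroup G).map (MulAut.conj n).toMonoidHom = S := by
        refine Subgroup.eq_of_le_of_card_ge ?_ ?_
        · rintro _ ⟨r, hr, rfl⟩
          exact hn r hr
        · rw [Nat.card_congr ((S : Subgroup G).equivMapOfInjective (MulAut.conj n).toMonoidHom
            (MulAut.conj n).injective).toEquiv]
      refine h.abelian_index_two_unique h4 inf_le_left hle hi ?_ hAc ?_
      · conv_lhs => rw [← hmap]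
        rw [Subgroup.relIndex_map_map_of_injective _ _ (MulAut.conj n).injective, hi]
      · rintro _ ⟨r, hr, rfl⟩ _ ⟨r', hr', rfl⟩
        rw [← map_mul, hAc r hr r' hr', map_mul]
    rw [← map_commutatorElement]
    refine mem_map_of_mem π ?_
    have hc : ⁅s, n⁆ = s * (n * s⁻¹ * n⁻¹) := by group
    rw [hc, mul_mem_iff hi hs (hn _ (inv_mem hs))]
    refine ⟨fun h1 => hAn (mem_map_of_mem (MulAut.conj n).toMonoidHom (inv_mem h1)), fun h1 => ?_⟩
    by_contra h2
    have h3 : n * s⁻¹ * n⁻¹ ∈ A.map (MulAut.conj n).toMonoidHom := by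
      rwa [Subgroup.eq_of_le_of_card_ge hAn (by
        rw [Nat.card_congr (A.equivMapOfInjective (MulAut.conj n).toMonoidHom
          (MulAut.conj n).injective).toEquiv])]
    obtain ⟨r, hr, hre⟩ := mem_map.1 h3
    have : r = s⁻¹ := (MulAut.conj n).injective hre
    exact h2 (by simpa [this] using inv_mem hr)
  obtain ⟨a, ha, hau⟩ := mem_map.1 (hle (hfoc ▸ (hSbc ▸ mem_map_of_mem π hu :
    π u ∈ (Sb : Subgroup (G ⧸ center G)))))
  rw [← mul_inv_eq_one, ← map_inv, ← map_mul, hπ, mk'_eq_one] at hau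
  have hc := center_comm hau t
  refine hut ?_
  have : u = (a * u⁻¹)⁻¹ * a := by group
  rw [this, mul_assoc, ((memA a).1 ha).2, ← mul_assoc, ← center_comm (inv_mem hau) t, mul_assoc]

theorem Setup.central_of_sq {t k : G}
    (h4 : 4 < Nat.card ((S : Subgroup G).map (QuotientGroup.mk' (center G))))
    (ht : t ∈ (S : Subgroup G)) (htZ : t ∉ center G) (hk : k * t = t * k) :
    ∀ g ∈ Emod t, g * (k * k) = k * k * g := by
  obtain ⟨u, hu, v, hv, hut, hvt, hwt⟩ := h.exists_two_outside hsq h4 ht htZ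
  have hSE := h.le_Emod_of_squares hsq ht
  have hC : ∀ g ∈ (S : Subgroup G), ∀ c : G, c * t = t * c → (g * c * g⁻¹) * t = t * (g * c * g⁻¹) := by
    intro g hg c hc
    have hd := mem_Emod.1 (hSE (inv_mem hg))
    rw [inv_inv] at hd
    have e1 : g⁻¹ * t * g = (g⁻¹ * t * g * t⁻¹) * t := by group
    have : g * c * g⁻¹ * t = g * (c * (g⁻¹ * t * g)) * g⁻¹ := by group
    rw [this, e1, ← mul_assoc c, center_comm hd c, mul_assoc _ c, hc]
    group
  have hswap : ∀ g ∈ (S : Subgroup G), ∀ c : G, g * (g * c * g⁻¹) * g⁻¹ = c := by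
    intro g hg c
    have : g * (g * c * g⁻¹) * g⁻¹ = (g * g) * c * (g * g)⁻¹ := by group
    rw [this, ← center_comm (hsq g hg) c, mul_inv_cancel_right]
  have hfix : ∀ g ∈ (S : Subgroup G), g * t ≠ t * g → ∀ c : G, c * t = t * c →
      ∀ e ∈ Emod t, e * (c * (g * c * g⁻¹)) = c * (g * c * g⁻¹) * e := by
    intro g hg hgt c hc
    have hgc := hC g hg c hc
    refine h.central_Emod htZ (hSE hg) hgt ((Commute.mul_left hc hgc).eq) ?_
    rw [← mul_inv_eq_iff_eq_mul]
    have : g * (c * (g * c * g⁻¹)) * g⁻¹ = (g * c * g⁻¹) * (g * (g * c * g⁻¹) * g⁻¹) := by group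
    rw [this, hswap g hg c, h.comm ht htZ hgc hc]
  have hw : u * v ∈ (S : Subgroup G) := mul_mem hu hv
  have hku := hC u hu k hk
  have hkv := hC v hv k hk
  have hkw := hC _ hw k hk
  have h1 := hfix u hu hut k hk
  have h2 := hfix v hv hvt k hk
  have h3 := hfix _ hw hwt k hk
  have h4' : ∀ e ∈ Emod t, e * (k * (u * k * u⁻¹) * (v * k * v⁻¹) * (u * v * k * (u * v)⁻¹)) =
      k * (u * k * u⁻¹) * (v * k * v⁻¹) * (u * v * k * (u * v)⁻¹) * e := by
    have hm : ∀ {x y : G}, x * t = t * x → y * t = t * y → (x * y) * t = t * (x * y) :=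
      fun hx hy => (Commute.mul_left hx hy).eq
    refine h.central_Emod htZ (hSE hu) hut (hm (hm (hm hk hku) hkv) hkw) ?_
    rw [← mul_inv_eq_iff_eq_mul]
    have e1 : u * (k * (u * k * u⁻¹) * (v * k * v⁻¹) * (u * v * k * (u * v)⁻¹)) * u⁻¹ =
        (u * k * u⁻¹) * (u * (u * k * u⁻¹) * u⁻¹) * (u * v * k * (u * v)⁻¹) *
          (u * (u * (v * k * v⁻¹) * u⁻¹) * u⁻¹) := by group
    rw [e1, hswap u hu k, hswap u hu (v * k * v⁻¹), h.comm ht htZ hku hk, mul_assoc (k * (u * k * u⁻¹)),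
      h.comm ht htZ hkw hkv, ← mul_assoc]
  have hCab : IsMulCommutative (centralizer ({t} : Set G)) :=
    ⟨⟨fun a b => Subtype.ext (h.comm ht htZ (mem_centralizer_singleton_iff.1 a.2)
      (mem_centralizer_singleton_iff.1 b.2))⟩⟩
  let mkC : ∀ x : G, x * t = t * x → centralizer ({t} : Set G) :=
    fun x hx => ⟨x, mem_centralizer_singleton_iff.2 hx⟩
  let : CommGroup (centralizer ({t} : Set G)) := { mul_comm := fun a b => hCab.is_comm.comm a b }
  have hid := congrArg Subtype.val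
    (four_identity (mkC k hk) (mkC _ hku) (mkC _ hkv) (mkC _ hkw))
  simp only [mkC, MulMemClass.mk_mul_mk, Subgroup.coe_mul, Subgroup.coe_inv] at hid
  intro e he
  rw [← hid]
  exact (Commute.mul_right (Commute.mul_right (Commute.mul_right (h1 e he) (h2 e he)) (h3 e he))
    (Commute.inv_right (h4' e he))).eq

/-- In the squares case with `|S/Z| ≥ 8` every `Emod t` is abelian modulo the centre. -/
theorem Setup.Emod_comm {t : G}
    (h4 : 4 < Nat.card ((S : Subgroup G).map (QuotientGroup.mk' (center G))))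
    (ht : t ∈ (S : Subgroup G)) (htZ : t ∉ center G) {g g' : G} (hg : g ∈ Emod t) (hg' : g' ∈ Emod t) :
    g * g' * g⁻¹ * g'⁻¹ ∈ center G := by
  have hSE := h.le_Emod_of_squares hsq ht
  have split : ∀ g ∈ Emod t, ∃ s ∈ (S : Subgroup G), ∃ j ∈ Emod t, (∀ e ∈ Emod t, e * j = j * e) ∧ g = s * j := by
    intro g hg
    obtain ⟨⟨s, hsE⟩, hs, hphi⟩ := phi_hit S hSE (hsq t ht) ⟨g, hg⟩
    have hc : (s⁻¹ * g) * t = t * (s⁻¹ * g) :=
      phi_eq_one.1 (show phi t (⟨s, hsE⟩⁻¹ * ⟨g, hg⟩) = 1 by rw [map_mul, map_inv, hphi, inv_mul_cancel])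
    obtain ⟨a, b, hab, ⟨e, he⟩, ha, hb⟩ := two_part (s⁻¹ * g)
    obtain ⟨i, rfl⟩ := hb
    obtain ⟨i', rfl⟩ := ha
    have hac : ((s⁻¹ * g) ^ i') * t = t * (s⁻¹ * g) ^ i' := (Commute.zpow_left hc i').eq
    obtain ⟨x, hx, hxs⟩ := exists_conj_mem S hSE he (centralizer_le_Emod hac)
    obtain ⟨⟨r, hrE⟩, hr, hrphi⟩ := phi_hit S hSE (hsq t ht) ⟨x, hx⟩
    have hc' : (r⁻¹ * x) * t = t * (r⁻¹ * x) :=
      phi_eq_one.1 (show phi t (⟨r, hrE⟩⁻¹ * ⟨x, hx⟩) = 1 by rw [map_mul, map_inv, hrphi, inv_mul_cancel])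
    have haS : (s⁻¹ * g) ^ i' ∈ (S : Subgroup G) := by
      have e1 := h.comm ht htZ hc' hac
      have : (s⁻¹ * g) ^ i' = r⁻¹ * (x * (s⁻¹ * g) ^ i' * x⁻¹) * r := by
        calc (s⁻¹ * g) ^ i' = (r⁻¹ * x) * (s⁻¹ * g) ^ i' * (r⁻¹ * x)⁻¹ := by
              rw [e1, mul_inv_cancel_right]
          _ = _ := by group
      rw [this]
      exact mul_mem (mul_mem (inv_mem hr) hxs) hr
    have hk2 := h.central_of_sq hsq h4 ht htZ hc
    refine ⟨s * (s⁻¹ * g) ^ i', mul_mem hs haS, (s⁻¹ * g * (s⁻¹ * g)) ^ i, ?_, ?_, ?_⟩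
    · exact zpow_mem (centralizer_le_Emod (Commute.mul_left hc hc).eq) i
    · exact fun e he => (Commute.zpow_right (hk2 e he) i).eq
    · rw [mul_assoc, ← hab, mul_inv_cancel_left]
  obtain ⟨s, hs, j, hjE, hj, rfl⟩ := split g hg
  obtain ⟨s', hs', j', hjE', hj', rfl⟩ := split g' hg'
  have e1 : s * j * (s' * j') = s * s' * (j * j') := by
    rw [mul_assoc, ← mul_assoc j, ← hj s' (hSE hs'), mul_assoc, ← mul_assoc]
  have e2 : s' * j' * (s * j) = s' * s * (j * j') := by
    rw [mul_assoc, ← mul_assoc j', ← hj' s (hSE hs), mul_assoc, ← mul_assoc, hj' j hjE]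
  rw [show s * j * (s' * j') * (s * j)⁻¹ * (s' * j')⁻¹ = s * j * (s' * j') * (s' * j' * (s * j))⁻¹ by
    group, e1, e2, show s * s' * (j * j') * (s' * s * (j * j'))⁻¹ = s * s' * s⁻¹ * s'⁻¹ by group]
  exact mem_Emod.1 (h.le_Emod_of_squares hsq hs' hs)

/-- In the squares case with `|S/Z| ≥ 8` the quotient is `PSL₂(2^f)`. -/
theorem Setup.psl_of_squares
    (h4 : 4 < Nat.card ((S : Subgroup G).map (QuotientGroup.mk' (center G)))) :
    PSLQuot G (fun q => 4 ≤ q) := by
  have := h.qs.simple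
  have : Fact (Nat.Prime 2) := ⟨Nat.prime_two⟩
  set π := QuotientGroup.mk' (center G) with hπ
  have hsurj : Function.Surjective π := QuotientGroup.mk'_surjective (center G)
  set Sb : Sylow 2 (G ⧸ center G) := S.mapSurjective hsurj with hSb
  have hSbc : (Sb : Subgroup (G ⧸ center G)) = (S : Subgroup G).map π := Sylow.coe_mapSurjective _ _
  have hcard : 4 < Nat.card Sb := by
    rw [show Nat.card Sb = Nat.card ((S : Subgroup G).map π) by rw [← hSbc]]
    exact h4
  have hsqb : ∀ y ∈ (Sb : Subgroup (G ⧸ center G)), y * y = 1 := by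
    intro y hy
    rw [hSbc] at hy
    obtain ⟨a, ha, rfl⟩ := mem_map.1 hy
    rw [← map_mul, hπ, mk'_eq_one]
    exact hsq a ha
  have heven : Even (Nat.card (G ⧸ center G)) := by
    obtain ⟨k, hk⟩ := IsPGroup.iff_card.1 Sb.isPGroup'
    refine even_iff_two_dvd.2 (dvd_trans ?_ (Subgroup.card_subgroup_dvd_card (Sb : Subgroup (G ⧸ center G))))
    rw [hk]
    refine dvd_pow_self 2 fun h0 => ?_
    rw [hk, h0] at hcard
    omega
  have hinv : ∀ y : G ⧸ center G, orderOf y = 2 → IsMulCommutative (centralizer ({y} : Set (G ⧸ center G))) := by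
    intro y hy
    obtain ⟨x, rfl⟩ := hsurj y
    obtain ⟨a, b, hab, ⟨e, he⟩, -, hb⟩ := two_part x
    have hxx : x * x ∈ center G := by
      rw [← mk'_eq_one, map_mul, ← hπ, ← pow_two, ← hy, pow_orderOf_eq_one]
    have hbZ : b ∈ center G := (zpowers_le.2 hxx) hb
    have hxa : π x = π a := by rw [hab, map_mul, hπ, mk'_eq_one.2 hbZ, mul_one]
    obtain ⟨g, -, hg⟩ := exists_conj_mem S le_top he (mem_top a)
    have haZ : g * a * g⁻¹ ∉ center G := fun h0 => by
      have h1 := (inferInstance : (center G).Normal).conj_mem _ h0 g⁻¹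
      rw [show g⁻¹ * (g * a * g⁻¹) * g⁻¹⁻¹ = a by group, ← mk'_eq_one, ← hπ, ← hxa] at h1
      rw [h1, orderOf_one] at hy
      norm_num at hy
    refine ⟨⟨fun c d => Subtype.ext ?_⟩⟩
    obtain ⟨c', hc'⟩ := hsurj c
    obtain ⟨d', hd'⟩ := hsurj d
    have key : ∀ z : G, π z ∈ centralizer ({π x} : Set (G ⧸ center G)) → g * z * g⁻¹ ∈ Emod (g * a * g⁻¹) := by
      intro z hz
      show g * z * g⁻¹ ∈ (centralizer ({π (g * a * g⁻¹)} : Set (G ⧸ center G))).comap π
      rw [mem_comap, mem_centralizer_singleton_iff]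
      rw [mem_centralizer_singleton_iff, hxa] at hz
      rw [← map_mul, ← map_mul, show g * z * g⁻¹ * (g * a * g⁻¹) = g * (z * a) * g⁻¹ by group,
        show g * a * g⁻¹ * (g * z * g⁻¹) = g * (a * z) * g⁻¹ by group]
      simp only [map_mul, hz]
    have h1 := h.Emod_comm hsq h4 hg haZ (key c' (hc' ▸ c.2)) (key d' (hd' ▸ d.2))
    rw [show g * c' * g⁻¹ * (g * d' * g⁻¹) * (g * c' * g⁻¹)⁻¹ * (g * d' * g⁻¹)⁻¹ =
      g * (c' * d' * (d' * c')⁻¹) * g⁻¹ by group] at h1
    have h2 := (inferInstance : (center G).Normal).conj_mem _ h1 g⁻¹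
    rw [show g⁻¹ * (g * (c' * d' * (d' * c')⁻¹) * g⁻¹) * g⁻¹⁻¹ = c' * d' * (d' * c')⁻¹ by group,
      ← mk'_eq_one, ← hπ, map_mul, map_inv, mul_inv_eq_one, map_mul, map_mul] at h2
    show (c : G ⧸ center G) * d = d * c
    rw [← hc', ← hd', h2]
  rcases Cfsg.Agent.S2202.result heven hinv with hc | hn | ⟨F, _, _, A, _, _, hchar, -, ⟨e⟩⟩
  · exfalso
    have := hc Sb
    obtain ⟨y, hy⟩ := IsCyclic.exists_ofOrder_eq_natCard (α := Sb)
    have : orderOf y ≤ 2 := orderOf_le_of_pow_eq_one (by norm_num) (Subtype.ext (by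
      rw [pow_two]; exact hsqb y y.2))
    omega
  · exfalso
    rcases (hn Sb).eq_bot_or_eq_top with e | e
    · rw [e, Subgroup.card_bot] at hcard
      omega
    · refine h.not_comm_group fun a b => ?_
      have ha := hsqb a (e ▸ mem_top a)
      have hb := hsqb b (e ▸ mem_top b)
      have hab := hsqb (a * b) (e ▸ mem_top (a * b))
      calc a * b = (a * b)⁻¹ := eq_inv_of_mul_eq_one_left hab
        _ = b * a := by rw [mul_inv_rev, inv_eq_of_mul_eq_one_left ha, inv_eq_of_mul_eq_one_left hb]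
  · have hq2 : Fintype.card F ≠ 1 := Fintype.one_lt_card.ne'
    set f : G ⧸ center G →* Matrix.SpecialLinearGroup (Fin 2) F :=
      (MonoidHom.fst _ _).comp e.toMonoidHom with hf
    have hfs : Function.Surjective f := fun y => ⟨e.symm (y, 1), by simp [hf]⟩
    have hfi : Function.Injective f := by
      refine (MonoidHom.ker_eq_bot_iff f).1 ((MonoidHom.normal_ker f).eq_bot_or_eq_top.resolve_right fun ht => ?_)
      have hnat := Classical.LowRank.natCard_SL_two F
      have : Nat.card (Matrix.SpecialLinearGroup (Fin 2) F) = 1 := by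
        refine Nat.card_eq_one_iff_unique.2 ⟨⟨fun a b => ?_⟩, ⟨1⟩⟩
        obtain ⟨a', rfl⟩ := hfs a
        obtain ⟨b', rfl⟩ := hfs b
        rw [MonoidHom.mem_ker.1 (ht ▸ mem_top a' : a' ∈ f.ker), MonoidHom.mem_ker.1 (ht ▸ mem_top b' : b' ∈ f.ker)]
      rw [this] at hnat
      exact hq2 (Nat.eq_one_of_mul_eq_one_right hnat.symm)
    let e₁ : (G ⧸ center G) ≃* Matrix.SpecialLinearGroup (Fin 2) F := MulEquiv.ofBijective f ⟨hfi, hfs⟩
    have hcen : center (Matrix.SpecialLinearGroup (Fin 2) F) = ⊥ := by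
      rw [eq_bot_iff]
      intro z hz
      obtain ⟨y, rfl⟩ := e₁.surjective z
      have hy : y ∈ center (G ⧸ center G) :=
        mem_center_iff.2 fun w => e₁.injective (by rw [map_mul, map_mul]; exact mem_center_iff.1 hz _)
      rw [h.center_quot, mem_bot] at hy
      rw [hy, map_one]
      exact one_mem _
    refine ⟨F, inferInstance, inferInstance, ?_, ⟨(e₁.trans QuotientGroup.quotientBot.symm).trans
      (QuotientGroup.quotientMulEquivOfEq hcen.symm)⟩⟩
    show 4 ≤ Fintype.card F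
    by_contra hlt
    haveI := hchar
    obtain ⟨n, -, hn⟩ := FiniteField.card F 2
    have hn2 : Fintype.card F = 2 := by
      have h1 : (n : ℕ) < 2 := (Nat.pow_lt_pow_iff_right (by norm_num : 1 < 2)).1 (by omega : 2 ^ (n : ℕ) < 2 ^ 2)
      have h2 := n.pos
      rw [hn, show (n : ℕ) = 1 by omega, pow_one]
    have h6 : Nat.card (G ⧸ center G) = 6 := by
      rw [Nat.card_congr e₁.toEquiv, Classical.LowRank.natCard_SL_two F, hn2]
      norm_num
    have h8 := (Subgroup.card_subgroup_dvd_card (Sb : Subgroup (G ⧸ center G)))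
    rw [h6] at h8
    have h9 := Nat.le_of_dvd (by norm_num) h8
    obtain ⟨k, hk⟩ := IsPGroup.iff_card.1 Sb.isPGroup'
    rw [hk] at h8 h9 hcard
    have hk3 : k < 3 := (Nat.pow_lt_pow_iff_right (by norm_num : 1 < 2)).1
      (show 2 ^ k < 2 ^ 3 by omega)
    interval_cases k <;> omega

omit hsq

/-- Outside the abelian subgroup of index two every square is central. -/
theorem Setup.sq_outside {A : Subgroup G} (hA : A ≤ (S : Subgroup G))
    (hi : A.relIndex (S : Subgroup G) = 2) (hc : ∀ x ∈ A, ∀ y ∈ A, x * y = y * x)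
    {s : G} (hs : s ∈ (S : Subgroup G)) (hsA : s ∉ A) : s * s ∈ center G := by
  by_contra hne
  have hssA : s * s ∈ A := (mul_mem_iff hi hs hs).2 Iff.rfl
  have hcomm : ∀ x ∈ A, x * s = s * x := fun x hx =>
    h.comm (hA hssA) hne (hc x hx _ hssA) (mul_assoc s s s).symm
  refine h.nonab ⟨⟨fun a b => Subtype.ext ?_⟩⟩
  have key : ∀ y ∈ (S : Subgroup G), ∃ x ∈ A, y = x ∨ y = x * s := fun y hy => by
    by_cases hyA : y ∈ A
    · exact ⟨y, hyA, Or.inl rfl⟩
    · refine ⟨y * s⁻¹, (mul_mem_iff hi hy (inv_mem hs)).2 (iff_of_false hyA fun h0 => hsA ?_), Or.inr (by group)⟩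
      simpa using inv_mem h0
  show (a : G) * b = b * a
  obtain ⟨x, hx, ha⟩ := key a a.2
  obtain ⟨y, hy, hb⟩ := key b b.2
  have hxy : Commute x y := hc x hx y hy
  have hxs : Commute x s := hcomm x hx
  have hys : Commute y s := hcomm y hy
  rcases ha with ha | ha <;> rcases hb with hb | hb <;> rw [ha, hb]
  · exact hxy.eq
  · exact (hxy.mul_right hxs).eq
  · exact ((hxy.mul_left hys.symm)).eq
  · exact ((hxy.mul_right hxs).mul_left (hys.symm.mul_right (Commute.refl s))).eq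

/-- The index-two case with non-cyclic `A/Z` is impossible. -/
theorem Setup.cyclic_modulo_center {A : Subgroup G} (hA : A ≤ (S : Subgroup G))
    (hi : A.relIndex (S : Subgroup G) = 2) (hc : ∀ x ∈ A, ∀ y ∈ A, x * y = y * x)
    (hZA : (S : Subgroup G) ⊓ center G ≤ A)
    (hinv : ∀ s ∈ (S : Subgroup G), s ∉ A → ∀ x ∈ A, s * x * s⁻¹ * x ∈ center G) :
    ∃ r ∈ A, ∀ x ∈ A, ∃ i : ℕ, x⁻¹ * r ^ i ∈ center G := by
  have := h.qs.simple
  have : Fact (Nat.Prime 2) := ⟨Nat.prime_two⟩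
  set π := QuotientGroup.mk' (center G) with hπ
  have hsurj : Function.Surjective π := QuotientGroup.mk'_surjective (center G)
  have hpA : IsPGroup 2 (A.map π) := (S.isPGroup'.to_le hA).map π
  by_cases huniq : ∀ u v : A.map π, orderOf u = 2 → orderOf v = 2 → u ∈ zpowers v
  · have hcyc : IsCyclic (A.map π) := AbelianConj.isCyclic_of_unique hpA huniq (Or.inr ⟨⟨fun a b => Subtype.ext (by
      obtain ⟨x, hx, hxe⟩ := mem_map.1 a.2
      obtain ⟨y, hy, hye⟩ := mem_map.1 b.2
      show (a : G ⧸ center G) * b = b * a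
      rw [← hxe, ← hye, ← map_mul, hc x hx y hy, map_mul])⟩⟩)
    obtain ⟨w, hw⟩ := IsCyclic.exists_generator (α := A.map π)
    obtain ⟨r, hr, hre⟩ := mem_map.1 w.2
    refine ⟨r, hr, fun x hx => ?_⟩
    obtain ⟨i, hi'⟩ : (⟨π x, mem_map_of_mem π hx⟩ : A.map π) ∈ Submonoid.powers w :=
      mem_powers_iff_mem_zpowers.2 (hw _)
    refine ⟨i, mk'_eq_one.1 ?_⟩
    rw [map_mul, map_inv, map_pow, ← hπ, hre, inv_mul_eq_one]
    exact (congrArg Subtype.val hi').symm
  exfalso
  push Not at huniq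
  obtain ⟨u, v, hu, hv, huv⟩ := huniq
  obtain ⟨a, ha, hae⟩ := mem_map.1 u.2
  obtain ⟨b, hb, hbe⟩ := mem_map.1 v.2
  have hsqA : ∀ {x : G} {w : A.map π}, orderOf w = 2 → π x = w → x ∉ center G ∧ x * x ∈ center G := by
    intro x w hw hxw
    constructor
    · intro h0
      have : (w : G ⧸ center G) = 1 := by rw [← hxw]; exact mk'_eq_one.2 h0
      rw [← Subgroup.orderOf_coe, this, orderOf_one] at hw
      norm_num at hw
    · rw [← mk'_eq_one, map_mul, ← hπ, hxw, ← pow_two, ← hw, ← Subgroup.orderOf_coe, pow_orderOf_eq_one]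
  obtain ⟨haZ, haa⟩ := hsqA hu hae
  obtain ⟨hbZ, hbb⟩ := hsqA hv hbe
  have habZ : a⁻¹ * b ∉ center G := fun h0 => huv (by
    have e1 : π a = π b := by
      rw [← inv_mul_eq_one, ← map_inv, ← map_mul, hπ, mk'_eq_one.2 h0]
    rw [show u = v from Subtype.ext (by rw [← hae, ← hbe, e1])]
    exact mem_zpowers v)
  -- an element outside `A`, moved into `A` by Thompson transfer
  obtain ⟨s, hs, hsA⟩ : ∃ s ∈ (S : Subgroup G), s ∉ A := by
    by_contra hne
    push Not at hne
    rw [Subgroup.relIndex_eq_one.2 hne] at hi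
    norm_num at hi
  have hss := h.sq_outside hA hi hc hs hsA
  have hsZ : s ∉ center G := fun h0 => hsA (hZA ⟨hs, h0⟩)
  have hnc : ∀ x ∈ A, x ∉ center G → x * s ≠ s * x := by
    intro x hx hxZ hxs
    refine h.nonab ⟨⟨fun c d => Subtype.ext ?_⟩⟩
    have key : ∀ y ∈ (S : Subgroup G), y * x = x * y := by
      intro y hy
      by_cases hyA : y ∈ A
      · exact hc y hyA x hx
      · have hy' : y * s⁻¹ ∈ A :=
          (mul_mem_iff hi hy (inv_mem hs)).2 (iff_of_false hyA fun h0 => hsA (by simpa using inv_mem h0))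
        have e1 : Commute (y * s⁻¹) x := hc _ hy' x hx
        have e2 := e1.mul_left (show Commute s x from hxs.symm)
        rwa [inv_mul_cancel_right] at e2
    exact h.comm (hA hx) hxZ (key c c.2) (key d d.2)
  set Sb : Sylow 2 (G ⧸ center G) := S.mapSurjective hsurj with hSb
  have hSbc : (Sb : Subgroup (G ⧸ center G)) = (S : Subgroup G).map π := Sylow.coe_mapSurjective _ _
  have hsb2 : orderOf (π s) = 2 := orderOf_eq_prime
    (by rw [pow_two, ← map_mul, hπ, mk'_eq_one]; exact hss) (fun h0 => hsZ (mk'_eq_one.1 h0))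
  have hsnot : π s ∉ A.map π := by
    intro h0
    obtain ⟨x, hx, hxe⟩ := mem_map.1 h0
    rw [← mul_inv_eq_one, ← map_inv, ← map_mul, hπ, mk'_eq_one] at hxe
    have hmem := A.mul_mem (A.inv_mem (hZA ⟨(S : Subgroup G).mul_mem (hA hx) ((S : Subgroup G).inv_mem hs), hxe⟩)) hx
    exact hsA (by simpa using hmem)
  have hiQ : (A.map π).relIndex (Sb : Subgroup (G ⧸ center G)) = 2 := by
    refine Subgroup.index_eq_two_iff.2 ⟨⟨π s, hSbc ▸ mem_map_of_mem π hs⟩, fun c => ?_⟩
    show Xor' ((c : G ⧸ center G) * π s ∈ A.map π) ((c : G ⧸ center G) ∈ A.map π)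
    obtain ⟨y, hy, hye⟩ := mem_map.1 (show (c : G ⧸ center G) ∈ (S : Subgroup G).map π by
      rw [← hSbc]; exact c.2)
    rw [← hye]
    by_cases hyA : y ∈ A
    · refine Or.inr ⟨mem_map_of_mem π hyA, fun h0 => hsnot ?_⟩
      have h1 := (A.map π).mul_mem ((A.map π).inv_mem (mem_map_of_mem π hyA)) h0
      rwa [inv_mul_cancel_left] at h1
    · have hys : y * s ∈ A := (mul_mem_iff hi hy hs).2 (iff_of_false hyA hsA)
      refine Or.inl ⟨by rw [← map_mul]; exact mem_map_of_mem π hys, fun h0 => hsnot ?_⟩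
      have h1 := (A.map π).mul_mem ((A.map π).inv_mem h0) (mem_map_of_mem π hys)
      rwa [map_mul, inv_mul_cancel_left] at h1
  rcases Cfsg.Agent.S0111.result Sb (A.map π) (by rw [hSbc]; exact map_mono hA) hiQ (π s) hsb2
      (hSbc ▸ mem_map_of_mem π hs) hsnot with ⟨M, hM, hMi, -⟩ | ⟨g, hg⟩
  · rcases hM.eq_bot_or_eq_top with e | e
    · rw [e, index_bot] at hMi
      have h4 := Subgroup.card_subgroup_dvd_card (A.map π)
      rw [hMi] at h4
      have h5 := Nat.le_of_dvd (by norm_num) h4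
      refine huv ?_
      have h6 : u = v := by
        have h7 : Nat.card (A.map π) = 2 := le_antisymm h5 (by
          rw [← hu]; exact Nat.le_of_dvd Nat.card_pos (orderOf_dvd_natCard u))
        obtain ⟨x, y, hxy, huni⟩ := Nat.card_eq_two_iff.1 h7
        by_contra hne
        have hmem : ∀ w : A.map π, w ∈ ({x, y} : Set _) := fun w => huni ▸ Set.mem_univ w
        have h1x := hmem 1
        have hux := hmem u
        have hvx := hmem v
        have hu1 : u ≠ 1 := fun h0 => by rw [h0, orderOf_one] at hu; norm_num at hu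
        have hv1 : v ≠ 1 := fun h0 => by rw [h0, orderOf_one] at hv; norm_num at hv
        simp only [Set.mem_insert_iff, Set.mem_singleton_iff] at h1x hux hvx
        rcases h1x with rfl | rfl <;> rcases hux with rfl | rfl <;> rcases hvx with rfl | rfl <;> simp_all
      rw [h6]
      exact mem_zpowers v
    · rw [e, index_top] at hMi
      norm_num at hMi
  obtain ⟨g, rfl⟩ := hsurj g
  rw [← map_inv, ← map_mul, ← map_mul] at hg
  obtain ⟨c, hcA, hce⟩ := mem_map.1 hg
  rw [← mul_inv_eq_one, ← map_inv, ← map_mul, hπ, mk'_eq_one] at hce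
  set z := c * (g * s * g⁻¹)⁻¹ with hz
  have hcg : c = z * (g * s * g⁻¹) := by rw [hz]; group
  have hcc : c * c ∈ center G := by
    have : c * c = z * z * (g * (s * s) * g⁻¹) := by
      rw [hcg, show z * (g * s * g⁻¹) * (z * (g * s * g⁻¹)) = z * ((g * s * g⁻¹) * z) * (g * s * g⁻¹) by group,
        center_comm hce]
      group
    rw [this]
    exact mul_mem (mul_mem hce hce) ((inferInstance : (center G).Normal).conj_mem _ hss g)
  have hSE : (S : Subgroup G) ≤ Emod c := by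
    intro y hy
    rw [mem_Emod]
    by_cases hyA : y ∈ A
    · rw [hc y hyA c hcA, mul_inv_cancel_right, mul_inv_cancel]
      exact one_mem _
    · have e1 : y * c * y⁻¹ * c⁻¹ = y * c * y⁻¹ * c * (c * c)⁻¹ := by group
      rw [e1]
      exact mul_mem (hinv y hy hyA c hcA) (inv_mem hcc)
  -- the elements of `Emod c` moving `c` all move it in the same way
  have h2val : ∀ e e' : Emod c, (e : G) * c ≠ c * e → (e' : G) * c ≠ c * e' → phi c e = phi c e' := by
    intro e e' he he'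
    obtain ⟨⟨y, hyE⟩, hy, hye⟩ := phi_hit S hSE hcc e
    obtain ⟨⟨y', hyE'⟩, hy', hye'⟩ := phi_hit S hSE hcc e'
    have hyA : y ∉ A := fun h0 => he (phi_eq_one.1 (hye ▸ phi_eq_one.2 (hc y h0 c hcA)))
    have hyA' : y' ∉ A := fun h0 => he' (phi_eq_one.1 (hye' ▸ phi_eq_one.2 (hc y' h0 c hcA)))
    have hm : y⁻¹ * y' ∈ A :=
      (mul_mem_iff hi (inv_mem hy) hy').2 (iff_of_false (fun h0 => hyA (by simpa using inv_mem h0)) hyA')
    have h1 : phi c ((⟨y, hyE⟩ : Emod c)⁻¹ * ⟨y', hyE'⟩) = 1 := phi_eq_one.2 (hc _ hm c hcA)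
    rw [map_mul, map_inv, inv_mul_eq_one] at h1
    rw [← hye, ← hye', h1]
  have hconj : ∀ x ∈ A, x * x ∈ center G →
      g * x * g⁻¹ ∈ Emod c ∧ (x ∉ center G → (g * x * g⁻¹) * c ≠ c * (g * x * g⁻¹)) := by
    intro x hx hxx
    have e2 : x * s * x⁻¹ * s⁻¹ ∈ center G := by
      have h1 := hinv s hs hsA x⁻¹ (inv_mem hx)
      rw [show x * s * x⁻¹ * s⁻¹ = (x * x) * (x⁻¹ * (s * x⁻¹ * s⁻¹ * x⁻¹) * x) by group]
      refine mul_mem hxx ?_
      have h2 := (inferInstance : (center G).Normal).conj_mem _ h1 x⁻¹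
      rwa [inv_inv] at h2
    have e3 : g * x * g⁻¹ * c * (g * x * g⁻¹)⁻¹ * c⁻¹ = g * (x * s * x⁻¹ * s⁻¹) * g⁻¹ := by
      rw [hcg, comm_central hce]
      group
    refine ⟨mem_Emod.2 ?_, fun hxZ h0 => hnc x hx hxZ ?_⟩
    · rw [e3]
      exact (inferInstance : (center G).Normal).conj_mem _ e2 g
    · rw [h0, mul_inv_cancel_right, mul_inv_cancel, eq_comm, mul_inv_eq_one, mul_eq_left] at e3
      rwa [← mul_inv_eq_one, mul_inv_rev, ← mul_assoc]
  have hne := (hconj (a⁻¹ * b) (mul_mem (inv_mem ha) hb) (by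
    rw [show a⁻¹ * b * (a⁻¹ * b) = a⁻¹ * ((b * a⁻¹) * b) by group, hc b hb a⁻¹ (inv_mem ha),
      show a⁻¹ * (a⁻¹ * b * b) = (a * a)⁻¹ * (b * b) by group]
    exact mul_mem (inv_mem haa) hbb)).2 habZ
  obtain ⟨haE, han⟩ := hconj a ha haa
  obtain ⟨hbE, hbn⟩ := hconj b hb hbb
  have h1 := h2val ⟨_, haE⟩ ⟨_, hbE⟩ (han haZ) (hbn hbZ)
  have h3 : phi c ((⟨_, haE⟩ : Emod c)⁻¹ * ⟨_, hbE⟩) = 1 := by rw [map_mul, map_inv, h1, inv_mul_cancel]
  refine hne ?_
  have h4 := phi_eq_one.1 h3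
  rwa [show g * (a⁻¹ * b) * g⁻¹ = (g * a * g⁻¹)⁻¹ * (g * b * g⁻¹) by group]

end EvenAux

/-- The even branch. -/
theorem even (hT2 : TwoShapeBrick.{u}) (hTr : TransferBrick.{u}) (hCS : CenterSylowBrick.{u})
    (hTG : TwoGoodBrick.{u}) (hED : EvenDihedralBrick.{u}) : EvenBrick.{u} := by
  intro G _ _ hQ heven
  have : Fact (Nat.Prime 2) := ⟨Nat.prime_two⟩
  have hgood := hTG G hQ heven
  obtain ⟨S⟩ : Nonempty (Sylow 2 G) := inferInstance
  obtain ⟨z, hz⟩ := exists_prime_orderOf_dvd_card' (G := center G) 2 (even_iff_two_dvd.1 heven)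
  have hzS : (z : G) ∈ (S : Subgroup G) :=
    EvenAux.mem_sylow_of_center (e := 1) z.2 (by rw [Subgroup.orderOf_coe, hz, pow_one]) S
  have hnab : ¬ IsMulCommutative (S : Subgroup G) := by
    intro hab
    have h1 := hTr G hQ.perfect 2 S hab z hzS fun g _ => EvenAux.center_comm z.2 g
    rw [← Subgroup.orderOf_coe, h1, orderOf_one] at hz
    norm_num at hz
  have h : EvenAux.Setup G S := ⟨hQ, hgood, hCS G hQ S hnab, hnab⟩
  set π := QuotientGroup.mk' (center G) with hπ
  have hSne : (S : Subgroup G) ≠ ⊤ := fun e => by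
    refine hQ.not_solvable ?_
    have h1 : IsPGroup 2 G := IsPGroup.of_equiv S.isPGroup' (e ▸ Subgroup.topEquiv)
    have := h1.isNilpotent
    infer_instance
  have hcS : ∀ x : (S : Subgroup G), x ∈ center (S : Subgroup G) → (x : G) ∈ center G := fun x hx =>
    h.central x x.2 fun s hs => congrArg Subtype.val (mem_center_iff.1 hx ⟨s, hs⟩)
  by_cases hsq : ∀ s ∈ (S : Subgroup G), s * s ∈ center G
  · by_cases h4 : 4 < Nat.card ((S : Subgroup G).map π)
    · exact h.psl_of_squares hsq h4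
    have hgt : 2 < Nat.card ((S : Subgroup G).map π) := h.card_map_gt_two
    obtain ⟨k, hk⟩ := IsPGroup.iff_card.1 (S.isPGroup'.map π)
    have hcard : Nat.card ((S : Subgroup G).map π) = 4 := by
      rw [hk] at h4 hgt ⊢
      have hk3 : k < 3 := (Nat.pow_lt_pow_iff_right (by norm_num : 1 < 2)).1
        (show 2 ^ k < 2 ^ 3 by omega)
      interval_cases k <;> omega
    obtain ⟨t, ht, htZ⟩ : ∃ t ∈ (S : Subgroup G), t ∉ center G := by
      by_contra hne
      push Not at hne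
      exact hnab ⟨⟨fun a b => Subtype.ext (EvenAux.center_comm (hne b b.2) a)⟩⟩
    set A := (S : Subgroup G) ⊓ (zpowers (π t)).comap π with hA
    have htpow : ∀ x ∈ A, ∃ i : ℕ, x⁻¹ * t ^ i ∈ center G := by
      intro x hx
      obtain ⟨i, hi⟩ : π x ∈ Submonoid.powers (π t) := mem_powers_iff_mem_zpowers.2 hx.2
      refine ⟨i, EvenAux.mk'_eq_one.1 ?_⟩
      rw [map_mul, map_inv, map_pow, ← hπ, inv_mul_eq_one]
      exact hi.symm
    have hord : orderOf (π t) = 2 := orderOf_eq_prime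
      (by rw [pow_two, ← map_mul, hπ, EvenAux.mk'_eq_one]; exact hsq t ht)
      (fun h0 => htZ (EvenAux.mk'_eq_one.1 h0))
    refine hED G hQ heven hgood S A inf_le_left ?_ ?_ ?_ ⟨t, ⟨ht, mem_zpowers _⟩, htpow⟩ ?_
      (fun s hs _ => hsq s hs)
    · rw [hA, Subgroup.inf_relIndex_left, ← Subgroup.map_comap_eq_self_of_surjective
        (QuotientGroup.mk'_surjective (center G)) (zpowers (π t)), ← hπ]
      have hle : zpowers (π t) ≤ (S : Subgroup G).map π := zpowers_le.2 (mem_map_of_mem π ht)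
      have h1 := Subgroup.relIndex_mul_relIndex (⊥ : Subgroup (G ⧸ center G)) (zpowers (π t))
        ((S : Subgroup G).map π) bot_le hle
      rw [Subgroup.relIndex_bot_left, Subgroup.relIndex_bot_left, Nat.card_zpowers, hord, hcard] at h1
      rw [Subgroup.relIndex_comap, Subgroup.map_comap_eq_self_of_surjective
        (QuotientGroup.mk'_surjective (center G))]
      omega
    · rintro x ⟨hx, hxZ⟩
      refine ⟨hx, ?_⟩
      show π x ∈ zpowers (π t)
      rw [hπ, EvenAux.mk'_eq_one.2 hxZ]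
      exact one_mem _
    · intro x hx y hy
      obtain ⟨i, hi⟩ := htpow x hx
      obtain ⟨j, hj⟩ := htpow y hy
      have hxt : Commute x t := by
        have : x = t ^ i * (x⁻¹ * t ^ i)⁻¹ := by group
        rw [this]
        exact ((Commute.refl t).pow_left i).mul_left (EvenAux.center_comm (inv_mem hi) t).symm
      have : y = t ^ j * (y⁻¹ * t ^ j)⁻¹ := by group
      rw [this]
      exact ((hxt.pow_right j).mul_right (EvenAux.center_comm (inv_mem hj) x)).eq
    · intro s hs _ x hx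
      rw [show s * x * s⁻¹ * x = (s * x * s⁻¹ * x⁻¹) * (x * x) by group]
      exact mul_mem (EvenAux.mem_Emod.1 (h.le_Emod_of_squares hsq hx.1 hs)) (hsq x hx.1)
  · rcases hT2 (S : Subgroup G) S.isPGroup' (hQ.sub_ca _ hSne) hnab with hsquares | ⟨A₀, hi, hZA, hc, hinv⟩
    · exact absurd (fun s hs => hcS ⟨s * s, mul_mem hs hs⟩ (hsquares ⟨s, hs⟩)) hsq
    set A := A₀.map (S : Subgroup G).subtype with hA
    have hAS : A ≤ (S : Subgroup G) := map_subtype_le A₀
    have hAi : A.relIndex (S : Subgroup G) = 2 := by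
      rw [hA, Subgroup.relIndex, Subgroup.subgroupOf, Subgroup.comap_map_eq_self_of_injective (subtype_injective _), hi]
    have hmem : ∀ x : (S : Subgroup G), (x : G) ∈ A ↔ x ∈ A₀ := fun x => mem_map_iff_mem (subtype_injective _)
    have hAc : ∀ x ∈ A, ∀ y ∈ A, x * y = y * x := fun x hx y hy =>
      congrArg Subtype.val (hc ⟨x, hAS hx⟩ ((hmem ⟨x, hAS hx⟩).1 hx) ⟨y, hAS hy⟩ ((hmem ⟨y, hAS hy⟩).1 hy))
    have hAZ : (S : Subgroup G) ⊓ center G ≤ A := fun x hx => (hmem ⟨x, hx.1⟩).2 (hZA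
      (mem_center_iff.2 fun y => Subtype.ext (EvenAux.center_comm hx.2 y)))
    have hAinv : ∀ s ∈ (S : Subgroup G), s ∉ A → ∀ x ∈ A, s * x * s⁻¹ * x ∈ center G := fun s hs hsA x hx =>
      hcS _ (hinv ⟨s, hs⟩ (fun h0 => hsA ((hmem ⟨s, hs⟩).2 h0)) ⟨x, hAS hx⟩ ((hmem ⟨x, hAS hx⟩).1 hx))
    exact hED G hQ heven hgood S A hAS hAi hAZ hAc (h.cyclic_modulo_center hAS hAi hAc hAZ hAinv) hAinv
      (fun s hs hsA => h.sq_outside hAS hAi hAc hs hsA)

end Cfsg.Agent.Lib.MinNonCA34
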