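import Mathlib
import Cfsg.Agent.Lib.MinNonCA34.Spec
import Cfsg.Agent.Lib.AlperinTame.Basic
import Cfsg.Agent.Lib.ZStar.Final
import Cfsg.Agent.Lib.Involution.Isolated

/-!
# Minimal non-CA groups: Sylow 2-subgroups

The centre of a nonabelian Sylow 2-subgroup is central (weak closure by Alperin's theorem, then Z*),
and when the centre has even order every noncentral 2-element has abelian centraliser.
-/

set_option autoImplicit false

namespace Cfsg.Agent.Lib.MinNonCA34

open Subgroup
open scoped commutatorElement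

universe u

namespace SylowTwoAux

variable {G : Type u} [Group G] [Finite G]

/-- A proper normal subgroup of a quasisimple group is central. -/
theorem le_center_of_normal (h : QS G) (N : Subgroup G) [N.Normal] (hN : N ≠ ⊤) :
    N ≤ center G := by
  haveI := h.simple
  have hsurj : Function.Surjective (QuotientGroup.mk' (center G)) := QuotientGroup.mk'_surjective _
  haveI : (N.map (QuotientGroup.mk' (center G))).Normal := Subgroup.Normal.map inferInstance _ hsurj
  rcases Subgroup.Normal.eq_bot_or_eq_top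
    (inferInstance : (N.map (QuotientGroup.mk' (center G))).Normal) with e | e
  · intro x hx
    have hx' : QuotientGroup.mk' (center G) x ∈ N.map (QuotientGroup.mk' (center G)) :=
      mem_map_of_mem _ hx
    rw [e, mem_bot] at hx'
    exact (QuotientGroup.eq_one_iff x).1 hx'
  · exfalso
    have hgen : N ⊔ center G = ⊤ := by
      have hc := congrArg (Subgroup.comap (QuotientGroup.mk' (center G))) e
      rwa [comap_map_eq, QuotientGroup.ker_mk', comap_top] at hc
    refine hN (eq_top_iff.2 ?_)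
    rw [← h.perfect, commutator_def, Subgroup.commutator_le]
    intro a _ b _
    have ha : a ∈ N ⊔ center G := hgen ▸ mem_top a
    have hb : b ∈ N ⊔ center G := hgen ▸ mem_top b
    rw [← SetLike.mem_coe, Subgroup.mul_normal] at ha hb
    obtain ⟨a₁, ha₁, a₂, ha₂, rfl⟩ := ha
    obtain ⟨b₁, hb₁, b₂, hb₂, rfl⟩ := hb
    have e₁ : ∀ y, y * a₂ = a₂ * y := mem_center_iff.1 ha₂
    have e₂ : ∀ y, y * b₂ = b₂ * y := mem_center_iff.1 hb₂
    have hval : ⁅a₁ * a₂, b₁ * b₂⁆ = a₁ * b₁ * a₁⁻¹ * b₁⁻¹ := by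
      rw [commutatorElement_def, mul_inv_rev, mul_inv_rev]
      have e₁' : a₂ * (b₁ * b₂) = (b₁ * b₂) * a₂ := (e₁ _).symm
      have e₂' : b₂ * a₁⁻¹ = a₁⁻¹ * b₂ := (e₂ _).symm
      calc a₁ * a₂ * (b₁ * b₂) * (a₂⁻¹ * a₁⁻¹) * (b₂⁻¹ * b₁⁻¹)
          = a₁ * (a₂ * (b₁ * b₂)) * a₂⁻¹ * a₁⁻¹ * (b₂⁻¹ * b₁⁻¹) := by simp only [mul_assoc]
        _ = a₁ * b₁ * (b₂ * a₁⁻¹) * (b₂⁻¹ * b₁⁻¹) := by
            rw [e₁']; simp only [mul_assoc, mul_inv_cancel_left]
        _ = a₁ * b₁ * a₁⁻¹ * b₁⁻¹ := by
            rw [e₂']; simp only [mul_assoc, mul_inv_cancel_left]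
    rw [hval]
    exact mul_mem (Subgroup.Normal.conj_mem inferInstance b₁ hb₁ a₁) (inv_mem hb₁)

/-- No 2-group contains the whole of the group. -/
theorem pgroup_ne_top (h : QS G) {D : Subgroup G} (hD : IsPGroup 2 D) : D ≠ ⊤ := by
  intro e
  subst e
  haveI : Fact (Nat.Prime 2) := ⟨Nat.prime_two⟩
  have hG : IsPGroup 2 G := hD.of_equiv Subgroup.topEquiv
  haveI := hG.isNilpotent
  exact h.toHyp.not_solvable inferInstance

/-- A central 2-element lies in every Sylow 2-subgroup; more generally so does a 2-element that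
differs from an element of the Sylow subgroup by a central one. -/
theorem mem_of_mem_sup (S : Sylow 2 G) {w : G} {k : ℕ} (hw : orderOf w = 2 ^ k)
    (hmem : w ∈ (S : Subgroup G) ⊔ center G) : w ∈ (S : Subgroup G) := by
  haveI : Fact (Nat.Prime 2) := ⟨Nat.prime_two⟩
  have hle : (S : Subgroup G) ⊔ center G ≤ normalizer ((S : Subgroup G) : Set G) :=
    sup_le le_normalizer (center_le_normalizer _)
  have hp : IsPGroup 2 (zpowers w) := IsPGroup.of_card (by rw [Nat.card_zpowers, hw])
  have hU : IsPGroup 2 (zpowers w ⊔ (S : Subgroup G) : Subgroup G) :=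
    hp.to_sup_of_normal_right' S.isPGroup' (zpowers_le.2 (hle hmem))
  have := S.is_maximal' hU le_sup_right
  rw [← this]
  exact mem_sup_left (mem_zpowers w)

/-- Two 2-subgroups of odd index in `H` are conjugate in `H`, so share commutativity. -/
theorem comm_of_odd_index {H U V : Subgroup G} (_hUH : U ≤ H) (hVH : V ≤ H)
    (hU : IsPGroup 2 U) (hV : IsPGroup 2 V) (hUi : ¬ 2 ∣ U.relIndex H) (hVi : ¬ 2 ∣ V.relIndex H)
    (hcomm : ∀ x ∈ U, ∀ y ∈ U, x * y = y * x) : ∀ x ∈ V, ∀ y ∈ V, x * y = y * x := by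
  haveI : Fact (Nat.Prime 2) := ⟨Nat.prime_two⟩
  have hU' : IsPGroup 2 (U.subgroupOf H) := hU.comap_subtype
  have hV' : IsPGroup 2 (V.subgroupOf H) := hV.comap_subtype
  let T : Sylow 2 H := hU'.toSylow hUi
  let T' : Sylow 2 H := hV'.toSylow hVi
  obtain ⟨g, hg⟩ := MulAction.exists_smul_eq H T T'
  have key : ∀ x (hx : x ∈ V), ((g⁻¹ * ⟨x, hVH hx⟩ * g : H) : G) ∈ U := by
    intro x hx
    have hx' : (⟨x, hVH hx⟩ : H) ∈ (g • T : Sylow 2 H).toSubgroup := by
      rw [hg]
      exact mem_subgroupOf.2 hx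
    rw [Sylow.coe_subgroup_smul, mem_pointwise_smul_iff_inv_smul_mem] at hx'
    simp [MulAut.smul_def] at hx'
    exact mem_subgroupOf.1 hx'
  intro x hx y hy
  have e := hcomm _ (key x hx) _ (key y hy)
  simp only [Subgroup.coe_mul, Subgroup.coe_inv] at e
  calc x * y = (g : G) * (((g : G)⁻¹ * x * g) * ((g : G)⁻¹ * y * g)) * (g : G)⁻¹ := by group
    _ = (g : G) * (((g : G)⁻¹ * y * g) * ((g : G)⁻¹ * x * g)) * (g : G)⁻¹ := by rw [e]
    _ = y * x := by group

/-- One step of weak closure: an element normalising a tame intersection centralises `z`. -/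
theorem step_fix (h : QS G) (S : Sylow 2 G) (hS : ¬ IsMulCommutative S) {z : G}
    (hzc : ∀ s ∈ (S : Subgroup G), s * z = z * s) (hz : z ∉ center G)
    (Q : Sylow 2 G) (hQ : AlperinTame.Tame S Q)
    (hzD : z ∈ (S : Subgroup G) ⊓ (Q : Subgroup G)) {x : G}
    (hx : x ∈ normalizer (((S : Subgroup G) ⊓ (Q : Subgroup G) : Subgroup G) : Set G)) :
    x * z = z * x := by
  haveI : Fact (Nat.Prime 2) := ⟨Nat.prime_two⟩
  set D : Subgroup G := (S : Subgroup G) ⊓ (Q : Subgroup G) with hDdef
  set H : Subgroup G := normalizer (D : Set G) with hHdef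
  have hDp : IsPGroup 2 D := S.isPGroup'.to_le inf_le_left
  have hH : H ≠ ⊤ := by
    intro e
    haveI : D.Normal := normalizer_eq_top_iff.1 e
    exact hz (le_center_of_normal h D (pgroup_ne_top h hDp) hzD)
  by_contra hne
  have hzH : z ∈ H := le_normalizer hzD
  have hab : ∀ a ∈ H, ∀ b ∈ H, a * z = z * a → b * z = z * b → a * b = b * a :=
    fun a ha b hb e e' => h.toHyp.comm_of_mem hH hzH hx hne ha hb e e'
  have hScomm : ∀ a ∈ (S : Subgroup G) ⊓ H, ∀ b ∈ (S : Subgroup G) ⊓ H, a * b = b * a :=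
    fun a ha b hb => hab a ha.2 b hb.2 (hzc a ha.1) (hzc b hb.1)
  have hnot : ¬ (S : Subgroup G) ≤ (Q : Subgroup G) := by
    intro hle
    refine hS ⟨⟨fun a b => Subtype.ext ?_⟩⟩
    have hm : ∀ c : S, (c : G) ∈ (S : Subgroup G) ⊓ H := fun c =>
      ⟨c.2, le_normalizer (show (c : G) ∈ D from ⟨c.2, hle c.2⟩)⟩
    exact hScomm _ (hm a) _ (hm b)
  have hQcomm : ∀ a ∈ (Q : Subgroup G) ⊓ H, ∀ b ∈ (Q : Subgroup G) ⊓ H, a * b = b * a :=
    comm_of_odd_index inf_le_right inf_le_right (S.isPGroup'.to_le inf_le_left)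
      (Q.isPGroup'.to_le inf_le_left) hQ.1 hQ.2 hScomm
  have hQz : ∀ a ∈ (Q : Subgroup G) ⊓ H, a * z = z * a := fun a ha =>
    hQcomm a ha z ⟨hzD.2, hzH⟩
  -- both Sylow subgroups of `H` lie in the abelian centraliser of `z`, so coincide
  have hle : (Q : Subgroup G) ⊓ H ≤ normalizer (((S : Subgroup G) ⊓ H : Subgroup G) : Set G) := by
    intro a ha
    refine mem_normalizer_iff.2 fun y => ⟨fun hy => ?_, fun hy => ?_⟩
    · have e := hab a ha.2 y hy.2 (hQz a ha) (hzc y hy.1)
      rw [e, mul_inv_cancel_right]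
      exact hy
    · have e := hab a ha.2 _ hy.2 (hQz a ha) (hzc _ hy.1)
      have hy' : y = a * y * a⁻¹ := by
        have e' : a * y = y * a := by
          have := congrArg (fun t => a⁻¹ * t * a) e
          simpa [mul_assoc] using this
        rw [e', mul_inv_cancel_right]
      rw [hy']
      exact hy
  have hU : IsPGroup 2 (((Q : Subgroup G) ⊓ H) ⊔ ((S : Subgroup G) ⊓ H) : Subgroup G) :=
    (Q.isPGroup'.to_le inf_le_left).to_sup_of_normal_right' (S.isPGroup'.to_le inf_le_left) hle
  have hQS : (Q : Subgroup G) ⊓ H ≤ (S : Subgroup G) ⊓ H := by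
    set U := ((Q : Subgroup G) ⊓ H) ⊔ ((S : Subgroup G) ⊓ H) with hUdef
    have hUH : U ≤ H := sup_le inf_le_right inf_le_right
    have hdiv : ((S : Subgroup G) ⊓ H).relIndex U ∣ ((S : Subgroup G) ⊓ H).relIndex H := by
      rw [← relIndex_mul_relIndex _ _ _ (le_sup_right : _ ≤ U) hUH]
      exact dvd_mul_right _ _
    obtain ⟨m, hm⟩ := hU.index (((S : Subgroup G) ⊓ H).subgroupOf U)
    have hone : ((S : Subgroup G) ⊓ H).relIndex U = 1 := by
      rcases m with _ | m
      · simpa [relIndex] using hm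
      · exfalso
        refine hQ.1 (dvd_trans ?_ hdiv)
        rw [relIndex, hm, pow_succ]
        exact dvd_mul_left _ _
    exact le_trans le_sup_left (relIndex_eq_one.1 hone)
  -- normalisers grow in the 2-group `Q`
  have hDQ : D.subgroupOf (Q : Subgroup G) < ⊤ := by
    refine lt_top_iff_ne_top.2 fun e => hnot ?_
    have hle' : (Q : Subgroup G) ≤ (S : Subgroup G) := le_trans (subgroupOf_eq_top.1 e) inf_le_left
    exact (Q.is_maximal' S.isPGroup' hle').le
  haveI := Q.isPGroup'.isNilpotent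
  have hgrow := Group.normalizerCondition_of_isNilpotent (G := (Q : Subgroup G)) _ hDQ
  obtain ⟨a, ha, hna⟩ := SetLike.exists_of_lt hgrow
  have haH : (a : G) ∈ H := by
    have hadQ : D ≤ (Q : Subgroup G) := inf_le_right
    refine mem_normalizer_iff.2 fun y => ?_
    constructor
    · intro hy
      exact mem_subgroupOf.1 ((mem_normalizer_iff.1 ha ⟨y, hadQ hy⟩).1 (mem_subgroupOf.2 hy))
    · intro hy
      have hyQ : y ∈ (Q : Subgroup G) := by
        have := mul_mem (mul_mem (inv_mem a.2) (hadQ hy)) a.2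
        simpa [mul_assoc] using this
      exact mem_subgroupOf.1 ((mem_normalizer_iff.1 ha ⟨y, hyQ⟩).2 (mem_subgroupOf.2 hy))
  exact hna (mem_subgroupOf.2 ⟨(hQS ⟨a.2, haH⟩).1, a.2⟩)

/-- Weak closure along a chain of tame steps. -/
theorem steps_fix (h : QS G) (S : Sylow 2 G) (hS : ¬ IsMulCommutative S) {z : G}
    (hzc : ∀ s ∈ (S : Subgroup G), s * z = z * s) (hz : z ∉ center G) {A : Set G} {g : G}
    (hst : AlperinTame.TameSteps S A g) : A = {z} → g * z = z * g := by
  induction hst with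
  | nil A => intro _; simp
  | @cons A g Q x hQ hA hx hxp _ ih =>
    intro hAz
    subst hAz
    have e : x * z = z * x := step_fix h S hS hzc hz Q hQ (hA rfl) hx
    have e' : g * z = z * g := ih (by
      simp only [AlperinTame.rightConj, Set.image_singleton]
      rw [mul_assoc, ← e, inv_mul_cancel_left])
    rw [mul_assoc, e', ← mul_assoc, e, mul_assoc]

/-- The involution case. -/
theorem centerSylow_sq (h : QS G) (S : Sylow 2 G) (hS : ¬ IsMulCommutative S) {z : G}
    (hzS : z ∈ (S : Subgroup G)) (hzc : ∀ s ∈ (S : Subgroup G), s * z = z * s)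
    (hz2 : z * z ∈ center G) : z ∈ center G := by
  haveI : Fact (Nat.Prime 2) := ⟨Nat.prime_two⟩
  haveI := h.simple
  by_contra hz
  have hweak : ∀ g : G, g * z * g⁻¹ ∈ (S : Subgroup G) → g * z * g⁻¹ = z := by
    intro g hg
    have hA : ({z} : Set G) ⊆ ((S : Subgroup G) : Set G) := Set.singleton_subset_iff.2 hzS
    have hst := AlperinTame.exists_tameSteps S {z} g⁻¹ hA (by
      simp only [AlperinTame.rightConj, Set.image_singleton, inv_inv]
      exact Set.singleton_subset_iff.2 hg)
    have e : g⁻¹ * z = z * g⁻¹ := steps_fix h S hS hzc hz hst rfl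
    rw [mul_assoc, ← e, mul_inv_cancel_left]
  set π := QuotientGroup.mk' (center G) with hπ
  have hsurj : Function.Surjective π := QuotientGroup.mk'_surjective _
  have hu1 : π z ≠ 1 := fun e => hz ((QuotientGroup.eq_one_iff z).1 e)
  have hu : orderOf (π z) = 2 := orderOf_eq_prime (by
    rw [pow_two, ← map_mul]; exact (QuotientGroup.eq_one_iff _).2 hz2) hu1
  let P : Sylow 2 (G ⧸ center G) := S.mapSurjective hsurj
  have hiso : ∀ g : G ⧸ center G, g * π z * g⁻¹ ∈ P → g * π z * g⁻¹ = π z := by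
    intro g hg
    obtain ⟨g, rfl⟩ := hsurj g
    have hg' : g * z * g⁻¹ ∈ ((S : Subgroup G).map π).comap π := by
      show π (g * z * g⁻¹) ∈ (S : Subgroup G).map π
      rw [map_mul, map_mul, map_inv]
      exact hg
    rw [comap_map_eq, hπ, QuotientGroup.ker_mk'] at hg'
    obtain ⟨k, hk⟩ := IsPGroup.iff_orderOf.1 S.isPGroup' ⟨z, hzS⟩
    have hord : orderOf (g * z * g⁻¹) = 2 ^ k := by
      rw [← MulAut.conj_apply, MulEquiv.orderOf_eq, ← hk, ← orderOf_coe]
    rw [← map_inv, ← map_mul, ← map_mul, hweak g (mem_of_mem_sup S hord hg')]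
  have hstar := ZStar.zStar (G ⧸ center G) (π z) ⟨hu, fun a ha =>
    (Involution.eq_of_isolated_of_commute P hu hiso (IsConj.refl (π z))
      (isConj_iff.2 ⟨a, rfl⟩) ha).symm⟩
  have hcen : π z ∈ center (G ⧸ center G) := by
    rcases Subgroup.Normal.eq_bot_or_eq_top
      (inferInstance : (Cfsg.oddCore (G ⧸ center G)).Normal) with e | e
    · refine mem_center_iff.2 fun g => ?_
      have := hstar g
      rw [e, mem_bot, mul_inv_eq_one, mul_inv_eq_iff_eq_mul] at this
      exact this.symm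
    · exfalso
      have hodd : Odd (Nat.card (Cfsg.oddCore (G ⧸ center G))) :=
        Nat.coprime_two_right.1 PSolvable.pPrimeCore_coprime
      rw [e, card_top] at hodd
      have hdvd : orderOf (π z) ∣ Nat.card (G ⧸ center G) := orderOf_dvd_natCard (π z)
      rw [hu] at hdvd
      exact Nat.not_even_iff_odd.2 hodd (even_iff_two_dvd.2 hdvd)
  rcases Subgroup.Normal.eq_bot_or_eq_top
    (inferInstance : (center (G ⧸ center G)).Normal) with e | e
  · exact hu1 (mem_bot.1 (e ▸ hcen))
  · have hcc : commutator G ≤ center G := by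
      rw [commutator_def, Subgroup.commutator_le]
      intro a _ b _
      refine (QuotientGroup.eq_one_iff _).1 ?_
      show π ⁅a, b⁆ = 1
      rw [map_commutatorElement, commutatorElement_eq_one_iff_commute]
      exact (mem_center_iff.1 (e ▸ mem_top (π a)) (π b)).symm
    rw [h.perfect] at hcc
    exact hz (hcc (mem_top z))

/-- A nonabelian Sylow 2-subgroup when the centre has even order. -/
theorem not_comm_sylow (hTr : TransferBrick.{u}) (h : QS G) (he : Even (Nat.card (center G)))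
    (S : Sylow 2 G) : ¬ IsMulCommutative S := by
  intro hS
  haveI : Fact (Nat.Prime 2) := ⟨Nat.prime_two⟩
  obtain ⟨c, hc⟩ := exists_prime_orderOf_dvd_card' 2 (even_iff_two_dvd.1 he)
  have hc1 : orderOf (c : G) = 2 ^ 1 := by rw [orderOf_coe, hc, pow_one]
  have hcS : (c : G) ∈ (S : Subgroup G) := mem_of_mem_sup S hc1 (mem_sup_right c.2)
  have h1 := hTr G h.perfect 2 S hS c hcS fun g _ => mem_center_iff.1 c.2 g
  rw [h1, orderOf_one] at hc1
  norm_num at hc1

/-- In a 2-group modulo a subgroup, some power has square inside. -/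
theorem exists_pow_sq_mem {z : G} (hp : ∃ k : ℕ, orderOf z = 2 ^ k) (Z : Subgroup G)
    (hz : z ∉ Z) : ∃ j : ℕ, z ^ 2 ^ j ∉ Z ∧ z ^ 2 ^ j * z ^ 2 ^ j ∈ Z := by
  classical
  obtain ⟨k, hk⟩ := hp
  have hex : ∃ j, z ^ 2 ^ j ∈ Z := ⟨k, by rw [← hk, pow_orderOf_eq_one]; exact one_mem Z⟩
  obtain ⟨j, hj⟩ : ∃ j, Nat.find hex = j + 1 := by
    rcases hn : Nat.find hex with _ | j
    · exfalso
      have := Nat.find_spec hex
      rw [hn] at this
      exact hz (by simpa using this)
    · exact ⟨j, rfl⟩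
  refine ⟨j, Nat.find_min hex (by omega), ?_⟩
  have := Nat.find_spec hex
  rw [hj, pow_succ, mul_comm, two_mul, pow_add] at this
  exact this

/-- Some element of `S` outside `C(t)` maps `t` to a central multiple of `t` or of `t⁻¹`. -/
theorem exists_mover (hT2 : TwoShapeBrick.{u}) (h : QS G) (S : Sylow 2 G)
    (hS : ¬ IsMulCommutative S)
    (hcen : ∀ z ∈ (S : Subgroup G), (∀ s ∈ (S : Subgroup G), s * z = z * s) → z ∈ center G)
    {t : G} (htS : t ∈ (S : Subgroup G)) (ht : t ∉ center G) :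
    ∃ g ∈ (S : Subgroup G), g * t ≠ t * g ∧
      (g * t * g⁻¹ * t ∈ center G ∨ g * t * g⁻¹ * t⁻¹ ∈ center G) := by
  haveI : Fact (Nat.Prime 2) := ⟨Nat.prime_two⟩
  have hZS : ∀ c : (S : Subgroup G), c ∈ center (S : Subgroup G) → (c : G) ∈ center G :=
    fun c hc => hcen c c.2 fun s hs => congrArg Subtype.val (mem_center_iff.1 hc ⟨s, hs⟩)
  obtain ⟨g₀, hg₀, hg₀t⟩ : ∃ g ∈ (S : Subgroup G), g * t ≠ t * g := by
    by_contra hall
    push Not at hall
    exact ht (hcen t htS hall)
  rcases hT2 (S : Subgroup G) S.isPGroup'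
    (h.toHyp.sub_ca _ (pgroup_ne_top h S.isPGroup')) hS with hsq | ⟨A, hA2, -, hAc, hinv⟩
  · refine ⟨g₀, hg₀, hg₀t, Or.inl ?_⟩
    have hs : ∀ w ∈ (S : Subgroup G), w * w ∈ center G := fun w hw =>
      hZS _ (hsq ⟨w, hw⟩)
    have hgc := mem_center_iff.1 (hs g₀ hg₀)
    have hval : g₀ * t * g₀⁻¹ * t = (g₀ * t) * (g₀ * t) * (g₀ * g₀)⁻¹ := by
      rw [eq_mul_inv_iff_mul_eq]
      calc g₀ * t * g₀⁻¹ * t * (g₀ * g₀)
          = g₀ * t * g₀⁻¹ * ((g₀ * g₀) * t) := by rw [mul_assoc, hgc t]
        _ = g₀ * t * (g₀ * t) := by group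
    rw [hval]
    exact mul_mem (hs _ (mul_mem hg₀ htS)) (inv_mem (hs g₀ hg₀))
  · by_cases htA : (⟨t, htS⟩ : (S : Subgroup G)) ∈ A
    · by_cases hg0A : (⟨g₀, hg₀⟩ : (S : Subgroup G)) ∈ A
      · exact absurd (congrArg Subtype.val (hAc _ hg0A _ htA)) hg₀t
      · exact ⟨g₀, hg₀, hg₀t, Or.inl (hZS _ (hinv _ hg0A _ htA))⟩
    · have hfix : ∀ a ∈ A, (a : G) * t = t * a → a ∈ center (S : Subgroup G) := by
        intro a ha hat
        refine mem_center_iff.2 fun y => ?_
        have hat' : a * ⟨t, htS⟩ = ⟨t, htS⟩ * a := Subtype.ext hat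
        by_cases hy : y ∈ A
        · exact hAc y hy a ha
        · have hm : (⟨t, htS⟩ : (S : Subgroup G))⁻¹ * y ∈ A := by
            rw [mul_mem_iff_of_index_two hA2]
            exact iff_of_false (fun e => htA (by simpa using inv_mem e)) hy
          have e := hAc _ hm a ha
          calc y * a = ⟨t, htS⟩ * (((⟨t, htS⟩ : (S : Subgroup G))⁻¹ * y) * a) := by group
            _ = ⟨t, htS⟩ * (a * ((⟨t, htS⟩ : (S : Subgroup G))⁻¹ * y)) := by rw [e]
            _ = a * y := by rw [← mul_assoc, ← hat', mul_assoc, mul_inv_cancel_left]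
      obtain ⟨a₀, ha₀, ha₀c⟩ : ∃ a ∈ A, a ∉ center (S : Subgroup G) := by
        by_contra hall
        push Not at hall
        refine hS ⟨⟨fun x y => ?_⟩⟩
        have hcase : ∀ x : (S : Subgroup G), x ∈ A ∨ (⟨t, htS⟩ : (S : Subgroup G))⁻¹ * x ∈ A := by
          intro x
          by_cases hx : x ∈ A
          · exact Or.inl hx
          · refine Or.inr ?_
            rw [mul_mem_iff_of_index_two hA2]
            exact iff_of_false (fun e => htA (by simpa using inv_mem e)) hx
        show (x : (S : Subgroup G)) * y = y * x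
        set T : (S : Subgroup G) := ⟨t, htS⟩
        rcases hcase x with hx | hx
        · exact (mem_center_iff.1 (hall x hx) y).symm
        · rcases hcase y with hy | hy
          · exact mem_center_iff.1 (hall y hy) x
          · obtain ⟨cx, hcx, rfl⟩ : ∃ c ∈ center (S : Subgroup G), x = T * c :=
              ⟨_, hall _ hx, by rw [mul_inv_cancel_left]⟩
            obtain ⟨cy, hcy, rfl⟩ : ∃ c ∈ center (S : Subgroup G), y = T * c :=
              ⟨_, hall _ hy, by rw [mul_inv_cancel_left]⟩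
            have e₁ : ∀ w, w * cx = cx * w := mem_center_iff.1 hcx
            have e₂ : ∀ w, w * cy = cy * w := mem_center_iff.1 hcy
            calc T * cx * (T * cy) = T * (cx * T) * cy := by simp only [mul_assoc]
              _ = T * (T * cx) * cy := by rw [e₁ T]
              _ = T * T * (cx * cy) := by simp only [mul_assoc]
              _ = T * T * (cy * cx) := by rw [e₂ cx]
              _ = T * (T * cy) * cx := by simp only [mul_assoc]
              _ = T * (cy * T) * cx := by rw [e₂ T]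
              _ = T * cy * (T * cx) := by simp only [mul_assoc]
      obtain ⟨j, hj, hj2⟩ := exists_pow_sq_mem (IsPGroup.iff_orderOf.1 S.isPGroup' a₀) _ ha₀c
      set a : (S : Subgroup G) := a₀ ^ 2 ^ j with hadef
      have ha : a ∈ A := pow_mem ha₀ _
      refine ⟨a, a.2, fun e => hj (hfix a ha e), Or.inr ?_⟩
      have hc := hinv _ htA a ha
      have hval : a * ⟨t, htS⟩ * a⁻¹ * (⟨t, htS⟩ : (S : Subgroup G))⁻¹ =
          a * (a * (⟨t, htS⟩ * a * (⟨t, htS⟩ : (S : Subgroup G))⁻¹ * a)⁻¹) := by group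
      have hmem : a * ⟨t, htS⟩ * a⁻¹ * (⟨t, htS⟩ : (S : Subgroup G))⁻¹ ∈ center (S : Subgroup G) := by
        rw [hval, ← mul_assoc]
        exact mul_mem hj2 (inv_mem hc)
      exact hZS _ hmem

end SylowTwoAux

open SylowTwoAux

/-- The centre of a nonabelian Sylow 2-subgroup is central. -/
theorem centerSylow : CenterSylowBrick.{u} := by
  intro G _ _ h S hS z hzS hzc
  by_contra hz
  haveI : Fact (Nat.Prime 2) := ⟨Nat.prime_two⟩
  obtain ⟨k, hk⟩ := IsPGroup.iff_orderOf.1 S.isPGroup' ⟨z, hzS⟩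
  obtain ⟨j, hj, hj2⟩ := exists_pow_sq_mem ⟨k, by rw [← hk, ← orderOf_coe]⟩ _ hz
  exact hj (centerSylow_sq h S hS (pow_mem hzS _)
    (fun s hs => (Commute.pow_right (show Commute s z from hzc s hs) _).eq) hj2)

/-- When the centre has even order, every noncentral 2-element has abelian centraliser. -/
theorem twoGood (hTr : TransferBrick.{u}) (hT2 : TwoShapeBrick.{u}) : TwoGoodBrick.{u} := by
  intro G _ _ h he t k hk hbad
  haveI : Fact (Nat.Prime 2) := ⟨Nat.prime_two⟩
  obtain ⟨S, hSle⟩ := (IsPGroup.of_card (p := 2) (G := zpowers t)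
    (n := k) (by rw [Nat.card_zpowers, hk])).exists_le_sylow
  have htS : t ∈ (S : Subgroup G) := hSle (mem_zpowers t)
  have hS := not_comm_sylow hTr h he S
  obtain ⟨g, -, hgt, hcz⟩ := exists_mover hT2 h S hS (centerSylow G h S hS) htS hbad.1
  have hsame : ∀ y : G, y * t = t * y ↔ y * (g * t * g⁻¹) = (g * t * g⁻¹) * y := by
    intro y
    rcases hcz with hc | hc
    · have e : g * t * g⁻¹ = (g * t * g⁻¹ * t) * t⁻¹ := (mul_inv_cancel_right _ _).symm
      rw [e]
      have hy := mem_center_iff.1 hc y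
      show Commute y t ↔ Commute y _
      rw [← Commute.inv_right_iff]
      constructor
      · exact fun h' => Commute.mul_right hy h'
      · intro h'
        have h'' := (Commute.inv_right (show Commute y _ from hy)).mul_right h'
        rwa [inv_mul_cancel_left] at h''
    · have e : g * t * g⁻¹ = (g * t * g⁻¹ * t⁻¹) * t := (inv_mul_cancel_right _ _).symm
      rw [e]
      have hy := mem_center_iff.1 hc y
      show Commute y t ↔ Commute y _
      constructor
      · exact fun h' => Commute.mul_right hy h'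
      · intro h'
        have h'' := (Commute.inv_right (show Commute y _ from hy)).mul_right h'
        rwa [inv_mul_cancel_left] at h''
  have hnorm : g ∈ normalizer ((centralizer ({t} : Set G) : Subgroup G) : Set G) := by
    refine mem_normalizer_iff.2 fun y => ?_
    simp only [mem_centralizer_singleton_iff]
    rw [hsame (g * y * g⁻¹)]
    constructor
    · intro e
      calc g * y * g⁻¹ * (g * t * g⁻¹) = g * (y * t) * g⁻¹ := by group
        _ = g * (t * y) * g⁻¹ := by rw [e]
        _ = g * t * g⁻¹ * (g * y * g⁻¹) := by group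
    · intro e
      calc y * t = g⁻¹ * (g * y * g⁻¹ * (g * t * g⁻¹)) * g := by group
        _ = g⁻¹ * (g * t * g⁻¹ * (g * y * g⁻¹)) * g := by rw [e]
        _ = t * y := by group
  by_cases hn : (centralizer ({t} : Set G)).Normal
  · exact hbad.1 (le_center_of_normal h _ hbad.centralizer_ne_top
      (mem_centralizer_singleton_iff.2 rfl))
  · rw [h.toHyp.normalizer_centralizer hbad hn] at hnorm
    exact hgt (mem_centralizer_singleton_iff.1 hnorm)

end Cfsg.Agent.Lib.MinNonCA34
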