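import Mathlib
import Cfsg.Agent.Lib.MinNonCA34.Spec
import Cfsg.Agent.Lib.MinNonCA34.SylowTwo
import Cfsg.Agent.Lib.Involution.ThompsonTransfer
import Cfsg.Agent.Lib.TwoGroup.Recognition
import Cfsg.Agent.Lib.ClassSize.Cover

/-!
# Minimal non-CA groups: the dihedral case, setting

A nonabelian Sylow 2-subgroup `S` with an abelian subgroup `A` of index 2 which is cyclic modulo the
centre and inverted modulo the centre: the fusion of involutions in the central quotient and the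
shape of the centraliser of the central involution of the image of `S`.
-/

set_option autoImplicit false
set_option linter.unusedSectionVars false
set_option linter.style.haveILetI false

namespace Cfsg.Agent.Lib.MinNonCA34.EvenDihedralAux

open Subgroup

universe u

variable {G : Type u} [Group G] [Finite G]

/-- The preimage of the centraliser of the image of `x` in the central quotient. -/
def cmod (x : G) : Subgroup G :=
  (centralizer ({(x : G ⧸ center G)} : Set (G ⧸ center G))).comap (QuotientGroup.mk' (center G))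

omit [Finite G] in
theorem mem_cmod {x g : G} : g ∈ cmod x ↔ g * x * g⁻¹ * x⁻¹ ∈ center G := by
  rw [cmod, mem_comap, mem_centralizer_singleton_iff, QuotientGroup.mk'_apply,
    ← QuotientGroup.eq_one_iff, QuotientGroup.mk_mul, QuotientGroup.mk_mul, QuotientGroup.mk_mul,
    QuotientGroup.mk_inv, QuotientGroup.mk_inv, mul_inv_eq_one, mul_inv_eq_iff_eq_mul]

omit [Finite G] in
theorem map_cmod (x : G) : (cmod x).map (QuotientGroup.mk' (center G)) =
    centralizer ({(x : G ⧸ center G)} : Set (G ⧸ center G)) :=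
  map_comap_eq_self_of_surjective (QuotientGroup.mk'_surjective _) _

theorem commutator_quot (h : QS G) : commutator (G ⧸ center G) = ⊤ := by
  rw [eq_top_iff]
  rintro y -
  obtain ⟨g, rfl⟩ := QuotientGroup.mk'_surjective (center G) y
  have hg : QuotientGroup.mk' (center G) g ∈ (commutator G).map (QuotientGroup.mk' (center G)) :=
    mem_map_of_mem _ (h.perfect ▸ mem_top g)
  rw [commutator_def, map_commutator] at hg
  rw [commutator_def]
  exact commutator_mono le_top le_top hg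

theorem quot_not_comm (h : QS G) : ¬ ∀ a b : G ⧸ center G, a * b = b * a := by
  intro hc
  haveI := h.simple
  have hbot : commutator (G ⧸ center G) = ⊥ := by
    rw [commutator_def, eq_bot_iff, commutator_le]
    intro a _ b _
    rw [mem_bot, commutatorElement_def, hc a b]
    group
  exact top_ne_bot ((commutator_quot h).symm.trans hbot)

theorem center_quot (h : QS G) : center (G ⧸ center G) = ⊥ := by
  haveI := h.simple
  rcases Subgroup.Normal.eq_bot_or_eq_top (inferInstance : (center (G ⧸ center G)).Normal) with e | e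
  · exact e
  · refine absurd (fun a b => ?_) (quot_not_comm h)
    exact (mem_center_iff.1 (e ▸ mem_top a) b).symm

theorem cmod_ne_top (h : QS G) {x : G} (hx : x ∉ center G) : cmod x ≠ ⊤ := by
  intro e
  refine hx ((QuotientGroup.eq_one_iff x).1 ?_)
  rw [← mem_bot, ← center_quot h, mem_center_iff]
  intro y
  obtain ⟨g, rfl⟩ := QuotientGroup.mk'_surjective (center G) y
  have hg : g ∈ cmod x := e ▸ mem_top g
  rw [cmod, mem_comap, mem_centralizer_singleton_iff] at hg
  exact hg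

/-- A two-element of a subgroup containing a Sylow 2-subgroup is conjugate there into it. -/
theorem exists_conj_mem (S : Sylow 2 G) {E : Subgroup G} (hSE : (S : Subgroup G) ≤ E) {x : G}
    (hx : x ∈ E) (hxp : ∃ k : ℕ, orderOf x = 2 ^ k) :
    ∃ e ∈ E, e * x * e⁻¹ ∈ (S : Subgroup G) := by
  haveI : Fact (Nat.Prime 2) := ⟨Nat.prime_two⟩
  obtain ⟨k, hk⟩ := hxp
  have hp : IsPGroup 2 (zpowers (⟨x, hx⟩ : E)) :=
    IsPGroup.of_card (by rw [Nat.card_zpowers, orderOf_mk, hk])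
  obtain ⟨P, hP⟩ := hp.exists_le_sylow
  obtain ⟨e, he⟩ := MulAction.exists_smul_eq E P (S.subtype hSE)
  refine ⟨(e : G), e.2, ?_⟩
  have h1 : e * ⟨x, hx⟩ * e⁻¹ ∈ ((e • P : Sylow 2 E) : Subgroup E) := by
    rw [Sylow.coe_subgroup_smul, mem_pointwise_smul_iff_inv_smul_mem]
    simpa [MulAut.smul_def, mul_assoc] using hP (mem_zpowers _)
  rw [he] at h1
  exact h1

/-- The configuration of the dihedral case. -/
structure Ctx (S : Sylow 2 G) (A : Subgroup G) (r t σ : G) : Prop where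
  qs : QS G
  good : ∀ (x : G) (k : ℕ), orderOf x = 2 ^ k → ¬ Bad x
  le : A ≤ S
  idx : A.relIndex S = 2
  interCenter : (S : Subgroup G) ⊓ center G ≤ A
  comm : ∀ x ∈ A, ∀ y ∈ A, x * y = y * x
  r_mem : r ∈ A
  gen : ∀ x ∈ A, ∃ i : ℕ, x⁻¹ * r ^ i ∈ center G
  inv : ∀ s ∈ (S : Subgroup G), s ∉ A → ∀ x ∈ A, s * x * s⁻¹ * x ∈ center G
  sq : ∀ s ∈ (S : Subgroup G), s ∉ A → s * s ∈ center G
  t_mem : t ∈ A
  t_nc : t ∉ center G
  t_sq : t * t ∈ center G
  t_uniq : ∀ x ∈ A, x * x ∈ center G → x ∈ center G ∨ t⁻¹ * x ∈ center G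
  s_mem : σ ∈ (S : Subgroup G)
  s_nA : σ ∉ A
  nab : ¬ ∀ x ∈ (S : Subgroup G), ∀ y ∈ (S : Subgroup G), x * y = y * x

variable {S : Sylow 2 G} {A : Subgroup G} {r t σ : G} (c : Ctx S A r t σ)
include c

theorem Ctx.le_center_of_normal (N : Subgroup G) [N.Normal] (hN : N ≠ ⊤) : N ≤ center G :=
  SylowTwoAux.le_center_of_normal c.qs N hN

omit c in
theorem twoPow {S : Sylow 2 G} {x : G} (hx : x ∈ (S : Subgroup G)) :
    ∃ k : ℕ, orderOf x = 2 ^ k := by
  haveI : Fact (Nat.Prime 2) := ⟨Nat.prime_two⟩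
  obtain ⟨k, hk⟩ := IsPGroup.iff_orderOf.1 S.isPGroup' ⟨x, hx⟩
  exact ⟨k, by rw [← hk, orderOf_mk]⟩

theorem Ctx.comm_of_good {x a b : G} (hx : x ∈ (S : Subgroup G)) (hxc : x ∉ center G)
    (ha : a * x = x * a) (hb : b * x = x * b) : a * b = b * a := by
  by_contra hne
  obtain ⟨k, hk⟩ := twoPow hx
  exact c.good x k hk ⟨hxc, a, b, ha, hb, hne⟩

theorem Ctx.mul_mem_iff {a b : G} (ha : a ∈ (S : Subgroup G)) (hb : b ∈ (S : Subgroup G)) :
    a * b ∈ A ↔ (a ∈ A ↔ b ∈ A) := by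
  have h2 : (A.subgroupOf (S : Subgroup G)).index = 2 := c.idx
  have := Subgroup.mul_mem_iff_of_index_two h2 (a := ⟨a, ha⟩) (b := ⟨b, hb⟩)
  simpa [mem_subgroupOf] using this

theorem Ctx.coset {s : G} (hs : s ∈ (S : Subgroup G)) (hsA : s ∉ A) : σ⁻¹ * s ∈ A :=
  (c.mul_mem_iff (inv_mem c.s_mem) hs).2
    ⟨fun h => absurd (inv_mem_iff.1 h) c.s_nA, fun h => absurd h hsA⟩

theorem Ctx.conj_mem_A {s x : G} (hs : s ∈ (S : Subgroup G)) (hx : x ∈ A) : s * x * s⁻¹ ∈ A :=
  (c.mul_mem_iff (mul_mem hs (c.le hx)) (inv_mem hs)).2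
    (((c.mul_mem_iff hs (c.le hx)).trans ⟨fun h => h.2 hx, fun h => ⟨fun _ => hx, fun _ => h⟩⟩).trans
      inv_mem_iff.symm)

/-- An element of `S` centralising a noncentral element of `A` lies in `A`. -/
theorem Ctx.mem_A_of_comm {s x : G} (hs : s ∈ (S : Subgroup G)) (hx : x ∈ A) (hxc : x ∉ center G)
    (hsx : s * x = x * s) : s ∈ A := by
  by_contra hsA
  refine c.nab fun u hu v hv => c.comm_of_good (c.le hx) hxc ?_ ?_
  all_goals
    first
    | (by_cases huA : u ∈ A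
       · exact c.comm u huA x hx
       · have e : u = s * (s⁻¹ * u) := by group
         have hm : s⁻¹ * u ∈ A := (c.mul_mem_iff (inv_mem hs) hu).2
           ⟨fun h => absurd (inv_mem_iff.1 h) hsA, fun h => absurd h huA⟩
         rw [e, mul_assoc, c.comm _ hm x hx, ← mul_assoc, hsx, mul_assoc])
    | (by_cases huA : v ∈ A
       · exact c.comm v huA x hx
       · have e : v = s * (s⁻¹ * v) := by group
         have hm : s⁻¹ * v ∈ A := (c.mul_mem_iff (inv_mem hs) hv).2
           ⟨fun h => absurd (inv_mem_iff.1 h) hsA, fun h => absurd h huA⟩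
         rw [e, mul_assoc, c.comm _ hm x hx, ← mul_assoc, hsx, mul_assoc])

/-- The elements of `S` which are central in a subgroup containing `S` are central. -/
theorem Ctx.central_of_comm {x : G} (hx : x ∈ (S : Subgroup G))
    (hxS : ∀ s ∈ (S : Subgroup G), s * x = x * s) : x ∈ center G := by
  by_contra hxc
  by_cases hxA : x ∈ A
  · exact c.s_nA (c.mem_A_of_comm c.s_mem hxA hxc (hxS σ c.s_mem))
  · exact hxA (c.mem_A_of_comm hx c.t_mem c.t_nc (hxS t (c.le c.t_mem)).symm)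

theorem Ctx.s_nc {s : G} (hs : s ∈ (S : Subgroup G)) (hsA : s ∉ A) : s ∉ center G := fun h =>
  hsA (c.interCenter ⟨hs, h⟩)

theorem Ctx.r_nc : r ∉ center G := fun h => c.t_nc <| by
  obtain ⟨i, hi⟩ := c.gen t c.t_mem
  have e : t = r ^ i * (t⁻¹ * r ^ i)⁻¹ := by group
  rw [e]
  exact mul_mem (pow_mem h i) (inv_mem hi)

omit c in
theorem mk_eq {x y : G} (h : x⁻¹ * y ∈ center G) : (x : G ⧸ center G) = y := QuotientGroup.eq.2 h

theorem Ctx.s_mk {s : G} (hs : s ∈ (S : Subgroup G)) (hsA : s ∉ A) :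
    orderOf (s : G ⧸ center G) = 2 :=
  orderOf_eq_prime (by rw [pow_two, ← QuotientGroup.mk_mul, QuotientGroup.eq_one_iff]
                       exact c.sq s hs hsA)
    (by rw [Ne, QuotientGroup.eq_one_iff]; exact c.s_nc hs hsA)

theorem Ctx.t_mk : orderOf (t : G ⧸ center G) = 2 :=
  orderOf_eq_prime (by rw [pow_two, ← QuotientGroup.mk_mul, QuotientGroup.eq_one_iff]; exact c.t_sq)
    (by rw [Ne, QuotientGroup.eq_one_iff]; exact c.t_nc)

/-- The central quotient of `G` has one class of involutions. -/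
theorem Ctx.involution_conj (u : G ⧸ center G) (hu : orderOf u = 2) :
    ∃ g : G ⧸ center G, g * u * g⁻¹ = t := by
  haveI := c.qs.simple
  haveI : Fact (Nat.Prime 2) := ⟨Nat.prime_two⟩
  let π := QuotientGroup.mk' (center G)
  let P : Sylow 2 (G ⧸ center G) := S.mapSurjective (QuotientGroup.mk'_surjective (center G))
  have hP : (P : Subgroup (G ⧸ center G)) = (S : Subgroup G).map π := rfl
  have hQ : (A.map π).relIndex ((S : Subgroup G).map π) = 2 := by
    rw [relIndex, index_eq_two_iff]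
    refine ⟨⟨π σ, mem_map_of_mem _ c.s_mem⟩, ?_⟩
    rintro ⟨y, s, hs, rfl⟩
    have key : ∀ s ∈ (S : Subgroup G), π s ∈ A.map π → s ∈ A := by
      rintro s hs ⟨x, hx, e⟩
      have hz : x⁻¹ * s ∈ center G := QuotientGroup.eq.1 e
      have : x⁻¹ * s ∈ A := c.interCenter (Subgroup.mem_inf.2 ⟨mul_mem (inv_mem (c.le hx)) hs, hz⟩)
      simpa using mul_mem hx this
    simp only [mem_subgroupOf, Subgroup.coe_mul, ← map_mul]
    by_cases hsA : s ∈ A
    · exact Or.inr ⟨mem_map_of_mem _ hsA, fun h =>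
        c.s_nA (((c.mul_mem_iff hs c.s_mem).1 (key _ (mul_mem hs c.s_mem) h)).1 hsA)⟩
    · refine Or.inl ⟨mem_map_of_mem _ ((c.mul_mem_iff hs c.s_mem).2
        ⟨fun h => absurd h hsA, fun h => absurd h c.s_nA⟩), fun h => hsA (key _ hs h)⟩
  rcases Involution.thompson_transfer P (A.map π) (hP ▸ map_mono c.le) (hP.symm ▸ hQ) u hu with
    ⟨M, hM, hi, hu'⟩ | ⟨g, hg⟩
  · rcases hM.eq_bot_or_eq_top with e | e
    · refine absurd (fun a b => ?_) (quot_not_comm c.qs)
      rw [e, index_bot] at hi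
      haveI : IsCyclic (G ⧸ center G) := isCyclic_of_prime_card hi
      exact IsCyclic.commGroup.mul_comm a b
    · exact absurd (e ▸ mem_top u) hu'
  · refine ⟨g, ?_⟩
    obtain ⟨x, hx, e⟩ := hg
    have ho : orderOf (g * u * g⁻¹) = 2 := by
      rw [show g * u * g⁻¹ = MulAut.conj g u from rfl, MulEquiv.orderOf_eq, hu]
    rw [← e] at ho ⊢
    have hx2 : x * x ∈ center G := by
      rw [← QuotientGroup.eq_one_iff, QuotientGroup.mk_mul, ← pow_two]
      rw [← ho]
      exact pow_orderOf_eq_one _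
    rcases c.t_uniq x hx hx2 with h1 | h1
    · exfalso
      have : π x = 1 := (QuotientGroup.eq_one_iff x).2 h1
      rw [this, orderOf_one] at ho
      exact absurd ho (by norm_num)
    · exact (mk_eq h1).symm

/-- The odd part of the centraliser of `t`. -/
theorem Ctx.exists_oddPart :
    ∃ O : Subgroup G, ∀ g : G, g ∈ O ↔ g * t = t * g ∧ Odd (orderOf g) := by
  refine ⟨{ carrier := {g | g * t = t * g ∧ Odd (orderOf g)}
            one_mem' := ⟨by rw [one_mul, mul_one], by rw [orderOf_one]; exact odd_one⟩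
            mul_mem' := fun {a b} ha hb => ⟨?_, ?_⟩
            inv_mem' := fun {a} ha => ⟨?_, ?_⟩ }, fun g => Iff.rfl⟩
  · exact (Commute.mul_left (ha.1 : Commute a t) (hb.1 : Commute b t)).eq
  · have hab : Commute a b := c.comm_of_good (c.le c.t_mem) c.t_nc ha.1 hb.1
    exact (ha.2.mul hb.2).of_dvd_nat hab.orderOf_mul_dvd_mul_orderOf
  · exact (Commute.inv_left (ha.1 : Commute a t)).eq
  · rw [orderOf_inv]; exact ha.2

/-- The 2-elements centralising `t` lie in `A`. -/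
theorem Ctx.mem_A_of_two {x : G} (hx : x * t = t * x) (hxp : ∃ k : ℕ, orderOf x = 2 ^ k) :
    x ∈ A := by
  haveI : Fact (Nat.Prime 2) := ⟨Nat.prime_two⟩
  let T : Subgroup G :=
    { carrier := {g | g * t = t * g ∧ ∃ k : ℕ, g ^ 2 ^ k = 1}
      one_mem' := ⟨by rw [one_mul, mul_one], 0, one_pow _⟩
      mul_mem' := fun {a b} ha hb => by
        obtain ⟨i, hi⟩ := ha.2
        obtain ⟨j, hj⟩ := hb.2
        refine ⟨(Commute.mul_left (ha.1 : Commute a t) (hb.1 : Commute b t)).eq, i + j, ?_⟩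
        have hab : Commute a b := c.comm_of_good (c.le c.t_mem) c.t_nc ha.1 hb.1
        rw [hab.mul_pow]
        have e₁ : a ^ 2 ^ (i + j) = 1 := by rw [pow_add, pow_mul, hi, one_pow]
        have e₂ : b ^ 2 ^ (i + j) = 1 := by rw [pow_add, pow_mul', hj, one_pow]
        rw [e₁, e₂, one_mul]
      inv_mem' := fun {a} ha => by
        obtain ⟨i, hi⟩ := ha.2
        exact ⟨(Commute.inv_left (ha.1 : Commute a t)).eq, i, by rw [inv_pow, hi, inv_one]⟩ }
  have hT : IsPGroup 2 T := fun g => by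
    obtain ⟨k, hk⟩ := g.2.2
    exact ⟨k, Subtype.ext hk⟩
  have hn : (S : Subgroup G) ≤ normalizer (T : Set G) := by
    intro s hs
    have key : ∀ s ∈ (S : Subgroup G), ∀ g ∈ T, s * g * s⁻¹ ∈ T := by
      intro s hs g hg
      obtain ⟨k, hk⟩ := hg.2
      refine ⟨?_, k, by rw [conj_pow, hk, mul_one, mul_inv_cancel]⟩
      have ht' : s⁻¹ * t * s ∈ A := by simpa using c.conj_mem_A (inv_mem hs) c.t_mem
      have e : g * (s⁻¹ * t * s) = s⁻¹ * t * s * g :=
        c.comm_of_good (c.le c.t_mem) c.t_nc hg.1 (c.comm _ ht' _ c.t_mem)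
      calc s * g * s⁻¹ * t = s * (g * (s⁻¹ * t * s)) * s⁻¹ := by group
        _ = s * (s⁻¹ * t * s * g) * s⁻¹ := by rw [e]
        _ = t * (s * g * s⁻¹) := by group
    rw [mem_normalizer_iff]
    intro g
    refine ⟨key s hs g, fun h => ?_⟩
    have := key _ (inv_mem hs) _ h
    rwa [inv_inv, show s⁻¹ * (s * g * s⁻¹) * s = g by group] at this
  have hU := hT.to_sup_of_normal_left' S.isPGroup' hn
  have e := S.is_maximal' hU le_sup_right
  obtain ⟨k, hk⟩ := hxp
  have hxT : x ∈ T := ⟨hx, k, by rw [← hk]; exact pow_orderOf_eq_one x⟩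
  have hxS : x ∈ (S : Subgroup G) := by rw [← e]; exact mem_sup_left hxT
  exact c.mem_A_of_comm hxS c.t_mem c.t_nc hx

theorem Ctx.S_le_cmod : (S : Subgroup G) ≤ cmod t := by
  intro s hs
  rw [mem_cmod]
  by_cases hsA : s ∈ A
  · rw [c.comm s hsA t c.t_mem, mul_inv_cancel_right, mul_inv_cancel]; exact one_mem _
  · have e : s * t * s⁻¹ * t⁻¹ = s * t * s⁻¹ * t * (t * t)⁻¹ := by group
    rw [e]
    exact mul_mem (c.inv s hs hsA t c.t_mem) (inv_mem c.t_sq)

variable {O : Subgroup G} (hO : ∀ g : G, g ∈ O ↔ g * t = t * g ∧ Odd (orderOf g))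
include hO

omit c in
theorem odd_card_O : Odd (Nat.card O) := by
  haveI : Fact (Nat.Prime 2) := ⟨Nat.prime_two⟩
  rw [← Nat.not_even_iff_odd, even_iff_two_dvd]
  intro hd
  obtain ⟨g, hg⟩ := exists_prime_orderOf_dvd_card' 2 hd
  have h := ((hO g).1 g.2).2
  rw [Subgroup.orderOf_coe, hg] at h
  exact absurd h (by decide)

theorem Ctx.O_comm {x y : G} (hx : x ∈ O) (hy : y * t = t * y) : x * y = y * x :=
  c.comm_of_good (c.le c.t_mem) c.t_nc ((hO x).1 hx).1 hy

theorem Ctx.A_comm {x y : G} (hx : x ∈ O) (hy : y ∈ A) : x * y = y * x :=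
  c.O_comm hO hx (c.comm y hy t c.t_mem)

/-- `O` is normalised by the preimage of the centraliser of the image of `t`. -/
theorem Ctx.conj_mem_O {g x : G} (hg : g ∈ cmod t) (hx : x ∈ O) : g * x * g⁻¹ ∈ O := by
  have hz := mem_cmod.1 hg
  rw [hO]
  refine ⟨?_, by rw [show g * x * g⁻¹ = MulAut.conj g x from rfl, MulEquiv.orderOf_eq]
                 exact ((hO x).1 hx).2⟩
  have e1 : ∀ y, y * (g * t * g⁻¹ * t⁻¹) = (g * t * g⁻¹ * t⁻¹) * y := mem_center_iff.1 hz
  have e2 : (g * x * g⁻¹) * (g * t * g⁻¹) = (g * t * g⁻¹) * (g * x * g⁻¹) := by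
    calc (g * x * g⁻¹) * (g * t * g⁻¹) = g * (x * t) * g⁻¹ := by group
      _ = g * (t * x) * g⁻¹ := by rw [((hO x).1 hx).1]
      _ = _ := by group
  have e3 : g * t * g⁻¹ = (g * t * g⁻¹ * t⁻¹) * t := by group
  rw [e3, ← mul_assoc, e1, mul_assoc, mul_assoc (g * t * g⁻¹ * t⁻¹) t] at e2
  exact mul_left_cancel e2

omit c hO in
/-- Commutation with `t` as a homomorphism to the centre. -/
theorem exists_hom (t : G) :
    ∃ f : cmod t →* center G, ∀ g : cmod t, (f g : G) = (g : G) * t * (g : G)⁻¹ * t⁻¹ := by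
  refine ⟨MonoidHom.mk' (fun g => ⟨_, mem_cmod.1 g.2⟩) fun g h => Subtype.ext ?_, fun g => rfl⟩
  simp only [Subgroup.coe_mul]
  have e1 := mem_center_iff.1 (mem_cmod.1 h.2)
  calc (g : G) * h * t * ((g : G) * h)⁻¹ * t⁻¹
      = (g : G) * ((h : G) * t * (h : G)⁻¹ * t⁻¹) * t * (g : G)⁻¹ * t⁻¹ := by group
    _ = ((h : G) * t * (h : G)⁻¹ * t⁻¹) * g * t * (g : G)⁻¹ * t⁻¹ := by rw [e1 g]
    _ = ((h : G) * t * (h : G)⁻¹ * t⁻¹) * ((g : G) * t * (g : G)⁻¹ * t⁻¹) := by group
    _ = ((g : G) * t * (g : G)⁻¹ * t⁻¹) * ((h : G) * t * (h : G)⁻¹ * t⁻¹) :=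
        (mem_center_iff.1 (mem_cmod.1 g.2) _)

/-- The preimage of the centraliser of the image of `t` is `O S`. -/
theorem Ctx.cmod_decomp {g : G} (hg : g ∈ cmod t) :
    ∃ o ∈ O, ∃ s ∈ (S : Subgroup G), g = o * s := by
  haveI : Fact (Nat.Prime 2) := ⟨Nat.prime_two⟩
  obtain ⟨f, hf⟩ := exists_hom (G := G) t
  have hker : ∀ g : cmod t, f g = 1 → (g : G) * t = t * g := by
    intro g hg
    have := congrArg Subtype.val hg
    rw [hf, Subgroup.coe_one, mul_inv_eq_one, mul_inv_eq_iff_eq_mul] at this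
    exact this
  have hcent : ∀ g ∈ cmod t, g * g * t = t * (g * g) := by
    intro g hg
    refine hker (⟨g, hg⟩ * ⟨g, hg⟩) ?_
    rw [map_mul]
    refine Subtype.ext ?_
    rw [Subgroup.coe_mul, hf, Subgroup.coe_one]
    set z := g * t * g⁻¹ * t⁻¹ with hz'
    have e1 : ∀ y, y * z = z * y := mem_center_iff.1 (mem_cmod.1 hg)
    have h1 : g * t * g⁻¹ = z * t := by rw [hz']; group
    refine mul_eq_right.1 (?_ : z * z * (t * t) = t * t)
    calc z * z * (t * t) = z * (z * t) * t := by group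
      _ = z * (t * z) * t := by rw [e1 t]
      _ = (z * t) * (z * t) := by group
      _ = g * (t * t) * g⁻¹ := by rw [← h1]; group
      _ = t * t := by rw [mem_center_iff.1 c.t_sq g, mul_inv_cancel_right]
  have htwo : ∀ x ∈ cmod t, (∃ k : ℕ, orderOf x = 2 ^ k) →
      ∃ o ∈ O, ∃ s ∈ (S : Subgroup G), x = o * s := by
    intro x hx hxp
    obtain ⟨e, he, hes⟩ := exists_conj_mem S c.S_le_cmod hx hxp
    have hc : (x * e * x⁻¹ * e⁻¹) * t = t * (x * e * x⁻¹ * e⁻¹) := by
      refine hker (⟨x, hx⟩ * ⟨e, he⟩ * ⟨x, hx⟩⁻¹ * ⟨e, he⟩⁻¹) ?_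
      rw [map_mul, map_mul, map_mul, map_inv, map_inv,
        show f ⟨x, hx⟩ * f ⟨e, he⟩ = f ⟨e, he⟩ * f ⟨x, hx⟩ from
          Subtype.ext ((mem_center_iff.1 (f ⟨e, he⟩).2 _))]
      group
    set w := x * e * x⁻¹ * e⁻¹ with hw
    have hxw : x = w * (e * x * e⁻¹) := by rw [hw]; group
    obtain ⟨u, y, huy, -, ⟨j, hj⟩, hy, hu, hy'⟩ := ClassSize.exists_pParts (p := 2) w
    have huc : u * t = t * u := by
      obtain ⟨i, rfl⟩ := hu
      exact (Commute.zpow_left (hc : Commute w t) i).eq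
    have hyc : y * t = t * y := by
      obtain ⟨i, rfl⟩ := hy'
      exact (Commute.zpow_left (hc : Commute w t) i).eq
    have huA : u ∈ A := c.mem_A_of_two huc ⟨j, hj⟩
    have hyO : y ∈ O := (hO y).2 ⟨hyc, Nat.coprime_two_right.1 hy⟩
    refine ⟨y, hyO, u * (e * x * e⁻¹), mul_mem (c.le huA) hes, ?_⟩
    rw [← mul_assoc, c.O_comm hO hyO huc, ← huy]
    exact hxw
  obtain ⟨u, y, huy, huyc, ⟨j, hj⟩, hy, hu, hy'⟩ := ClassSize.exists_pParts (p := 2) g
  have huE : u ∈ cmod t := (zpowers_le.2 hg) hu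
  have hyE : y ∈ cmod t := (zpowers_le.2 hg) hy'
  have hyodd : Odd (orderOf y) := Nat.coprime_two_right.1 hy
  have hyc : y * t = t * y := by
    obtain ⟨k, hk⟩ := hyodd
    have e : y = (y * y) ^ (k + 1) := by
      rw [← pow_two, ← pow_mul, show 2 * (k + 1) = orderOf y + 1 by omega, pow_succ,
        pow_orderOf_eq_one, one_mul]
    rw [e]
    exact (Commute.pow_left (hcent y hyE : Commute (y * y) t) _).eq
  obtain ⟨o, ho, s, hs, e⟩ := htwo u huE ⟨j, hj⟩
  refine ⟨y * o, mul_mem ((hO y).2 ⟨hyc, hyodd⟩) ho, s, hs, ?_⟩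
  rw [huy, huyc.eq, e]
  group

end Cfsg.Agent.Lib.MinNonCA34.EvenDihedralAux
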