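import Mathlib
import Cfsg.Prelude.Def_CaseTheorems
import Cfsg.Agent.Lib.MinNonCA34.EvenDihedralBase
import Cfsg.Agent.Lib.PSolvable.Core
import Cfsg.Agent.Lib.PSLSpectrum.Spectrum
import Cfsg.Agent.Lib.Burnside.Paqb
import Cfsg.Agent.S0508

/-!
# Minimal non-CA groups: the dihedral case, inverted core

If every element of the odd part `O` of `C(t)` fixed by an element of `S \ A` is central, the central
quotient satisfies the hypotheses of the Brauer-Suzuki-Wall theorem.
-/

set_option autoImplicit false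
set_option linter.unusedSectionVars false
set_option linter.style.haveILetI false

namespace Cfsg.Agent.Lib.MinNonCA34.EvenDihedralAux

open Subgroup

universe u

variable {G : Type u} [Group G] [Finite G]
  {S : Sylow 2 G} {A : Subgroup G} {r t σ : G} (c : Ctx S A r t σ)
include c

/-- The image of `S` in any quotient in which the kernel meets it in the centre is dihedral. -/
theorem Ctx.image_dihedral {K M : Type*} [Group K] [Group M] [Finite M] (i : K →* G) (f : K →* M)
    (hS : (S : Subgroup G) ≤ i.range)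
    (hf : ∀ x : K, i x ∈ (S : Subgroup G) → (f x = 1 ↔ i x ∈ center G)) :
    ∃ n : ℕ, 2 ≤ n ∧ Nonempty (((S : Subgroup G).comap i).map f ≃* DihedralGroup n) := by
  obtain ⟨rK, hr⟩ := hS (c.le c.r_mem)
  obtain ⟨sK, hs⟩ := hS c.s_mem
  have hrS : i rK ∈ (S : Subgroup G) := hr ▸ c.le c.r_mem
  have hsS : i sK ∈ (S : Subgroup G) := hs ▸ c.s_mem
  have hpow : ∀ x : K, i x ∈ A → ∃ j : ℕ, f x = f rK ^ j := by
    intro x hx
    obtain ⟨j, hj⟩ := c.gen (i x) hx
    refine ⟨j, ?_⟩
    have h1 : f (x⁻¹ * rK ^ j) = 1 := (hf _ (by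
      rw [map_mul, map_inv, map_pow]
      exact mul_mem (inv_mem (c.le hx)) (pow_mem hrS j))).2 (by
      rw [map_mul, map_inv, map_pow, hr]; exact hj)
    rw [map_mul, map_inv, map_pow, inv_mul_eq_one] at h1
    exact h1
  refine ⟨orderOf (f rK), ?_, TwoGroup.nonempty_mulEquiv_dihedral (a := f rK) (b := f sK) rfl
    ?_ ?_ ?_ _ (mem_map_of_mem _ hrS) (mem_map_of_mem _ hsS) ?_⟩
  · have h1 : f rK ≠ 1 := fun e => c.r_nc (hr ▸ (hf _ hrS).1 e)
    have h2 : orderOf (f rK) ≠ 1 := fun e => h1 (orderOf_eq_one_iff.1 e)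
    have h3 := orderOf_pos (f rK)
    omega
  · rw [← map_mul]
    refine (hf _ (by rw [map_mul]; exact mul_mem hsS hsS)).2 ?_
    rw [map_mul, hs]; exact c.sq σ c.s_mem c.s_nA
  · rw [eq_inv_iff_mul_eq_one, ← map_mul, ← map_inv, ← map_mul, ← map_mul]
    refine (hf _ (by simp only [map_mul, map_inv]
                     exact mul_mem (mul_mem (mul_mem hsS hrS) (inv_mem hsS)) hrS)).2 ?_
    simp only [map_mul, map_inv, hs, hr]
    exact c.inv σ c.s_mem c.s_nA r c.r_mem
  · intro hmem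
    rw [← mem_powers_iff_mem_zpowers, Submonoid.mem_powers_iff] at hmem
    obtain ⟨j, hj⟩ := hmem
    rw [← map_pow] at hj
    have hS' : i (sK⁻¹ * rK ^ j) ∈ (S : Subgroup G) := by
      rw [map_mul, map_inv, map_pow]; exact mul_mem (inv_mem hsS) (pow_mem hrS j)
    have h1 : f (sK⁻¹ * rK ^ j) = 1 := by rw [map_mul, map_inv, hj, inv_mul_cancel]
    have h2 := c.interCenter (Subgroup.mem_inf.2 ⟨hS', (hf _ hS').1 h1⟩)
    rw [map_mul, map_inv, map_pow, hr, hs] at h2
    exact c.s_nA (inv_mem_iff.1 (by simpa using mul_mem h2 (inv_mem (pow_mem c.r_mem j))))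
  · rintro _ ⟨x, hx, rfl⟩
    rw [← mem_powers_iff_mem_zpowers, ← mem_powers_iff_mem_zpowers, Submonoid.mem_powers_iff,
      Submonoid.mem_powers_iff]
    by_cases hxA : i x ∈ A
    · obtain ⟨j, hj⟩ := hpow x hxA
      exact Or.inl ⟨j, hj.symm⟩
    · have hm : i (sK * x) ∈ A := by
        rw [map_mul, hs]
        exact (c.mul_mem_iff c.s_mem hx).2
          ⟨fun h => absurd h c.s_nA, fun h => absurd h hxA⟩
      obtain ⟨j, hj⟩ := hpow _ hm
      exact Or.inr ⟨j, by rw [← map_mul, hj]⟩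

theorem Ctx.quot_dihedral : ∃ n : ℕ, 2 ≤ n ∧
    Nonempty ((S : Subgroup G).map (QuotientGroup.mk' (center G)) ≃* DihedralGroup n) := by
  obtain ⟨n, hn, e⟩ := c.image_dihedral (MonoidHom.id G) (QuotientGroup.mk' (center G))
    (fun x _ => ⟨x, rfl⟩) (fun x _ => QuotientGroup.eq_one_iff x)
  rw [comap_id] at e
  exact ⟨n, hn, e⟩

variable {O : Subgroup G} (hO : ∀ g : G, g ∈ O ↔ g * t = t * g ∧ Odd (orderOf g))
include hO

theorem Ctx.inverted (hA : ∀ y ∈ O, σ * y = y * σ → y ∈ center G) {y : G} (hy : y ∈ O) :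
    y * (σ * y * σ⁻¹) ∈ center G := by
  have hsy : σ * y * σ⁻¹ ∈ O := c.conj_mem_O hO (c.S_le_cmod c.s_mem) hy
  refine hA _ (mul_mem hy hsy) (mul_inv_eq_iff_eq_mul.1 ?_)
  have h2 := mem_center_iff.1 (c.sq σ c.s_mem c.s_nA)
  calc σ * (y * (σ * y * σ⁻¹)) * σ⁻¹
      = σ * y * σ⁻¹ * (σ * σ * y * (σ * σ)⁻¹) := by group
    _ = σ * y * σ⁻¹ * y := by rw [← h2 y, mul_inv_cancel_right]
    _ = y * (σ * y * σ⁻¹) := c.O_comm hO hsy ((hO y).1 hy).1

theorem Ctx.centralizer_O (hA : ∀ y ∈ O, σ * y = y * σ → y ∈ center G) {y : G} (hy : y ∈ O)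
    (hyc : y ∉ center G) (g : G) : g * y = y * g ↔ g * t = t * g := by
  constructor
  · intro hg
    by_contra hne
    have hbad : Bad y := ⟨hyc, g, t, hg, ((hO y).1 hy).1.symm, hne⟩
    have hnn : ¬ (centralizer ({y} : Set G)).Normal := fun hn =>
      hyc (c.le_center_of_normal (hN := hbad.centralizer_ne_top) (N := centralizer ({y} : Set G))
        (mem_centralizer_singleton_iff.2 rfl))
    set w := y * (σ * y * σ⁻¹) with hw
    have hwc : w ∈ center G := c.inverted hO hA hy
    have hw' := mem_center_iff.1 hwc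
    have h2 := mem_center_iff.1 (c.sq σ c.s_mem c.s_nA)
    have e : σ⁻¹ * y * σ = y⁻¹ * w := by
      rw [hw, inv_mul_cancel_left]
      calc σ⁻¹ * y * σ = σ⁻¹ * (y * (σ * σ)) * σ⁻¹ := by group
        _ = σ⁻¹ * (σ * σ * y) * σ⁻¹ := by rw [h2 y]
        _ = σ * y * σ⁻¹ := by group
    have hσN : σ ∈ normalizer ((centralizer ({y} : Set G) : Subgroup G) : Set G) := by
      rw [mem_normalizer_iff]
      intro x
      rw [mem_centralizer_singleton_iff, mem_centralizer_singleton_iff]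
      constructor
      · intro hx
        have h1 : Commute x (σ⁻¹ * y * σ) := by
          rw [e]; exact (show Commute x y from hx).inv_right.mul_right (hw' x)
        calc σ * x * σ⁻¹ * y = σ * (x * (σ⁻¹ * y * σ)) * σ⁻¹ := by group
          _ = σ * (σ⁻¹ * y * σ * x) * σ⁻¹ := by rw [h1.eq]
          _ = y * (σ * x * σ⁻¹) := by group
      · intro hx
        have h1 : Commute x (σ⁻¹ * y * σ) := by
          calc x * (σ⁻¹ * y * σ) = σ⁻¹ * (σ * x * σ⁻¹ * y) * σ := by group
            _ = σ⁻¹ * (y * (σ * x * σ⁻¹)) * σ := by rw [hx]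
            _ = σ⁻¹ * y * σ * x := by group
        have h2 : Commute x (y⁻¹ * w * w⁻¹) := by
          refine (e ▸ h1).mul_right ?_
          exact (show Commute x w from hw' x).inv_right
        rw [mul_inv_cancel_right] at h2
        exact (Commute.inv_right_iff.1 h2).eq
    rw [c.qs.toHyp.normalizer_centralizer hbad hnn, mem_centralizer_singleton_iff] at hσN
    exact hyc (hA y hy hσN)
  · intro hg
    exact (c.O_comm hO hy hg).symm

/-- The inverted case. -/
theorem Ctx.psl_of_inverted (hA : ∀ y ∈ O, σ * y = y * σ → y ∈ center G) :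
    PSLQuot G (fun q => 4 ≤ q) := by
  classical
  haveI := c.qs.simple
  haveI : Fact (Nat.Prime 2) := ⟨Nat.prime_two⟩
  set π : G →* G ⧸ center G := QuotientGroup.mk' (center G) with hπ
  let T : Sylow 2 (G ⧸ center G) := S.mapSurjective (QuotientGroup.mk'_surjective (center G))
  have hT : (T : Subgroup (G ⧸ center G)) = (S : Subgroup G).map π := rfl
  obtain ⟨n, hn, ⟨e⟩⟩ := c.quot_dihedral
  set C : Subgroup (G ⧸ center G) := centralizer ({(t : G ⧸ center G)} : Set (G ⧸ center G))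
    with hC
  have hCmap : (cmod t).map π = C := map_cmod t
  have hOC : O.map π ≤ C := by
    rintro _ ⟨x, hx, rfl⟩
    rw [← hCmap]
    refine mem_map_of_mem _ (mem_cmod.2 ?_)
    rw [((hO x).1 hx).1, mul_inv_cancel_right, mul_inv_cancel]
    exact one_mem _
  have hOodd : Odd (Nat.card (O.map π)) :=
    (odd_card_O hO).of_dvd_nat (Subgroup.card_map_dvd O π)
  haveI hOn : ((O.map π).subgroupOf C).Normal := by
    refine ⟨fun x hx g => ?_⟩
    rw [mem_subgroupOf] at hx ⊢
    obtain ⟨y, hy, ey⟩ := hx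
    obtain ⟨h, hh, eh⟩ : (g : G ⧸ center G) ∈ (cmod t).map π := by rw [hCmap]; exact g.2
    refine ⟨h * y * h⁻¹, c.conj_mem_O hO hh hy, ?_⟩
    rw [Subgroup.coe_mul, Subgroup.coe_mul, Subgroup.coe_inv, ← eh, ← ey, map_mul, map_mul, map_inv]
  have hle : O.map π ≤ (Cfsg.oddCore C).map C.subtype := by
    have h1 : (O.map π).subgroupOf C ≤ Cfsg.oddCore C := by
      refine PSolvable.le_pPrimeCore ?_
      rw [Nat.card_congr (subgroupOfEquivOfLe hOC).toEquiv]
      exact Nat.coprime_two_right.2 hOodd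
    have h2 := map_mono (f := C.subtype) h1
    rwa [map_subgroupOf_eq_of_le hOC] at h2
  have hge : (Cfsg.oddCore C).map C.subtype ≤ O.map π := by
    intro x hx
    have hxC : x ∈ C := map_subtype_le _ hx
    rw [← hCmap] at hxC
    obtain ⟨g, hg, rfl⟩ := hxC
    obtain ⟨o, ho, s, hs, rfl⟩ := c.cmod_decomp hO hg
    have hm : π s ∈ (Cfsg.oddCore C).map C.subtype := by
      have := mul_mem (inv_mem (hle (mem_map_of_mem π ho))) hx
      rwa [map_mul, inv_mul_cancel_left] at this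
    have hodd : Odd (orderOf (π s)) := by
      refine (Nat.coprime_two_right.1 (PSolvable.pPrimeCore_coprime (p := 2) (G := C))).of_dvd_nat ?_
      rw [Nat.card_congr ((Cfsg.oddCore C).equivMapOfInjective C.subtype C.subtype_injective).toEquiv]
      exact Subgroup.orderOf_dvd_natCard _ hm
    obtain ⟨k, hk⟩ := twoPow hs
    have h1 : orderOf (π s) = 1 := by
      have hd : orderOf (π s) ∣ 2 ^ k := hk ▸ orderOf_map_dvd π s
      obtain ⟨i, -, hi⟩ := (Nat.dvd_prime_pow Nat.prime_two).1 hd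
      rcases Nat.eq_zero_or_pos i with rfl | hi0
      · simpa using hi
      · rw [hi] at hodd
        exact absurd hodd (Nat.not_odd_iff_even.2 (Nat.even_pow.2 ⟨even_two, hi0.ne'⟩))
    rw [map_mul, orderOf_eq_one_iff.1 h1, mul_one]
    exact mem_map_of_mem π ho
  have hinv : ∀ s ∈ (S : Subgroup G), s ∉ A → ∀ y ∈ O, π s * π y * (π s)⁻¹ = (π y)⁻¹ := by
    intro s hs hsA y hy
    rw [eq_inv_iff_mul_eq_one, ← map_inv, ← map_mul, ← map_mul, ← map_mul,
      QuotientGroup.mk'_apply, QuotientGroup.eq_one_iff]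
    have hm : σ⁻¹ * s ∈ A := c.coset hs hsA
    have e1 : (σ⁻¹ * s) * y * (σ⁻¹ * s)⁻¹ = y := by
      rw [← c.A_comm hO hy hm, mul_inv_cancel_right]
    have e2 : s * y * s⁻¹ = σ * y * σ⁻¹ := by
      calc s * y * s⁻¹ = σ * ((σ⁻¹ * s) * y * (σ⁻¹ * s)⁻¹) * σ⁻¹ := by group
        _ = _ := by rw [e1]
    rw [e2, c.O_comm hO (c.conj_mem_O hO (c.S_le_cmod c.s_mem) hy) ((hO y).1 hy).1]
    exact c.inverted hO hA hy
  have hcentA : ∀ s ∈ A, π s ∈ centralizer ((O.map π : Subgroup (G ⧸ center G)) : Set (G ⧸ center G)) := by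
    intro s hs
    rw [mem_centralizer_iff]
    rintro _ ⟨y, hy, rfl⟩
    rw [← map_mul, ← map_mul, c.A_comm hO hy hs]
  have hcentS : O.map π ≠ ⊥ → ∀ s ∈ (S : Subgroup G), s ∉ A →
      π s ∉ centralizer ((O.map π : Subgroup (G ⧸ center G)) : Set (G ⧸ center G)) := by
    intro hne s hs hsA hmem
    refine hne ((eq_bot_iff).2 ?_)
    rintro _ ⟨y, hy, rfl⟩
    rw [mem_bot]
    have h1 := hinv s hs hsA y hy
    rw [← mem_centralizer_iff.1 hmem (π y) (mem_map_of_mem π hy), mul_inv_cancel_right,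
      eq_inv_iff_mul_eq_one, ← pow_two] at h1
    have h2 : orderOf (π y) ∣ Nat.gcd 2 (orderOf y) :=
      Nat.dvd_gcd (orderOf_dvd_of_pow_eq_one h1) (orderOf_map_dvd π y)
    rw [Nat.Coprime.gcd_eq_one (Nat.coprime_two_left.2 ((hO y).1 hy).2), Nat.dvd_one] at h2
    exact orderOf_eq_one_iff.1 h2
  have hAn : A.map π ≤ (T : Subgroup (G ⧸ center G)) := hT ▸ map_mono c.le
  have key : ∀ s ∈ (S : Subgroup G), π s ∈ A.map π → s ∈ A := by
    rintro s hs ⟨x, hx, ex⟩
    have hz : x⁻¹ * s ∈ center G := QuotientGroup.eq.1 ex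
    have := c.interCenter (Subgroup.mem_inf.2 ⟨mul_mem (inv_mem (c.le hx)) hs, hz⟩)
    simpa using mul_mem hx this
  obtain ⟨F, iF, iFt, hodd, ⟨φ⟩⟩ := Cfsg.Agent.S0508.result T n hn ⟨e⟩ (t : G ⧸ center G) c.t_mk
    (mem_map_of_mem π (c.le c.t_mem))
    (by
      intro x hx
      rw [hT] at hx
      obtain ⟨s, hs, rfl⟩ := hx
      have := mem_cmod.1 (c.S_le_cmod hs)
      rw [← QuotientGroup.eq_one_iff] at this
      rw [QuotientGroup.mk_mul, QuotientGroup.mk_mul, QuotientGroup.mk_mul, QuotientGroup.mk_inv,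
        QuotientGroup.mk_inv, mul_inv_eq_one, mul_inv_eq_iff_eq_mul] at this
      exact this)
    (O.map π) (le_antisymm hle hge)
    (by
      intro hne
      have hI : (T : Subgroup (G ⧸ center G)) ⊓
          centralizer ((O.map π : Subgroup (G ⧸ center G)) : Set (G ⧸ center G)) = A.map π := by
        refine le_antisymm ?_ (le_inf hAn ?_)
        · rintro x ⟨hx, hx'⟩
          obtain ⟨s, hs, rfl⟩ := (hT ▸ hx : x ∈ (S : Subgroup G).map π)
          by_contra hsA
          exact hcentS hne s hs (fun h => hsA (mem_map_of_mem π h)) hx'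
        · rintro _ ⟨s, hs, rfl⟩
          exact hcentA s hs
      rw [hI, hT]
      refine ⟨?_, ?_⟩
      · have hz : A.map π = zpowers (π r) := by
          refine le_antisymm ?_ (zpowers_le.2 (mem_map_of_mem π c.r_mem))
          rintro _ ⟨x, hx, rfl⟩
          obtain ⟨j, hj⟩ := c.gen x hx
          rw [show π x = π r ^ j by rw [← map_pow]; exact mk_eq hj]
          exact pow_mem (mem_zpowers _) j
        rw [hz]; infer_instance
      · rw [relIndex, index_eq_two_iff]
        refine ⟨⟨π σ, mem_map_of_mem _ c.s_mem⟩, ?_⟩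
        rintro ⟨y, s, hs, rfl⟩
        simp only [mem_subgroupOf, Subgroup.coe_mul, ← map_mul]
        by_cases hsA : s ∈ A
        · exact Or.inr ⟨mem_map_of_mem _ hsA, fun h =>
            c.s_nA (((c.mul_mem_iff hs c.s_mem).1 (key _ (mul_mem hs c.s_mem) h)).1 hsA)⟩
        · refine Or.inl ⟨mem_map_of_mem _ ((c.mul_mem_iff hs c.s_mem).2
            ⟨fun h => absurd h hsA, fun h => absurd h c.s_nA⟩), fun h => hsA (key _ hs h)⟩)
    (by
      intro x hx hx' y hy
      obtain ⟨s, hs, rfl⟩ := (hT ▸ hx : x ∈ (S : Subgroup G).map π)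
      obtain ⟨y, hy, rfl⟩ := hy
      exact hinv s hs (fun h => hx' (hcentA s h)) y hy)
    (by
      intro Y hY hYne x hx
      obtain ⟨y0, hy0, hy1⟩ : ∃ y ∈ Y, y ≠ 1 := by
        by_contra hcon
        push Not at hcon
        exact hYne ((eq_bot_iff).2 fun y hy => mem_bot.2 (hcon y hy))
      obtain ⟨y, hy, rfl⟩ := hY hy0
      have hyc : y ∉ center G := fun h => hy1 ((QuotientGroup.eq_one_iff y).2 h)
      obtain ⟨g, rfl⟩ := QuotientGroup.mk'_surjective (center G) x
      have h1 : π g * π y * (π g)⁻¹ ∈ O.map π := hY ((mem_normalizer_iff.1 hx _).1 hy0)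
      obtain ⟨y', hy', ey'⟩ := h1
      have hz : y'⁻¹ * (g * y * g⁻¹) ∈ center G := by
        rw [← QuotientGroup.eq]
        rw [← map_inv, ← map_mul, ← map_mul] at ey'
        exact ey'
      have hy'c : y' ∉ center G := fun h => hyc <| by
        have h2 : g * y * g⁻¹ ∈ center G := by simpa using mul_mem h hz
        simpa [mul_assoc] using Subgroup.Normal.conj_mem inferInstance _ h2 g⁻¹
      -- `g t g⁻¹` centralises `g y g⁻¹`, hence `y'`, hence `t`
      have hc1 : Commute (g * t * g⁻¹) (g * y * g⁻¹) := by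
        calc g * t * g⁻¹ * (g * y * g⁻¹) = g * (t * y) * g⁻¹ := by group
          _ = g * (y * t) * g⁻¹ := by rw [((hO y).1 hy).1]
          _ = _ := by group
      have hc2 : Commute (g * t * g⁻¹) y' := by
        have h3 : Commute (g * t * g⁻¹) (y'⁻¹ * (g * y * g⁻¹))⁻¹ :=
          (show Commute (g * t * g⁻¹) (y'⁻¹ * (g * y * g⁻¹)) from mem_center_iff.1 hz _).inv_right
        have h4 := hc1.mul_right h3
        rwa [show g * y * g⁻¹ * (y'⁻¹ * (g * y * g⁻¹))⁻¹ = y' by group] at h4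
      have hc3 := (c.centralizer_O hO hA hy' hy'c _).1 hc2.eq
      obtain ⟨k, hk⟩ := twoPow (c.le c.t_mem)
      have hA' : g * t * g⁻¹ ∈ A := c.mem_A_of_two hc3
        ⟨k, by rw [show g * t * g⁻¹ = MulAut.conj g t from rfl, MulEquiv.orderOf_eq, hk]⟩
      have hsq : g * t * g⁻¹ * (g * t * g⁻¹) ∈ center G := by
        rw [show g * t * g⁻¹ * (g * t * g⁻¹) = g * (t * t) * g⁻¹ by group]
        exact Subgroup.Normal.conj_mem inferInstance _ c.t_sq g
      rcases c.t_uniq _ hA' hsq with h | h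
      · exfalso
        exact c.t_nc (by simpa [mul_assoc] using Subgroup.Normal.conj_mem inferInstance _ h g⁻¹)
      · change π g ∈ C
        rw [← hCmap]
        refine mem_map_of_mem _ (mem_cmod.2 ?_)
        have := Subgroup.Normal.conj_mem inferInstance _ h t
        rwa [show t * (t⁻¹ * (g * t * g⁻¹)) * t⁻¹ = g * t * g⁻¹ * t⁻¹ by group] at this)
  refine ⟨F, iF, iFt, ?_, ⟨φ⟩⟩
  have h1 : 1 < Fintype.card F := Fintype.one_lt_card
  obtain ⟨j, hj⟩ := hodd
  by_contra hlt
  have h3 : Fintype.card F = 3 := by omega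
  haveI hsol : Group.IsSolvable (G ⧸ center G) := by
    refine Burnside.isSolvable_of_card_eq_prime_pow_mul (p := 2) (q := 3) (a := 2) (b := 1)
      Nat.prime_two Nat.prime_three ?_
    have hcard := PSLSpectrum.card_psl_odd (F := F) ⟨j, hj⟩
    rw [h3] at hcard
    have hcc := Nat.card_congr φ.toEquiv
    change 2 * Nat.card (Matrix.ProjectiveSpecialLinearGroup (Fin 2) F) = _ at hcard
    omega
  exact quot_not_comm c.qs
    (IsSimpleGroup.comm_iff_isSolvable.2 hsol)

end Cfsg.Agent.Lib.MinNonCA34.EvenDihedralAux
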