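import Mathlib
import Cfsg.Prelude.Def_Involutions
import Cfsg.Agent.Lib.MinNonCA34.EvenDihedralInvert
import Cfsg.Agent.S0223

/-!
# Minimal non-CA groups: the dihedral case, the strongly embedded subgroup

If a noncentral element `k` of odd order centralises `S`, the image of `C(k)` is strongly embedded in
the central quotient and the central quotient of `C(k)` has one class of involutions.
-/

set_option autoImplicit false
set_option linter.unusedSectionVars false
set_option linter.style.haveILetI false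

namespace Cfsg.Agent.Lib.MinNonCA34.EvenDihedralAux

open Subgroup

universe u

variable {G : Type u} [Group G] [Finite G]

/-- A noncentral element of odd order centralising `S`. -/
structure Fixed (S : Sylow 2 G) (k : G) : Prop where
  nc : k ∉ center G
  odd : Odd (orderOf k)
  comm : ∀ s ∈ (S : Subgroup G), s * k = k * s

/-- The centraliser of `k`. -/
abbrev cent (k : G) : Subgroup G := centralizer ({k} : Set G)

/-- Its central quotient. -/
abbrev Quo (k : G) : Type u := cent k ⧸ center (cent k)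

/-- The map to the central quotient. -/
abbrev rho (k : G) : cent k →* Quo k := QuotientGroup.mk' (center (cent k))

theorem eq_one_of_coprime {M : Type*} [Monoid M] {x : M} {a b : ℕ} (ha : orderOf x ∣ a)
    (hb : orderOf x ∣ b) (h : a.Coprime b) : x = 1 := by
  rw [← orderOf_eq_one_iff, ← Nat.dvd_one, ← h.gcd_eq_one]
  exact Nat.dvd_gcd ha hb

variable {S : Sylow 2 G} {A : Subgroup G} {r t σ : G} (c : Ctx S A r t σ)
  {k : G} (f : Fixed S k)

theorem Fixed.S_le {S : Sylow 2 G} {k : G} (f : Fixed S k) : (S : Subgroup G) ≤ cent k :=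
  fun s hs => mem_centralizer_singleton_iff.2 (f.comm s hs)

include c f

theorem Fixed.bad : Bad k := by
  obtain ⟨a, ha⟩ := not_forall.1 c.nab
  obtain ⟨haS, ha⟩ := Classical.not_imp.1 ha
  obtain ⟨b, hb⟩ := not_forall.1 ha
  obtain ⟨hbS, hab⟩ := Classical.not_imp.1 hb
  exact ⟨f.nc, a, b, f.comm a haS, f.comm b hbS, hab⟩

theorem Fixed.le_cent {H : Subgroup G} (hH : H ≠ ⊤) (hk : k ∈ H) {a b : G}
    (ha : a ∈ (S : Subgroup G)) (hb : b ∈ (S : Subgroup G)) (haH : a ∈ H) (hbH : b ∈ H)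
    (hab : a * b ≠ b * a) : H ≤ cent k :=
  c.qs.toHyp.le_centralizer_of_nonabelian hH hk haH hbH (f.comm a ha) (f.comm b hb) hab

theorem Fixed.cmod_le {s : G} (hs : s ∈ (S : Subgroup G)) (hsc : s ∉ center G)
    (hs2 : s * s ∈ center G) : cmod s ≤ cent k := by
  have hne := cmod_ne_top c.qs hsc
  have hk : k ∈ cmod s := by
    rw [mem_cmod, ← f.comm s hs, mul_inv_cancel_right, mul_inv_cancel]
    exact one_mem _
  have hss : s ∈ cmod s := by
    rw [mem_cmod, mul_inv_cancel_right, mul_inv_cancel]; exact one_mem _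
  by_cases hsA : s ∈ A
  · have hσ : σ ∈ cmod s := by
      rw [mem_cmod]
      have e : σ * s * σ⁻¹ * s⁻¹ = σ * s * σ⁻¹ * s * (s * s)⁻¹ := by group
      rw [e]
      exact mul_mem (c.inv σ c.s_mem c.s_nA s hsA) (inv_mem hs2)
    exact f.le_cent c hne hk c.s_mem hs hσ hss fun h =>
      c.s_nA (c.mem_A_of_comm c.s_mem hsA hsc h)
  · have ht : t ∈ cmod s := by
      rw [mem_cmod]
      have e1 := c.inv s hs hsA t c.t_mem
      have e2 : s * t * s⁻¹ * t⁻¹ = s * t * s⁻¹ * t * (t * t)⁻¹ := by group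
      have e3 : t * s * t⁻¹ * s⁻¹ = (s * t * s⁻¹ * t⁻¹)⁻¹ := by group
      rw [e3, e2]
      exact inv_mem (mul_mem e1 (inv_mem c.t_sq))
    exact f.le_cent c hne hk hs (c.le c.t_mem) hss ht fun h =>
      hsA (c.mem_A_of_comm hs c.t_mem c.t_nc h)

theorem Fixed.normalizer_le : normalizer ((S : Subgroup G) : Set G) ≤ cent k := by
  have hne : normalizer ((S : Subgroup G) : Set G) ≠ ⊤ := fun e => c.nab fun x hx y hy => by
    haveI : (S : Subgroup G).Normal := normalizer_eq_top_iff.1 e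
    have hle := c.le_center_of_normal (S : Subgroup G)
      (SylowTwoAux.pgroup_ne_top c.qs S.isPGroup')
    exact (mem_center_iff.1 (hle hy) x)
  have hk : k ∈ normalizer ((S : Subgroup G) : Set G) := by
    rw [mem_normalizer_iff]
    intro s
    refine ⟨fun hs => ?_, fun hs => ?_⟩
    · rwa [← f.comm s hs, mul_inv_cancel_right]
    · have h := f.comm _ hs
      rw [show k * s * k⁻¹ * k = k * s by group] at h
      rwa [mul_left_cancel h.symm] at hs
  exact f.le_cent c hne hk c.s_mem (c.le c.t_mem) (le_normalizer c.s_mem)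
    (le_normalizer (c.le c.t_mem)) fun h => c.s_nA (c.mem_A_of_comm c.s_mem c.t_mem c.t_nc h)

theorem Fixed.t_le : cmod t ≤ cent k := f.cmod_le c (c.le c.t_mem) c.t_nc c.t_sq

omit c f in
theorem mem_of_map_cent {k g : G}
    (h : QuotientGroup.mk' (center G) g ∈ (cent k).map (QuotientGroup.mk' (center G))) :
    g ∈ cent k := by
  obtain ⟨x, hx, e⟩ := h
  have h1 : x⁻¹ * g ∈ cent k := center_le_centralizer _ (QuotientGroup.eq.1 e)
  simpa using mul_mem hx h1

/-- The image of an involution of the image of `C(k)` is fused to that of `t` inside it. -/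
theorem Fixed.conj_t {u : G ⧸ center G}
    (hu : u ∈ (cent k).map (QuotientGroup.mk' (center G))) (ho : orderOf u = 2) :
    ∃ a ∈ cent k, (a : G ⧸ center G) * u * (a : G ⧸ center G)⁻¹ = t := by
  haveI : Fact (Nat.Prime 2) := ⟨Nat.prime_two⟩
  obtain ⟨g, hg, rfl⟩ := hu
  obtain ⟨x, y, hxy, -, ⟨j, hj⟩, hy, hx, hy'⟩ := ClassSize.exists_pParts (p := 2) g
  set π := QuotientGroup.mk' (center G) with hπ
  have hy1 : π y = 1 := by
    refine eq_one_of_coprime (orderOf_map_dvd π y) ?_ hy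
    obtain ⟨i, hi⟩ := hy'
    rw [← hi, map_zpow, ← ho]
    exact orderOf_dvd_of_mem_zpowers ⟨i, rfl⟩
  have hux : π g = π x := by rw [hxy, map_mul, hy1, mul_one]
  have hxK : x ∈ cent k := zpowers_le.2 hg hx
  obtain ⟨e, he, hes⟩ := exists_conj_mem S f.S_le hxK ⟨j, hj⟩
  set s := e * x * e⁻¹ with hs
  have hso : orderOf (π s) = 2 := by
    rw [hs, map_mul, map_mul, map_inv, ← hux,
      show π e * π g * (π e)⁻¹ = MulAut.conj (π e) (π g) from rfl, MulEquiv.orderOf_eq, ho]
  have hsc : s ∉ center G := fun h => by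
    rw [show π s = 1 from (QuotientGroup.eq_one_iff s).2 h, orderOf_one] at hso
    exact absurd hso (by norm_num)
  have hs2 : s * s ∈ center G := by
    refine (QuotientGroup.eq_one_iff _).1 ?_
    change π (s * s) = 1
    rw [map_mul, ← pow_two, ← hso, pow_orderOf_eq_one]
  obtain ⟨a, ha⟩ := c.involution_conj (π s) hso
  obtain ⟨h, rfl⟩ := QuotientGroup.mk'_surjective (center G) a
  have hsk : ∀ v ∈ (S : Subgroup G), h⁻¹ * v * h ∈ cent k := by
    intro v hv
    refine f.cmod_le c hes hsc hs2 ?_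
    rw [cmod, mem_comap, mem_centralizer_singleton_iff]
    have h1 := c.S_le_cmod hv
    rw [cmod, mem_comap, mem_centralizer_singleton_iff] at h1
    change π v * (t : G ⧸ center G) = t * π v at h1
    change π (h⁻¹ * v * h) * π s = π s * π (h⁻¹ * v * h)
    rw [← ha] at h1
    rw [map_mul, map_mul, map_inv]
    calc (π h)⁻¹ * π v * π h * π s = (π h)⁻¹ * (π v * (π h * π s * (π h)⁻¹)) * π h := by group
      _ = (π h)⁻¹ * (π h * π s * (π h)⁻¹ * π v) * π h := by rw [h1]
      _ = π s * ((π h)⁻¹ * π v * π h) := by group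
  have hle : ((h⁻¹ • S : Sylow 2 G) : Subgroup G) ≤ cent k := by
    intro v hv
    rw [Sylow.coe_subgroup_smul, mem_pointwise_smul_iff_inv_smul_mem] at hv
    have := hsk _ hv
    simpa [MulAut.smul_def, mul_assoc] using this
  obtain ⟨b, hb⟩ := MulAction.exists_smul_eq (cent k) ((h⁻¹ • S).subtype hle) (S.subtype f.S_le)
  rw [Sylow.smul_subtype] at hb
  have hb' : (b : G) • (h⁻¹ • S) = S := Sylow.subtype_injective hb
  rw [smul_smul, Sylow.smul_eq_iff_mem_normalizer] at hb'
  have hh : h ∈ cent k := by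
    have := mul_mem (inv_mem (f.normalizer_le c hb')) b.2
    simpa using this
  refine ⟨h * e, mul_mem hh he, ?_⟩
  rw [← ha]
  change π (h * e) * π g * (π (h * e))⁻¹ = π h * π s * (π h)⁻¹
  rw [hs, map_mul, map_mul, map_mul, map_inv, ← hux]
  group

theorem Fixed.stronglyEmbedded :
    Cfsg.IsStronglyEmbedded ((cent k).map (QuotientGroup.mk' (center G))) := by
  haveI : Fact (Nat.Prime 2) := ⟨Nat.prime_two⟩
  set π := QuotientGroup.mk' (center G) with hπ
  have htm : π t ∈ (cent k).map π := mem_map_of_mem _ (f.S_le (c.le c.t_mem))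
  have hne : (cent k).map π ≠ ⊤ := fun e => (f.bad c).centralizer_ne_top (eq_top_iff.2 fun g _ =>
    mem_of_map_cent (k := k) (e ▸ mem_top _))
  have heven : Even (Nat.card ((cent k).map π)) := by
    rw [even_iff_two_dvd, ← c.t_mk]
    exact Subgroup.orderOf_dvd_natCard _ htm
  rw [Cfsg.Agent.S0223.result _ hne heven]
  refine ⟨fun u hu ho x hx => ?_, fun u hu v hv hou hov _ => ?_⟩
  · obtain ⟨a, ha, e⟩ := f.conj_t c hu ho
    rw [mem_centralizer_singleton_iff] at hx
    have h1 : π a * x * (π a)⁻¹ ∈ centralizer ({(t : G ⧸ center G)} : Set (G ⧸ center G)) := by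
      rw [mem_centralizer_singleton_iff, ← e]
      change π a * x * (π a)⁻¹ * (π a * u * (π a)⁻¹) = π a * u * (π a)⁻¹ * (π a * x * (π a)⁻¹)
      calc π a * x * (π a)⁻¹ * (π a * u * (π a)⁻¹) = π a * (x * u) * (π a)⁻¹ := by group
        _ = π a * (u * x) * (π a)⁻¹ := by rw [hx]
        _ = _ := by group
    rw [← map_cmod] at h1
    have h2 := map_mono (f := π) (f.t_le c) h1
    have h3 := mul_mem (mul_mem (inv_mem (mem_map_of_mem π ha)) h2) (mem_map_of_mem π ha)
    simpa [mul_assoc] using h3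
  · obtain ⟨a, ha, ea⟩ := f.conj_t c hu hou
    obtain ⟨b, hb, eb⟩ := f.conj_t c hv hov
    refine ⟨(π b)⁻¹ * π a, mul_mem (inv_mem (mem_map_of_mem π hb)) (mem_map_of_mem π ha), ?_⟩
    change π a * u * (π a)⁻¹ = t at ea
    change π b * v * (π b)⁻¹ = t at eb
    calc (π b)⁻¹ * π a * u * ((π b)⁻¹ * π a)⁻¹
        = (π b)⁻¹ * (π a * u * (π a)⁻¹) * π b := by group
      _ = (π b)⁻¹ * (π b * v * (π b)⁻¹) * π b := by rw [ea, eb]
      _ = v := by group

theorem Fixed.rho_eq_one_iff {x : cent k} (hx : (x : G) ∈ (S : Subgroup G)) :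
    rho k x = 1 ↔ (x : G) ∈ center G := by
  rw [QuotientGroup.mk'_apply, QuotientGroup.eq_one_iff]
  constructor
  · intro h
    exact c.central_of_comm hx fun s hs =>
      congrArg Subtype.val (mem_center_iff.1 h ⟨s, f.S_le hs⟩)
  · exact fun h => mem_center_iff.2 fun y => Subtype.ext (mem_center_iff.1 h y)

omit c f in
theorem rho_congr {k : G} {a b : cent k}
    (h : QuotientGroup.mk' (center G) (a : G) = QuotientGroup.mk' (center G) (b : G)) :
    rho k a = rho k b :=
  QuotientGroup.eq.2 (mem_center_iff.2 fun y => Subtype.ext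
    (mem_center_iff.1 (QuotientGroup.eq.1 h) y))

theorem Fixed.rho_s {s : G} (hs : s ∈ (S : Subgroup G)) (hsc : s ∉ center G)
    (hs2 : s * s ∈ center G) : orderOf (rho k ⟨s, f.S_le hs⟩) = 2 := by
  haveI : Fact (Nat.Prime 2) := ⟨Nat.prime_two⟩
  refine orderOf_eq_prime ?_ fun e => hsc ((f.rho_eq_one_iff c hs).1 e)
  rw [pow_two, ← map_mul, f.rho_eq_one_iff c (mul_mem hs hs)]
  exact hs2

/-- An involution of the central quotient of `C(k)` comes from one of the central quotient of `G`. -/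
theorem Fixed.lift_invol (q : Quo k) (hq : orderOf q = 2) :
    ∃ x : cent k, rho k x = q ∧ orderOf (QuotientGroup.mk' (center G) (x : G)) = 2 := by
  haveI : Fact (Nat.Prime 2) := ⟨Nat.prime_two⟩
  obtain ⟨g, rfl⟩ := QuotientGroup.mk'_surjective (center (cent k)) q
  obtain ⟨x, y, hxy, -, ⟨j, hj⟩, hy, -, hy'⟩ := ClassSize.exists_pParts (p := 2) g
  have hy1 : rho k y = 1 := by
    refine eq_one_of_coprime (orderOf_map_dvd (rho k) y) ?_ hy
    obtain ⟨i, hi⟩ := hy'
    rw [← hi, map_zpow, ← hq]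
    exact orderOf_dvd_of_mem_zpowers ⟨i, rfl⟩
  have hgx : rho k g = rho k x := by rw [hxy, map_mul, hy1, mul_one]
  refine ⟨x, hgx.symm, ?_⟩
  obtain ⟨e, he, hes⟩ := exists_conj_mem S f.S_le x.2
    ⟨j, by rw [Subgroup.orderOf_coe, hj]⟩
  set E : cent k := ⟨e, he⟩
  have hx2 : rho k (x * x) = 1 := by
    rw [map_mul, ← hgx, ← pow_two, ← hq, pow_orderOf_eq_one]
  have hsx : rho k ((E * x * E⁻¹) * (E * x * E⁻¹)) = 1 := by
    rw [show (E * x * E⁻¹) * (E * x * E⁻¹) = E * (x * x) * E⁻¹ by group, map_mul, map_mul, hx2,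
      mul_one, map_inv, mul_inv_cancel]
  have h2 := (f.rho_eq_one_iff c (mul_mem hes hes : ((E * x * E⁻¹) * (E * x * E⁻¹) : cent k).1 ∈ _)).1 hsx
  refine orderOf_eq_prime ?_ fun e1 => ?_
  · rw [pow_two, ← map_mul, QuotientGroup.mk'_apply, QuotientGroup.eq_one_iff]
    have h3 := Subgroup.Normal.conj_mem inferInstance _ h2 e⁻¹
    have e3 : e⁻¹ * (e * (x : G) * e⁻¹ * (e * x * e⁻¹)) * e⁻¹⁻¹ = (x : G) * x := by group
    change e⁻¹ * (e * (x : G) * e⁻¹ * (e * x * e⁻¹)) * e⁻¹⁻¹ ∈ center G at h3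
    rwa [e3] at h3
  · have h1 : rho k x = 1 := by
      rw [← map_one (rho k)]; exact rho_congr (by rw [e1, Subgroup.coe_one, map_one])
    rw [show rho k g = 1 from (by rw [hxy, map_mul, hy1, h1, one_mul]), orderOf_one] at hq
    exact absurd hq (by norm_num)

theorem Fixed.invol_conj (q : Quo k) (hq : orderOf q = 2) :
    ∃ a : Quo k, a * q * a⁻¹ = rho k ⟨t, f.S_le (c.le c.t_mem)⟩ := by
  obtain ⟨x, rfl, hx⟩ := f.lift_invol c q hq
  obtain ⟨a, ha, e⟩ := f.conj_t c (mem_map_of_mem _ x.2) hx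
  refine ⟨rho k ⟨a, ha⟩, ?_⟩
  rw [← map_inv, ← map_mul, ← map_mul]
  refine rho_congr ?_
  simpa using e

/-- The image of `S` in the central quotient of `C(k)`. -/
def sylowQuo : Sylow 2 (Quo k) :=
  (S.subtype f.S_le).mapSurjective (QuotientGroup.mk'_surjective (center (cent k)))

omit c in
theorem mem_sylowQuo {q : Quo k} :
    q ∈ (sylowQuo f : Subgroup (Quo k)) ↔ ∃ x : cent k, (x : G) ∈ (S : Subgroup G) ∧ rho k x = q :=
  Iff.rfl

theorem Fixed.quo_dihedral :
    ∃ n : ℕ, 2 ≤ n ∧ Nonempty ((sylowQuo f : Subgroup (Quo k)) ≃* DihedralGroup n) :=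
  c.image_dihedral (cent k).subtype (rho k) (fun s hs => ⟨⟨s, f.S_le hs⟩, rfl⟩)
    (fun _ hx => f.rho_eq_one_iff c hx)

theorem Fixed.four_dvd : 4 ∣ Nat.card (sylowQuo f : Subgroup (Quo k)) := by
  haveI : Fact (Nat.Prime 2) := ⟨Nat.prime_two⟩
  obtain ⟨n, hn, ⟨e⟩⟩ := f.quo_dihedral c
  obtain ⟨j, hj⟩ := IsPGroup.iff_card.1 (sylowQuo f).isPGroup'
  have hc : 2 * n = 2 ^ j := by rw [← hj, Nat.card_congr e.toEquiv, DihedralGroup.nat_card]
  rw [hj]
  match j, hc with
  | 0, h => rw [pow_zero] at h; omega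
  | 1, h => rw [pow_one] at h; omega
  | j + 2, _ => exact ⟨2 ^ j, by ring⟩

/-- A normal subgroup of even order of the central quotient of `C(k)` contains the image of `S`. -/
theorem Fixed.even_normal (M : Subgroup (Quo k)) [M.Normal] (hM : Even (Nat.card M)) :
    (sylowQuo f : Subgroup (Quo k)) ≤ M := by
  haveI : Fact (Nat.Prime 2) := ⟨Nat.prime_two⟩
  obtain ⟨m, hm⟩ := exists_prime_orderOf_dvd_card' (G := M) 2 (even_iff_two_dvd.1 hM)
  rw [← Subgroup.orderOf_coe] at hm
  have htM : rho k ⟨t, f.S_le (c.le c.t_mem)⟩ ∈ M := by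
    obtain ⟨a, ha⟩ := f.invol_conj c _ hm
    rw [← ha]
    exact Subgroup.Normal.conj_mem inferInstance _ m.2 a
  have hout : ∀ (s : G) (hs : s ∈ (S : Subgroup G)), s ∉ A → rho k ⟨s, f.S_le hs⟩ ∈ M := by
    intro s hs hsA
    obtain ⟨a, ha⟩ := f.invol_conj c _ (f.rho_s c hs (c.s_nc hs hsA) (c.sq s hs hsA))
    rw [← ha] at htM
    have := Subgroup.Normal.conj_mem inferInstance _ htM a⁻¹
    simpa [mul_assoc] using this
  intro q hq
  obtain ⟨x, hx, rfl⟩ := (mem_sylowQuo f).1 hq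
  by_cases hxA : (x : G) ∈ A
  · have hm' : σ * (x : G) ∉ A := fun h => c.s_nA (((c.mul_mem_iff c.s_mem hx).1 h).2 hxA)
    have e : x = (⟨σ, f.S_le c.s_mem⟩ : cent k)⁻¹ * ⟨σ * x, f.S_le (mul_mem c.s_mem hx)⟩ :=
      Subtype.ext (by simp)
    rw [e, map_mul, map_inv]
    exact mul_mem (inv_mem (hout σ c.s_mem c.s_nA)) (hout _ (mul_mem c.s_mem hx) hm')
  · exact hout x hx hxA

theorem Fixed.no_index_two (M : Subgroup (Quo k)) [M.Normal] (hM : M.index = 2) : False := by
  haveI : Fact (Nat.Prime 2) := ⟨Nat.prime_two⟩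
  have h4 : 4 ∣ Nat.card (Quo k) := (f.four_dvd c).trans (Subgroup.card_subgroup_dvd_card _)
  rw [← M.card_mul_index, hM, show (4 : ℕ) = 2 * 2 from rfl] at h4
  have he : Even (Nat.card M) :=
    even_iff_two_dvd.2 (Nat.dvd_of_mul_dvd_mul_right (by norm_num) h4)
  refine (sylowQuo f).not_dvd_index ?_
  have := index_dvd_of_le (f.even_normal c M he)
  rwa [hM] at this

end Cfsg.Agent.Lib.MinNonCA34.EvenDihedralAux
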