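import Mathlib
import Cfsg.Agent.Lib.MinNonCA34.EvenDihedralEmbedded
import Cfsg.Agent.Lib.LinGroup.Simple
import Cfsg.Agent.Lib.Frobenius.KernelNilpotent
import Cfsg.Agent.Lib.Frobenius.Even
import Cfsg.Agent.Lib.Suzuki.Simple
import Cfsg.Agent.Lib.SuzukiSp4.Iso
import Cfsg.Agent.Lib.BrauerReynolds.Corollaries
import Cfsg.Agent.S1225
import Cfsg.Agent.S4249
import Cfsg.Agent.S0035
import Cfsg.Agent.S2202

/-!
# Minimal non-CA groups: the dihedral case, the central quotient of the strongly embedded centraliser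

The list of central quotients of nonabelian CA-groups applied to `C(k)`: only a normal Sylow
2-subgroup survives, and then all centralisers of involutions of the central quotient of `G` are
abelian.
-/

set_option autoImplicit false
set_option linter.unusedSectionVars false
set_option linter.style.haveILetI false

namespace Cfsg.Agent.Lib.MinNonCA34.EvenDihedralAux

open Subgroup

universe u

/-- A Sylow subgroup inside a nilpotent normal subgroup is normal. -/
theorem sylow_normal_of_le {Q : Type*} [Group Q] [Finite Q] {p : ℕ} [Fact p.Prime] (T : Sylow p Q)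
    (N : Subgroup Q) [N.Normal] [Group.IsNilpotent N] (h : (T : Subgroup Q) ≤ N) :
    (T : Subgroup Q).Normal := by
  rw [← normalizer_eq_top_iff, eq_top_iff]
  intro a _
  have hle : ((a • T : Sylow p Q) : Subgroup Q) ≤ N := by
    intro v hv
    rw [Sylow.coe_subgroup_smul, mem_pointwise_smul_iff_inv_smul_mem] at hv
    have h1 := Subgroup.Normal.conj_mem inferInstance _ (h hv) a
    simpa [MulAut.smul_def, mul_assoc] using h1
  haveI hn : ((T.subtype h : Sylow p N) : Subgroup N).Normal :=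
    (T.subtype h).normal_of_normalizerCondition Group.normalizerCondition_of_isNilpotent
  obtain ⟨g, hg⟩ := MulAction.exists_smul_eq N (T.subtype h) ((a • T).subtype hle)
  have hfix : g • T.subtype h = T.subtype h := by
    have h1 : normalizer (((T.subtype h : Sylow p N) : Subgroup N) : Set N) = ⊤ :=
      normalizer_eq_top_iff.2 hn
    refine Sylow.smul_eq_iff_mem_normalizer.2 ?_
    show g ∈ normalizer (((T.subtype h : Sylow p N) : Subgroup N) : Set N)
    rw [h1]
    exact mem_top g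
  exact Sylow.smul_eq_iff_mem_normalizer.1 (Sylow.subtype_injective (hg.symm.trans hfix))

variable {G : Type u} [Group G] [Finite G]
  {S : Sylow 2 G} {A : Subgroup G} {r t σ : G} (c : Ctx S A r t σ)
  {k : G} (f : Fixed S k)
include c

theorem Ctx.card_dvd : 4 ∣ Nat.card (G ⧸ center G) := by
  haveI : Fact (Nat.Prime 2) := ⟨Nat.prime_two⟩
  obtain ⟨n, hn, ⟨e⟩⟩ := c.quot_dihedral
  obtain ⟨j, hj⟩ := IsPGroup.iff_card.1 (S.isPGroup'.map (QuotientGroup.mk' (center G)))
  have hc : 2 * n = 2 ^ j := by rw [← hj, Nat.card_congr e.toEquiv, DihedralGroup.nat_card]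
  have h4 : 4 ∣ Nat.card ((S : Subgroup G).map (QuotientGroup.mk' (center G))) := by
    rw [hj]
    match j, hc with
    | 0, h => rw [pow_zero] at h; omega
    | 1, h => rw [pow_one] at h; omega
    | j + 2, _ => exact ⟨2 ^ j, by ring⟩
  exact h4.trans (Subgroup.card_subgroup_dvd_card _)

/-- All centralisers of involutions of the central quotient are abelian, so it is `PSL₂(2ⁿ)`. -/
theorem Ctx.psl_of_abelian {O : Subgroup G} (hO : ∀ g : G, g ∈ O ↔ g * t = t * g ∧ Odd (orderOf g))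
    (hS4 : ∀ x ∈ A, x ∈ center G ∨ t⁻¹ * x ∈ center G)
    (hOS : ∀ o ∈ O, σ * o = o * σ) : PSLQuot G (fun q => 4 ≤ q) := by
  classical
  haveI := c.qs.simple
  haveI : Fact (Nat.Prime 2) := ⟨Nat.prime_two⟩
  set π : G →* G ⧸ center G := QuotientGroup.mk' (center G) with hπ
  have hsq : ∀ s ∈ (S : Subgroup G), π s * π s = 1 := by
    intro s hs
    rw [← map_mul, QuotientGroup.mk'_apply, QuotientGroup.eq_one_iff]
    by_cases hsA : s ∈ A
    · rcases hS4 s hsA with h | h
      · exact mul_mem h h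
      · have e : s * s = (t⁻¹ * s) * (t⁻¹ * s) * (t * t) := by
          have h1 : t * s = s * t := c.comm t c.t_mem s hsA
          have h2 : Commute (t⁻¹ * s) t := (mem_center_iff.1 h t).symm
          calc s * s = t * (t⁻¹ * s) * (t * (t⁻¹ * s)) := by group
            _ = t * ((t⁻¹ * s) * t) * (t⁻¹ * s) := by group
            _ = t * t * ((t⁻¹ * s) * (t⁻¹ * s)) := by rw [h2.eq]; group
            _ = _ := (mem_center_iff.1 c.t_sq _).symm
        rw [e]
        exact mul_mem (mul_mem h h) c.t_sq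
    · exact c.sq s hs hsA
  have hSS : ∀ a ∈ (S : Subgroup G), ∀ b ∈ (S : Subgroup G), π a * π b = π b * π a := by
    intro a ha b hb
    have h1 := hsq _ (mul_mem ha hb)
    rw [map_mul] at h1
    have ea : (π a)⁻¹ = π a := inv_eq_of_mul_eq_one_right (hsq a ha)
    have eb : (π b)⁻¹ = π b := inv_eq_of_mul_eq_one_right (hsq b hb)
    have := eq_inv_of_mul_eq_one_left h1
    rw [mul_inv_rev, ea, eb] at this
    exact this
  have hOS' : ∀ o ∈ O, ∀ s ∈ (S : Subgroup G), o * s = s * o := by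
    intro o ho s hs
    by_cases hsA : s ∈ A
    · exact c.A_comm hO ho hsA
    · have h1 := c.A_comm hO ho (c.coset hs hsA)
      calc o * s = o * σ * (σ⁻¹ * s) := by group
        _ = σ * (o * (σ⁻¹ * s)) := by rw [← hOS o ho]; group
        _ = σ * ((σ⁻¹ * s) * o) := by rw [h1]
        _ = s * o := by group
  have hab : ∀ u : G ⧸ center G, orderOf u = 2 →
      IsMulCommutative (centralizer ({u} : Set (G ⧸ center G))) := by
    intro u hu
    obtain ⟨g, hg⟩ := c.involution_conj u hu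
    have key : ∀ x y : G ⧸ center G, x * (t : G ⧸ center G) = t * x →
        y * (t : G ⧸ center G) = t * y → x * y = y * x := by
      intro x y hx hy
      obtain ⟨a, rfl⟩ := QuotientGroup.mk'_surjective (center G) x
      obtain ⟨b, rfl⟩ := QuotientGroup.mk'_surjective (center G) y
      have ha : a ∈ cmod t := by rw [cmod, mem_comap, mem_centralizer_singleton_iff]; exact hx
      have hb : b ∈ cmod t := by rw [cmod, mem_comap, mem_centralizer_singleton_iff]; exact hy
      obtain ⟨o, ho, s, hs, rfl⟩ := c.cmod_decomp hO ha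
      obtain ⟨o', ho', s', hs', rfl⟩ := c.cmod_decomp hO hb
      change π (o * s) * π (o' * s') = π (o' * s') * π (o * s)
      rw [map_mul, map_mul]
      have e1 : Commute (π o) (π o') := by
        rw [Commute, SemiconjBy, ← map_mul, ← map_mul, c.O_comm hO ho ((hO o').1 ho').1]
      have e2 : Commute (π o) (π s') := by
        rw [Commute, SemiconjBy, ← map_mul, ← map_mul, hOS' o ho s' hs']
      have e3 : Commute (π o') (π s) := by
        rw [Commute, SemiconjBy, ← map_mul, ← map_mul, hOS' o' ho' s hs]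
      exact ((e1.mul_right e2).mul_left ((e3.symm).mul_right (hSS s hs s' hs'))).eq
    refine ⟨⟨fun x y => Subtype.ext ?_⟩⟩
    have hx := mem_centralizer_singleton_iff.1 x.2
    have hy := mem_centralizer_singleton_iff.1 y.2
    have hconj : ∀ z : G ⧸ center G, z * u = u * z →
        g * z * g⁻¹ * (t : G ⧸ center G) = t * (g * z * g⁻¹) := by
      intro z hz
      rw [← hg]
      calc g * z * g⁻¹ * (g * u * g⁻¹) = g * (z * u) * g⁻¹ := by group
        _ = g * (u * z) * g⁻¹ := by rw [hz]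
        _ = _ := by group
    have h1 := key _ _ (hconj _ hx) (hconj _ hy)
    have h2 : g * ((x : G ⧸ center G) * y) * g⁻¹ = g * ((y : G ⧸ center G) * x) * g⁻¹ := by
      calc g * ((x : G ⧸ center G) * y) * g⁻¹ = g * x * g⁻¹ * (g * y * g⁻¹) := by group
        _ = g * y * g⁻¹ * (g * x * g⁻¹) := h1
        _ = _ := by group
    exact mul_left_cancel (mul_right_cancel h2)
  have heven : Even (Nat.card (G ⧸ center G)) :=
    even_iff_two_dvd.2 ((dvd_mul_right 2 2).trans c.card_dvd)
  let T : Sylow 2 (G ⧸ center G) := S.mapSurjective (QuotientGroup.mk'_surjective (center G))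
  rcases Cfsg.Agent.S2202.result heven hab with hc | hn | ⟨F, iF, iFt, B, iB, iBf, hch, -, ⟨e⟩⟩
  · exfalso
    haveI := hc T
    have h1 : (⟨π t, mem_map_of_mem π (c.le c.t_mem)⟩ : T) = ⟨π σ, mem_map_of_mem π c.s_mem⟩ := by
      haveI : Fintype T := Fintype.ofFinite _
      have hh := IsCyclic.card_pow_eq_one_le (α := T) (n := 2) (by norm_num)
      by_contra hne
      have h3 : ({1, ⟨π t, mem_map_of_mem π (c.le c.t_mem)⟩,
          ⟨π σ, mem_map_of_mem π c.s_mem⟩} : Finset T) ⊆ Finset.univ.filter (fun a => a ^ 2 = 1) := by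
        intro a ha
        simp only [Finset.mem_insert, Finset.mem_singleton] at ha
        rw [Finset.mem_filter]
        refine ⟨Finset.mem_univ _, ?_⟩
        rcases ha with rfl | rfl | rfl
        · exact one_pow _
        · exact Subtype.ext (by rw [pow_two]; exact hsq t (c.le c.t_mem))
        · exact Subtype.ext (by rw [pow_two]; exact hsq σ c.s_mem)
      have h4 := (Finset.card_le_card h3).trans hh
      rw [Finset.card_insert_of_notMem, Finset.card_insert_of_notMem, Finset.card_singleton] at h4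
      · omega
      · simpa using hne
      · simp only [Finset.mem_insert, Finset.mem_singleton]
        rintro (h | h)
        · exact c.t_nc ((QuotientGroup.eq_one_iff t).1 (congrArg Subtype.val h).symm)
        · exact c.s_nc c.s_mem c.s_nA ((QuotientGroup.eq_one_iff σ).1 (congrArg Subtype.val h).symm)
    have h2 : σ⁻¹ * t ∈ center G := QuotientGroup.eq.1 (congrArg Subtype.val h1).symm
    have h3 := c.interCenter (Subgroup.mem_inf.2 ⟨mul_mem (inv_mem c.s_mem) (c.le c.t_mem), h2⟩)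
    exact c.s_nA (inv_mem_iff.1 (by simpa using mul_mem h3 (inv_mem c.t_mem)))
  · exfalso
    rcases (hn T).eq_bot_or_eq_top with h | h
    · have : π t ∈ (T : Subgroup (G ⧸ center G)) := mem_map_of_mem π (c.le c.t_mem)
      rw [h, mem_bot] at this
      exact c.t_nc ((QuotientGroup.eq_one_iff t).1 this)
    · haveI : Group.IsNilpotent (G ⧸ center G) :=
        (T.isPGroup'.of_equiv ((MulEquiv.subgroupCongr h).trans Subgroup.topEquiv)).isNilpotent
      exact quot_not_comm c.qs (IsSimpleGroup.comm_iff_isSolvable.2 inferInstance)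
  · let pr : G ⧸ center G →* B := (MonoidHom.snd _ _).comp e.toMonoidHom
    have hpr : Function.Surjective pr := fun b => ⟨e.symm (1, b), by simp [pr]⟩
    have hB : Subsingleton B := by
      rcases (MonoidHom.normal_ker pr).eq_bot_or_eq_top with h | h
      · refine absurd (fun a b => ?_) (quot_not_comm c.qs)
        refine (MonoidHom.ker_eq_bot_iff pr).1 h ?_
        rw [map_mul, map_mul, mul_comm]
      · refine ⟨fun a b => ?_⟩
        obtain ⟨x, rfl⟩ := hpr a
        obtain ⟨y, rfl⟩ := hpr b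
        have hx : x ∈ pr.ker := h ▸ mem_top x
        have hy : y ∈ pr.ker := h ▸ mem_top y
        rw [MonoidHom.mem_ker] at hx hy
        rw [hx, hy]
    let pf : Matrix.SpecialLinearGroup (Fin 2) F × B ≃* Matrix.SpecialLinearGroup (Fin 2) F :=
      { toFun := Prod.fst
        invFun := fun x => (x, 1)
        left_inv := fun x => Prod.ext rfl (Subsingleton.elim _ _)
        right_inv := fun _ => rfl
        map_mul' := fun _ _ => rfl }
    haveI : CharP F 2 := hch
    obtain ⟨m, -, hm⟩ := FiniteField.card F 2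
    obtain ⟨φ⟩ := BrauerReynolds.nonempty_SL_equiv_PSL hm m.pos
    have e' := (e.trans pf).trans φ
    refine ⟨F, iF, iFt, ?_, ⟨e'⟩⟩
    by_contra hlt
    have h2 : 2 ^ (m : ℕ) = 2 := by
      rcases Nat.lt_or_ge (m : ℕ) 2 with h | h
      · rw [show (m : ℕ) = 1 from by have := m.pos; omega]; rfl
      · exact absurd (hm ▸ (show 4 ≤ 2 ^ (m : ℕ) from (Nat.pow_le_pow_right (show 0 < 2 by norm_num) h : 2 ^ 2 ≤ 2 ^ (m : ℕ)))) hlt
    have hcard := c.card_dvd
    rw [Nat.card_congr e'.toEquiv] at hcard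
    have hq : Fintype.card F = 2 := hm.trans h2
    have h6 := PSLSpectrum.card_psl_even (F := F) (by rw [hq]; exact even_two)
    rw [hq] at h6
    change Nat.card (Matrix.ProjectiveSpecialLinearGroup (Fin 2) F) = _ at h6
    rw [h6] at hcard
    norm_num at hcard

include f

/-- A normal Sylow 2-subgroup in the central quotient of `C(k)`. -/
theorem Fixed.psl_of_normal {O : Subgroup G}
    (hO : ∀ g : G, g ∈ O ↔ g * t = t * g ∧ Odd (orderOf g))
    (hN : (sylowQuo f : Subgroup (Quo k)).Normal) : PSLQuot G (fun q => 4 ≤ q) := by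
  haveI : Fact (Nat.Prime 2) := ⟨Nat.prime_two⟩
  set tK : cent k := ⟨t, f.S_le (c.le c.t_mem)⟩ with htK
  set σK : cent k := ⟨σ, f.S_le c.s_mem⟩ with hσK
  have hcomm : ∀ x ∈ (sylowQuo f : Subgroup (Quo k)), Commute x (rho k σK) := by
    intro x hx
    obtain ⟨a, ha⟩ := f.invol_conj c _ (f.rho_s c c.s_mem (c.s_nc c.s_mem c.s_nA)
      (c.sq σ c.s_mem c.s_nA))
    have h1 := hN.conj_mem x hx a
    obtain ⟨s, hs, es⟩ := (mem_sylowQuo f).1 h1
    have h2 : rho k s * rho k tK = rho k tK * rho k s := by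
      rw [← map_mul, ← map_mul]
      refine rho_congr ?_
      have h3 := c.S_le_cmod hs
      rw [cmod, mem_comap, mem_centralizer_singleton_iff] at h3
      simpa using h3
    rw [es, ← ha] at h2
    calc x * rho k σK = a⁻¹ * ((a * x * a⁻¹) * (a * rho k σK * a⁻¹)) * a := by group
      _ = a⁻¹ * ((a * rho k σK * a⁻¹) * (a * x * a⁻¹)) * a := by rw [h2]
      _ = rho k σK * x := by group
  have hS4 : ∀ x ∈ A, x ∈ center G ∨ t⁻¹ * x ∈ center G := by
    intro x hx
    refine c.t_uniq x hx ?_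
    have hxS := c.le hx
    have h1 := (hcomm (rho k ⟨x, f.S_le hxS⟩) ((mem_sylowQuo f).2 ⟨_, hxS, rfl⟩)).eq
    have h2 : rho k (σK * ⟨x, f.S_le hxS⟩ * σK⁻¹ * (⟨x, f.S_le hxS⟩ : cent k)⁻¹) = 1 := by
      rw [map_mul, map_mul, map_mul, ← h1, map_inv, map_inv, mul_inv_cancel_right, mul_inv_cancel]
    have h3 := (f.rho_eq_one_iff c (mul_mem (mul_mem (mul_mem c.s_mem hxS) (inv_mem c.s_mem))
      (inv_mem hxS) : ((σK * ⟨x, f.S_le hxS⟩ * σK⁻¹ * (⟨x, f.S_le hxS⟩ : cent k)⁻¹ : cent k) : G) ∈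
        (S : Subgroup G))).1 h2
    change σ * x * σ⁻¹ * x⁻¹ ∈ center G at h3
    have h4 := c.inv σ c.s_mem c.s_nA x hx
    have e : x * x = (σ * x * σ⁻¹ * x⁻¹)⁻¹ * (σ * x * σ⁻¹ * x) := by group
    rw [e]
    exact mul_mem (inv_mem h3) h4
  refine c.psl_of_abelian hO hS4 fun o ho => ?_
  have hoK : o ∈ cent k := f.t_le c (mem_cmod.2 (by
    rw [((hO o).1 ho).1, mul_inv_cancel_right, mul_inv_cancel]; exact one_mem _))
  have hσE := c.S_le_cmod c.s_mem
  set w := σ * o * σ⁻¹ * o⁻¹ with hw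
  have hwO : w ∈ O := mul_mem (c.conj_mem_O hO hσE ho) (inv_mem ho)
  set oK : cent k := ⟨o, hoK⟩ with hoK'
  have hwQ : rho k (σK * oK * σK⁻¹ * oK⁻¹) = 1 := by
    have hmem : rho k (σK * oK * σK⁻¹ * oK⁻¹) ∈ (sylowQuo f : Subgroup (Quo k)) := by
      have hσ : rho k σK ∈ (sylowQuo f : Subgroup (Quo k)) :=
        (mem_sylowQuo f).2 ⟨σK, c.s_mem, rfl⟩
      have h1 := mul_mem hσ (hN.conj_mem _ (inv_mem hσ) (rho k oK))
      simpa [mul_assoc] using h1
    obtain ⟨j, hj⟩ := IsPGroup.iff_orderOf.1 (sylowQuo f).isPGroup' ⟨_, hmem⟩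
    rw [orderOf_mk] at hj
    refine eq_one_of_coprime (orderOf_map_dvd (rho k) _) hj.dvd (Nat.Coprime.pow_right _ ?_)
    rw [← Subgroup.orderOf_coe]
    exact Nat.coprime_two_right.2 ((hO _).1 hwO).2
  have hwS : σ * w = w * σ := by
    rw [QuotientGroup.mk'_apply, QuotientGroup.eq_one_iff] at hwQ
    exact congrArg Subtype.val (mem_center_iff.1 hwQ σK)
  have h2 := mem_center_iff.1 (c.sq σ c.s_mem c.s_nA)
  have hinv : σ * w * σ⁻¹ = w⁻¹ := by
    have hσo : σ * o * σ⁻¹ ∈ O := c.conj_mem_O hO hσE ho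
    calc σ * w * σ⁻¹ = (σ * σ * o * (σ * σ)⁻¹) * (σ * o * σ⁻¹)⁻¹ := by rw [hw]; group
      _ = o * (σ * o * σ⁻¹)⁻¹ := by rw [← h2 o, mul_inv_cancel_right]
      _ = w⁻¹ := by rw [hw]; group
  rw [hwS, mul_inv_cancel_right, eq_inv_iff_mul_eq_one, ← pow_two] at hinv
  have hw1 : w = 1 := eq_one_of_coprime (orderOf_dvd_of_pow_eq_one hinv) dvd_rfl
    (Nat.coprime_two_left.2 ((hO _).1 hwO).2)
  rw [hw, mul_inv_eq_one, mul_inv_eq_iff_eq_mul] at hw1
  exact hw1

/-- `Q ≅ S₄` or `Q ≅ PGL₂(q)`: there is a subgroup of index 2. -/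
theorem Fixed.not_symm (e : Quo k ≃* Equiv.Perm (Fin 4)) : False := by
  refine f.no_index_two c ((alternatingGroup (Fin 4)).comap e.toMonoidHom) ?_
  rw [index_comap_of_surjective _ e.surjective]
  exact alternatingGroup.index_eq_two

theorem Fixed.not_pgl {F : Type} [Field F] [Fintype F] (hF : Odd (Fintype.card F))
    (e : Quo k ≃* (GL (Fin 2) F ⧸ Subgroup.center (GL (Fin 2) F))) : False := by
  classical
  have hchar : ringChar F ≠ 2 := fun h => by
    have := (FiniteField.even_card_iff_char_two).1 h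
    exact absurd (Nat.even_iff.2 this) (Nat.not_even_iff_odd.2 hF)
  let ψ : GL (Fin 2) F →* ℤˣ :=
    (quadraticChar F).toUnitHom.comp Matrix.GeneralLinearGroup.det
  have hval : ∀ g : GL (Fin 2) F, ((ψ g : ℤˣ) : ℤ) = quadraticChar F (g.val.det) := fun g => rfl
  have hker : Subgroup.center (GL (Fin 2) F) ≤ ψ.ker := by
    intro z hz
    obtain ⟨a, ha⟩ := Matrix.GeneralLinearGroup.mem_center_iff_val_mem_range_scalar.1 hz
    rw [MonoidHom.mem_ker]
    refine Units.ext ?_
    rw [hval, ← ha, Units.val_one, Matrix.scalar_apply, Matrix.det_diagonal, Fin.prod_univ_two,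
      ← pow_two]
    refine quadraticChar_sq_one' ?_
    rintro rfl
    have h0 : z.val.det = 0 := by
      rw [← ha, Matrix.scalar_apply, Matrix.det_diagonal, Fin.prod_univ_two, mul_zero]
    exact z.det_ne_zero h0
  let φ : Quo k →* ℤˣ := (QuotientGroup.lift _ ψ hker).comp e.toMonoidHom
  have hsurj : Function.Surjective φ := by
    intro y
    rcases Int.units_eq_one_or y with rfl | rfl
    · exact ⟨1, map_one φ⟩
    · obtain ⟨a, ha⟩ := quadraticChar_exists_neg_one hchar
      have ha0 : a ≠ 0 := fun h => by rw [h, MulChar.map_zero] at ha; norm_num at ha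
      refine ⟨e.symm (QuotientGroup.mk (Matrix.GeneralLinearGroup.mkOfDetNeZero !![a, 0; 0, 1]
        (by rw [Matrix.det_fin_two_of]; simpa using ha0))), ?_⟩
      simp only [φ, MonoidHom.comp_apply, MulEquiv.coe_toMonoidHom, MulEquiv.apply_symm_apply,
        QuotientGroup.lift_mk]
      refine Units.ext ?_
      rw [hval]
      simpa [Matrix.GeneralLinearGroup.mkOfDetNeZero, Matrix.det_fin_two_of] using ha
  refine f.no_index_two c φ.ker ?_
  rw [index_ker, MonoidHom.range_eq_top.2 hsurj, card_top, Nat.card_eq_fintype_card]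
  rfl

theorem Fixed.not_suzuki (h : Cfsg.Lie.IsoSuzuki (Quo k)) : False := by
  obtain ⟨F, iF, iFt, m, hm, hF, ⟨e⟩⟩ := h
  have hyp : Suzuki.Hyp F m := ⟨hm, hF⟩
  let e' : Quo k ≃* Cfsg.Sz F m := e.trans (SuzukiSp4.szEquiv hyp).symm
  obtain ⟨n, hn, ⟨d⟩⟩ := f.quo_dihedral c
  let P : Sylow 2 (Cfsg.Sz F m) := (sylowQuo f).mapSurjective (f := e'.toMonoidHom) e'.surjective
  obtain ⟨hcard, hexp, -, -⟩ := Suzuki.sylow_two hyp P
  let d' : (P : Subgroup (Cfsg.Sz F m)) ≃* DihedralGroup n :=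
    ((sylowQuo f : Subgroup (Quo k)).equivMapOfInjective e'.toMonoidHom e'.injective).symm.trans d
  have h1 : Nat.lcm n 2 = 4 := by
    rw [← hexp, Monoid.exponent_eq_of_mulEquiv d', DihedralGroup.exponent]; rfl
  have h2 : 2 * n = (2 ^ (2 * m + 1)) ^ 2 := by
    rw [← hcard, Nat.card_congr d'.toEquiv, DihedralGroup.nat_card]
  have h3 : n ≤ 4 := Nat.le_of_dvd (by norm_num) (h1 ▸ Nat.dvd_lcm_left n 2)
  have h4 : (2 ^ 3) ^ 2 ≤ (2 ^ (2 * m + 1)) ^ 2 :=
    Nat.pow_le_pow_left (Nat.pow_le_pow_right (by norm_num) (by omega)) 2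
  norm_num at h4
  omega

/-- The Hughes case. -/
theorem Fixed.psl_of_hughes {O : Subgroup G}
    (hO : ∀ g : G, g ∈ O ↔ g * t = t * g ∧ Odd (orderOf g)) {p : ℕ} (hp : p.Prime)
    (hH : closure {g : Quo k | g ^ p ≠ 1} ≠ ⊤) : PSLQuot G (fun q => 4 ≤ q) := by
  haveI : Fact (Nat.Prime 2) := ⟨Nat.prime_two⟩
  have h4 : 4 ∣ Nat.card (Quo k) := (f.four_dvd c).trans (Subgroup.card_subgroup_dvd_card _)
  by_cases hpG : IsPGroup p (Quo k)
  · refine f.psl_of_normal c hO ?_
    haveI := Fact.mk hp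
    obtain ⟨j, hj⟩ := IsPGroup.iff_card.1 hpG
    have h2 : p = 2 := by
      have : (2 : ℕ) ∣ p ^ j := hj ▸ (dvd_mul_right 2 2).trans h4
      exact ((Nat.prime_dvd_prime_iff_eq Nat.prime_two hp).1 (Nat.prime_two.dvd_of_dvd_pow this)).symm
    subst h2
    have htop := (sylowQuo f).is_maximal' (hpG.of_equiv Subgroup.topEquiv.symm) le_top
    rw [← htop]
    infer_instance
  obtain ⟨hnil, hidx⟩ := Cfsg.Agent.S4249.result p hp hpG hH
  set M := closure {g : Quo k | g ^ p ≠ 1} with hM
  haveI : Group.IsNilpotent M := hnil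
  haveI : M.Normal := by
    refine ⟨fun x hx g => ?_⟩
    have h1 : M ≤ M.comap (MulAut.conj g).toMonoidHom := (closure_le _).2 fun y hy =>
      subset_closure (show (g * y * g⁻¹) ^ p ≠ 1 from fun e => hy (by
        rwa [conj_pow, mul_inv_eq_one, mul_eq_left] at e))
    exact h1 hx
  by_cases h2 : p = 2
  · exact (f.no_index_two c M (by rw [hidx, h2])).elim
  · refine f.psl_of_normal c hO (sylow_normal_of_le _ M (f.even_normal c M ?_))
    rw [even_iff_two_dvd]
    rw [← M.card_mul_index, hidx] at h4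
    exact (Nat.Prime.dvd_mul Nat.prime_two).1 ((dvd_mul_right 2 2).trans h4) |>.resolve_right
      fun h => h2 ((Nat.prime_dvd_prime_iff_eq Nat.prime_two hp).1 h).symm

/-- The Frobenius case. -/
theorem Fixed.psl_of_frobenius {O : Subgroup G}
    (hO : ∀ g : G, g ∈ O ↔ g * t = t * g ∧ Odd (orderOf g)) {H : Subgroup (Quo k)}
    (hH : Cfsg.IsFrobeniusComplement H) : PSLQuot G (fun q => 4 ≤ q) := by
  haveI : Fact (Nat.Prime 2) := ⟨Nat.prime_two⟩
  obtain ⟨N, hN, hNn, hc⟩ := Cfsg.Agent.S0035.result H hH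
  haveI := hNn
  haveI : Group.IsNilpotent N := Frobenius.isNilpotent_of_eq_kernel hH hN.symm
  rcases Nat.even_or_odd (Nat.card N) with he | ho
  · exact f.psl_of_normal c hO (sylow_normal_of_le _ N (f.even_normal c N he))
  exfalso
  obtain ⟨P⟩ : Nonempty (Sylow 2 H) := inferInstance
  have hP : IsPGroup 2 ((P : Subgroup H).map H.subtype) := P.isPGroup'.map _
  have hPi : ¬ 2 ∣ ((P : Subgroup H).map H.subtype).index := by
    rw [index_map_subtype, Nat.Prime.dvd_mul Nat.prime_two, hc.index_eq_card]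
    rintro (h | h)
    · exact P.not_dvd_index h
    · exact absurd (even_iff_two_dvd.2 h) (Nat.not_even_iff_odd.2 ho)
  obtain ⟨a, ha⟩ := MulAction.exists_smul_eq (Quo k) (sylowQuo f) (hP.toSylow hPi)
  have hmem : ∀ x ∈ (sylowQuo f : Subgroup (Quo k)), a * x * a⁻¹ ∈ H := by
    intro x hx
    have h1 : a * x * a⁻¹ ∈ ((a • sylowQuo f : Sylow 2 (Quo k)) : Subgroup (Quo k)) := by
      rw [Sylow.coe_subgroup_smul, mem_pointwise_smul_iff_inv_smul_mem]
      simpa [MulAut.smul_def, mul_assoc] using hx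
    rw [ha] at h1
    exact map_subtype_le _ h1
  have hord : ∀ {s : G} (hs : s ∈ (S : Subgroup G)), s ∉ center G → s * s ∈ center G →
      a * rho k ⟨s, f.S_le hs⟩ * a⁻¹ ≠ 1 ∧
        a * rho k ⟨s, f.S_le hs⟩ * a⁻¹ * (a * rho k ⟨s, f.S_le hs⟩ * a⁻¹) = 1 := by
    intro s hs hsc hs2
    have ho2 : orderOf (a * rho k ⟨s, f.S_le hs⟩ * a⁻¹) = 2 := by
      rw [show a * rho k ⟨s, f.S_le hs⟩ * a⁻¹ = MulAut.conj a (rho k ⟨s, f.S_le hs⟩) from rfl,
        MulEquiv.orderOf_eq, f.rho_s c hs hsc hs2]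
    refine ⟨fun e => ?_, ?_⟩
    · rw [e, orderOf_one] at ho2; exact absurd ho2 (by norm_num)
    · rw [← pow_two, ← ho2, pow_orderOf_eq_one]
  have h1 := hord (c.le c.t_mem) c.t_nc c.t_sq
  have h2 := hord c.s_mem (c.s_nc c.s_mem c.s_nA) (c.sq σ c.s_mem c.s_nA)
  have he := Frobenius.involution_unique hH
    (hmem _ ((mem_sylowQuo f).2 ⟨_, c.le c.t_mem, rfl⟩)) h1.1 h1.2
    (hmem _ ((mem_sylowQuo f).2 ⟨_, c.s_mem, rfl⟩)) h2.1 h2.2
  have he' := mul_left_cancel (mul_right_cancel he)
  rw [QuotientGroup.mk'_apply, QuotientGroup.mk'_apply, QuotientGroup.eq, ← QuotientGroup.eq_one_iff]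
    at he'
  have h3 := (f.rho_eq_one_iff c (x := (⟨t, f.S_le (c.le c.t_mem)⟩ : cent k)⁻¹ *
    ⟨σ, f.S_le c.s_mem⟩) (mul_mem (inv_mem (c.le c.t_mem)) c.s_mem)).1 he'
  have h4 := c.interCenter (Subgroup.mem_inf.2 ⟨mul_mem (inv_mem (c.le c.t_mem)) c.s_mem, h3⟩)
  exact c.s_nA (by simpa using mul_mem c.t_mem h4)

/-- The case `PSL₂(q)`, `q ≠ 9`: a Sylow subgroup for a prime divisor of the order of `k`. -/
theorem Fixed.not_psl_of_ne_nine (hTr : TransferBrick.{u}) (hSA : SylowAbelianBrick.{u})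
    {F : Type} [Field F] [Fintype F] (hq : 4 ≤ Fintype.card F) (h9 : Fintype.card F ≠ 9)
    (φ : Quo k ≃* Matrix.ProjectiveSpecialLinearGroup (Fin 2) F) : False := by
  haveI hsimp : IsSimpleGroup (Matrix.ProjectiveSpecialLinearGroup (Fin 2) F) :=
    LinGroup.isSimpleGroup_PSL_fin le_rfl fun _ => by rw [Nat.card_eq_fintype_card]; exact hq
  haveI : Nontrivial (Quo k) := φ.toEquiv.nontrivial
  haveI : IsSimpleGroup (Quo k) :=
    IsSimpleGroup.isSimpleGroup_of_surjective φ.symm.toMonoidHom φ.symm.surjective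
  set π : G →* G ⧸ center G := QuotientGroup.mk' (center G) with hπ
  have hk1 : orderOf (π k) ≠ 1 := fun e =>
    f.nc ((QuotientGroup.eq_one_iff k).1 (orderOf_eq_one_iff.1 e))
  set p := (orderOf (π k)).minFac with hp'
  have hp : p.Prime := Nat.minFac_prime hk1
  haveI := Fact.mk hp
  have hp2 : p ≠ 2 := fun e => by
    have h1 : 2 ∣ orderOf k := e ▸ (Nat.minFac_dvd _).trans (orderOf_map_dvd π k)
    exact absurd (even_iff_two_dvd.2 h1) (Nat.not_even_iff_odd.2 f.odd)
  obtain ⟨x, y, hxy, -, ⟨j, hj⟩, hy, hx, hy'⟩ := ClassSize.exists_pParts (p := p) k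
  have hxc : x ∉ center G := by
    intro h
    have e : π k = π y := by
      rw [hxy, map_mul, show π x = 1 from (QuotientGroup.eq_one_iff x).2 h, one_mul]
    have h1 : p ∣ orderOf y := (Nat.minFac_dvd _).trans (e ▸ orderOf_map_dvd π y)
    exact hp.ne_one (Nat.Coprime.eq_one_of_dvd hy.symm h1)
  have hkk : k ∈ cent k := mem_centralizer_singleton_iff.2 rfl
  set xK : cent k := ⟨x, zpowers_le.2 hkk hx⟩ with hxK
  have hxcomm : ∀ g ∈ cent k, g * x = x * g := by
    intro g hg
    obtain ⟨i, rfl⟩ := hx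
    exact (Commute.zpow_right (mem_centralizer_singleton_iff.1 hg : Commute g k) i).eq
  have hzp : IsPGroup p (zpowers xK) :=
    IsPGroup.of_card (by rw [Nat.card_zpowers, hxK, orderOf_mk, hj])
  obtain ⟨R, hR⟩ := hzp.exists_le_sylow
  have hxR : xK ∈ (R : Subgroup (cent k)) := hR (mem_zpowers _)
  haveI hRab : IsMulCommutative R := hSA (cent k) ⟨F, _, _, ⟨hq, h9⟩, ⟨φ⟩⟩ p hp2 R
  have hRc : ∀ a ∈ (R : Subgroup (cent k)), ∀ b ∈ (R : Subgroup (cent k)), a * b = b * a :=
    fun a ha b hb => congrArg Subtype.val (mul_comm' (⟨a, ha⟩ : R) ⟨b, hb⟩)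
  have hKnab : ¬ ∀ a b : cent k, a * b = b * a := fun h => c.nab fun a ha b hb =>
    congrArg Subtype.val (h ⟨a, f.S_le ha⟩ ⟨b, f.S_le hb⟩)
  have hnab : ∃ a ∈ normalizer ((R : Subgroup (cent k)) : Set (cent k)),
      ∃ b ∈ normalizer ((R : Subgroup (cent k)) : Set (cent k)), a * b ≠ b * a := by
    by_contra hcon
    push Not at hcon
    have hnle : ¬ (R : Subgroup (cent k)) ≤ center (cent k) := fun hle => hKnab fun a b => by
      haveI : (R : Subgroup (cent k)).Normal :=
        ⟨fun v hv g => by rw [mem_center_iff.1 (hle hv) g, mul_inv_cancel_right]; exact hv⟩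
      exact hcon a (by rw [normalizer_eq_top]; exact mem_top a) b
        (by rw [normalizer_eq_top]; exact mem_top b)
    have hP : normalizer ((R : Subgroup (cent k)) : Set (cent k)) ≤
        centralizer ((R : Subgroup (cent k)) : Set (cent k)) := fun g hg =>
      mem_centralizer_iff.2 fun v hv => (hcon g hg v (le_normalizer hv)).symm
    have hc := MonoidHom.ker_transferSylow_isComplement' R hP
    set K' := (MonoidHom.transferSylow R hP).ker with hK'
    haveI : (K'.map (rho k)).Normal :=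
      Subgroup.Normal.map inferInstance _ (QuotientGroup.mk'_surjective _)
    rcases Subgroup.Normal.eq_bot_or_eq_top (inferInstance : (K'.map (rho k)).Normal) with h | h
    · refine hKnab fun a b => ?_
      obtain ⟨⟨⟨a₁, ha₁⟩, ⟨a₂, ha₂⟩⟩, rfl⟩ := hc.2 a
      obtain ⟨⟨⟨b₁, hb₁⟩, ⟨b₂, hb₂⟩⟩, rfl⟩ := hc.2 b
      have hcen : ∀ v ∈ K', v ∈ center (cent k) := fun v hv => by
        have := mem_map_of_mem (rho k) hv
        rw [h, mem_bot] at this
        exact (QuotientGroup.eq_one_iff v).1 this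
      have ea := mem_center_iff.1 (hcen _ ha₁)
      have eb := mem_center_iff.1 (hcen _ hb₁)
      have hab := hRc _ ha₂ _ hb₂
      have A1 : Commute (a₁ * a₂) (b₁ * b₂) :=
        (Commute.mul_right ((ea b₁).symm) ((ea b₂).symm)).mul_left
          (Commute.mul_right (eb a₂) hab)
      exact A1.eq
    · refine hnle fun v hv => ?_
      refine (QuotientGroup.eq_one_iff v).1 ?_
      obtain ⟨i, hi⟩ := IsPGroup.iff_orderOf.1 R.isPGroup' ⟨v, hv⟩
      rw [orderOf_mk] at hi
      refine eq_one_of_coprime (b := Nat.card K') (hi ▸ orderOf_map_dvd (rho k) v)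
        ((Subgroup.orderOf_dvd_natCard _ (h ▸ mem_top (rho k v))).trans (card_map_dvd K' _)) ?_
      refine Nat.Coprime.pow_left _ (hp.coprime_iff_not_dvd.2 ?_)
      rw [← hc.index_eq_card]
      exact R.not_dvd_index
  obtain ⟨a, ha, b, hb, hab⟩ := hnab
  set RG : Subgroup G := (R : Subgroup (cent k)).map (cent k).subtype with hRG
  have hRle : RG ≤ cent k := map_subtype_le _
  have hxRG : x ∈ RG := ⟨xK, hxR, rfl⟩
  have hne : normalizer (RG : Set G) ≠ ⊤ := fun e => by
    haveI : RG.Normal := normalizer_eq_top_iff.1 e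
    have hRtop : RG ≠ ⊤ := fun e' =>
      (f.bad c).centralizer_ne_top (eq_top_iff.2 (e' ▸ hRle))
    exact hxc (c.le_center_of_normal RG hRtop hxRG)
  have hkN : k ∈ normalizer (RG : Set G) := by
    rw [mem_normalizer_iff]
    intro v
    constructor
    · intro hv
      rw [← mem_centralizer_singleton_iff.1 (hRle hv), mul_inv_cancel_right]; exact hv
    · intro hv
      have h1 := mem_centralizer_singleton_iff.1 (hRle hv)
      rw [show k * v * k⁻¹ * k = k * v by group] at h1
      rwa [← mul_left_cancel h1] at hv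
  have haN : (a : G) ∈ normalizer (RG : Set G) := le_normalizer_map _ (mem_map_of_mem _ ha)
  have hbN : (b : G) ∈ normalizer (RG : Set G) := le_normalizer_map _ (mem_map_of_mem _ hb)
  have hNle : normalizer (RG : Set G) ≤ cent k :=
    c.qs.toHyp.le_centralizer_of_nonabelian hne hkN haN hbN (mem_centralizer_singleton_iff.1 a.2)
      (mem_centralizer_singleton_iff.1 b.2) fun e => hab (Subtype.ext e)
  obtain ⟨R', hR'⟩ := (R.isPGroup'.map (cent k).subtype).exists_le_sylow
  have heq : (R' : Subgroup G) = RG := by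
    refine le_antisymm ?_ hR'
    by_contra hnot
    haveI : Group.IsNilpotent (R' : Subgroup G) := R'.isPGroup'.isNilpotent
    have hlt : RG.subgroupOf (R' : Subgroup G) < ⊤ :=
      lt_top_iff_ne_top.2 fun e => hnot (subgroupOf_eq_top.1 e)
    obtain ⟨g, hg, hgn⟩ := SetLike.exists_of_lt (Group.normalizerCondition_of_isNilpotent _ hlt)
    rw [mem_normalizer_iff] at hg
    have hgN : (g : G) ∈ normalizer (RG : Set G) := by
      rw [mem_normalizer_iff]
      intro v
      constructor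
      · intro hv
        exact (hg ⟨v, hR' hv⟩).1 hv
      · intro hv
        have hvR : v ∈ (R' : Subgroup G) := by
          have := mul_mem (mul_mem (inv_mem g.2) (hR' hv)) g.2
          simpa [mul_assoc] using this
        exact (hg ⟨v, hvR⟩).2 hv
    have hM : IsPGroup p (((R' : Subgroup G) ⊓ cent k).subgroupOf (cent k)) :=
      (R'.isPGroup'.to_le inf_le_left).comap_subtype
    have hle : (R : Subgroup (cent k)) ≤ ((R' : Subgroup G) ⊓ cent k).subgroupOf (cent k) :=
      fun v hv => mem_subgroupOf.2 (Subgroup.mem_inf.2 ⟨hR' (mem_map_of_mem _ hv), v.2⟩)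
    have e := R.is_maximal' hM hle
    have : (⟨(g : G), hNle hgN⟩ : cent k) ∈ (R : Subgroup (cent k)) := by
      rw [← e]; exact mem_subgroupOf.2 (Subgroup.mem_inf.2 ⟨g.2, hNle hgN⟩)
    exact hgn (mem_subgroupOf.2 ⟨_, this, rfl⟩)
  have hR'ab : IsMulCommutative R' := ⟨⟨fun u v => Subtype.ext (by
    obtain ⟨u', hu', eu⟩ := (heq ▸ u.2 : (u : G) ∈ RG)
    obtain ⟨v', hv', ev⟩ := (heq ▸ v.2 : (v : G) ∈ RG)
    rw [Subgroup.coe_mul, Subgroup.coe_mul, ← eu, ← ev, ← map_mul, ← map_mul, hRc u' hu' v' hv'])⟩⟩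
  have hx1 := hTr G c.qs.perfect p R' hR'ab x (heq ▸ hxRG) fun g hg =>
    hxcomm g (hNle (heq ▸ hg))
  exact hxc (hx1 ▸ one_mem _)

/-- The case `PSL₂(9)`: an odd subgroup would be transitive on 45 involutions. -/
theorem Fixed.not_psl_nine {F : Type} [Field F] [Fintype F] (h9 : Fintype.card F = 9)
    (φ : Quo k ≃* Matrix.ProjectiveSpecialLinearGroup (Fin 2) F) : False := by
  classical
  haveI : Fact (Nat.Prime 2) := ⟨Nat.prime_two⟩
  haveI : Fact (Nat.Prime 3) := ⟨Nat.prime_three⟩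
  haveI : Fact (Nat.Prime 5) := ⟨by norm_num⟩
  haveI : CharP F 3 := charP_of_card_eq_prime_pow (f := 2) (by rw [h9]; norm_num)
  have hcases : ∀ q : Quo k, orderOf q = 3 ∨ orderOf q ∣ 4 ∨ orderOf q ∣ 5 := by
    intro q
    have h := PSLSpectrum.orderOf_psl_cases (F := F) 3 (φ q)
    rw [MulEquiv.orderOf_eq, h9] at h
    norm_num at h
    exact h
  have h360 : Nat.card (Quo k) = 360 := by
    have h := PSLSpectrum.card_psl_odd (F := F) (by rw [h9]; decide)
    rw [h9] at h
    rw [Nat.card_congr φ.toEquiv]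
    change 2 * Nat.card (Matrix.ProjectiveSpecialLinearGroup (Fin 2) F) = _ at h
    omega
  set π : G →* G ⧸ center G := QuotientGroup.mk' (center G) with hπ
  set tK : cent k := ⟨t, f.S_le (c.le c.t_mem)⟩ with htK
  have hτ : orderOf (rho k tK) = 2 := f.rho_s c (c.le c.t_mem) c.t_nc c.t_sq
  set τ := rho k tK with hτdef
  set H : Subgroup (G ⧸ center G) := (cent k).map π with hH
  have hSE : Cfsg.IsStronglyEmbedded H := f.stronglyEmbedded c
  obtain ⟨u, hu, huH⟩ : ∃ u : G ⧸ center G, orderOf u = 2 ∧ u ∉ H := by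
    by_contra hcon
    push Not at hcon
    haveI := c.qs.simple
    set M : Subgroup (G ⧸ center G) := closure {u | orderOf u = 2} with hM
    haveI : M.Normal := by
      refine ⟨fun x hx g => ?_⟩
      have h1 : M ≤ M.comap (MulAut.conj g).toMonoidHom := (closure_le _).2 fun y hy =>
        subset_closure (show orderOf (MulAut.conj g y) = 2 by rw [MulEquiv.orderOf_eq]; exact hy)
      exact h1 hx
    rcases Subgroup.Normal.eq_bot_or_eq_top (inferInstance : M.Normal) with h | h
    · have : (t : G ⧸ center G) ∈ M := subset_closure c.t_mk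
      rw [h, mem_bot] at this
      exact c.t_nc ((QuotientGroup.eq_one_iff t).1 this)
    · exact hSE.1 (eq_top_iff.2 (h ▸ (closure_le _).2 fun y hy => hcon y hy))
  set D : Subgroup (G ⧸ center G) := H ⊓ H.map (MulAut.conj u).toMonoidHom with hD
  have hDodd : Odd (Nat.card D) := hSE.2.2 u huH
  set D' : Subgroup (Quo k) := (D.comap (π.comp (cent k).subtype)).map (rho k) with hD'
  have hD'odd : Odd (Nat.card D') := by
    rw [← Nat.not_even_iff_odd, even_iff_two_dvd]
    intro hd
    obtain ⟨⟨q, hq⟩, hq2⟩ := exists_prime_orderOf_dvd_card' 2 hd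
    rw [orderOf_mk] at hq2
    obtain ⟨g, hg, rfl⟩ := hq
    set m := orderOf (π (g : G)) with hm
    have hmodd : Odd m := hDodd.of_dvd_nat (Subgroup.orderOf_dvd_natCard _ hg)
    have h1 : rho k g ^ m = 1 := by
      rw [← map_pow, ← map_one (rho k)]
      refine rho_congr ?_
      rw [Subgroup.coe_pow, map_pow, Subgroup.coe_one, map_one, hm, pow_orderOf_eq_one]
    have h2 : orderOf (rho k g) ∣ m := orderOf_dvd_of_pow_eq_one h1
    rw [hq2] at h2
    exact absurd (even_iff_two_dvd.2 h2) (Nat.not_even_iff_odd.2 hmodd)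
  -- transitivity on involutions
  have htrans : ∀ q : Quo k, orderOf q = 2 → ∃ d ∈ D', d * q * d⁻¹ = τ := by
    intro q hq
    obtain ⟨x, rfl, hx⟩ := f.lift_invol c q hq
    obtain ⟨⟨d, hd, hdt⟩, -⟩ := Cfsg.Agent.S1225.result H hSE u hu huH (π (x : G)) (π t) hx
      (mem_map_of_mem π x.2) c.t_mk (mem_map_of_mem π (f.S_le (c.le c.t_mem)))
    obtain ⟨g, hg, rfl⟩ := hd.1
    refine ⟨rho k ⟨g, hg⟩, ⟨⟨g, hg⟩, hd, rfl⟩, ?_⟩
    rw [← map_inv, ← map_mul, ← map_mul]
    refine rho_congr ?_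
    change π (g * (x : G) * g⁻¹) = π t
    rw [map_mul, map_mul, map_inv]
    exact hdt
  set C : Subgroup (Quo k) := centralizer ({τ} : Set (Quo k)) with hC
  have hCtwo : IsPGroup 2 C := by
    obtain ⟨e, he⟩ : ∃ e, Nat.card C = 2 ^ e := by
      refine ⟨_, Nat.eq_prime_pow_of_unique_prime_dvd Nat.card_pos.ne' fun {l} hl hld => ?_⟩
      by_contra hl2
      haveI := Fact.mk hl
      obtain ⟨⟨y, hy⟩, hyo⟩ := exists_prime_orderOf_dvd_card' l hld
      rw [orderOf_mk] at hyo
      have hc : Commute τ y := (mem_centralizer_singleton_iff.1 hy).symm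
      have ho := hc.orderOf_mul_eq_mul_orderOf_of_coprime (by
        rw [hτ, hyo]; exact (Nat.coprime_primes Nat.prime_two hl).2 (Ne.symm hl2))
      rw [hτ, hyo] at ho
      have h3 : 3 ≤ l := by have := hl.two_le; omega
      rcases hcases (τ * y) with h | h | h <;> rw [ho] at h
      · omega
      · have := Nat.le_of_dvd (by norm_num) h; omega
      · have := Nat.le_of_dvd (by norm_num) h; omega
    exact IsPGroup.of_card he
  haveI : MulAction.IsPretransitive D' (Quo k ⧸ C) := by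
    have key : ∀ a : Quo k ⧸ C, ∃ d : D', d • a = ((1 : Quo k) : Quo k ⧸ C) := by
      intro a
      induction a using QuotientGroup.induction_on with
      | _ q =>
        obtain ⟨d, hd, e⟩ := htrans (q * τ * q⁻¹) (by
          rw [show q * τ * q⁻¹ = MulAut.conj q τ from rfl, MulEquiv.orderOf_eq, hτ])
        refine ⟨⟨d, hd⟩, ?_⟩
        change ((d * q : Quo k) : Quo k ⧸ C) = _
        rw [QuotientGroup.eq, mul_one,
          inv_mem_iff, hC, mem_centralizer_singleton_iff]
        calc d * q * τ = d * (q * τ * q⁻¹) * d⁻¹ * (d * q) := by group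
          _ = τ * (d * q) := by rw [e]
    refine ⟨fun a b => ?_⟩
    obtain ⟨d1, h1⟩ := key a
    obtain ⟨d2, h2⟩ := key b
    exact ⟨d2⁻¹ * d1, by rw [mul_smul, h1, ← h2, inv_smul_smul]⟩
  have hdvd : C.index ∣ Nat.card D' := by
    rw [index_eq_card, ← MulAction.index_stabilizer_of_transitive D' ((1 : Quo k) : Quo k ⧸ C)]
    exact Subgroup.index_dvd_card _
  obtain ⟨j, hj⟩ := IsPGroup.iff_card.1 hCtwo
  have h45 : 45 ∣ C.index := by
    refine (Nat.Coprime.pow_right j (by norm_num : Nat.Coprime 45 2)).dvd_of_dvd_mul_left ?_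
    rw [← hj, C.card_mul_index, h360]
    norm_num
  have hcard : Nat.card D' = 45 := by
    refine Nat.dvd_antisymm ?_ (h45.trans hdvd)
    have h1 : Nat.card D' ∣ 2 ^ 3 * 45 := by
      have := Subgroup.card_subgroup_dvd_card D'
      rw [h360] at this
      simpa using this
    exact (Nat.Coprime.pow_right 3 (Nat.coprime_two_right.2 hD'odd)).dvd_of_dvd_mul_left h1
  obtain ⟨x, hx⟩ := exists_prime_orderOf_dvd_card' (G := D') 5 (by rw [hcard]; norm_num)
  obtain ⟨y, hy⟩ := exists_prime_orderOf_dvd_card' (G := D') 3 (by rw [hcard]; norm_num)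
  have hP : IsPGroup 5 (zpowers x) :=
    IsPGroup.of_card (n := 1) (by rw [Nat.card_zpowers, hx, pow_one])
  have hPi : ¬ 5 ∣ (zpowers x).index := by
    have h1 := (zpowers x).card_mul_index
    rw [Nat.card_zpowers, hx, hcard] at h1
    omega
  set P : Sylow 5 D' := hP.toSylow hPi with hPdef
  have hn1 : Nat.card (Sylow 5 D') = 1 := by
    have h1 : Nat.card (Sylow 5 D') ∣ 9 := by
      have h2 := P.card_dvd_index
      have h3 := (zpowers x).card_mul_index
      rw [Nat.card_zpowers, hx, hcard] at h3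
      have h4 : (zpowers x).index = 9 := by omega
      exact h4 ▸ h2
    have h5 := card_sylow_modEq_one 5 D'
    have h6 := Nat.le_of_dvd (by norm_num) h1
    unfold Nat.ModEq at h5
    rcases (Nat.dvd_prime_pow Nat.prime_three).1 (show _ ∣ 3 ^ 2 from h1) with ⟨i, hi, h7⟩
    interval_cases i <;> rw [h7] at h5 <;> omega
  haveI : Subsingleton (Sylow 5 D') := (Nat.card_eq_one_iff_unique.1 hn1).1
  haveI hPn : (P : Subgroup D').Normal := Sylow.normal_of_subsingleton P
  have hmem : y * x * y⁻¹ ∈ zpowers x := hPn.conj_mem x (mem_zpowers x) y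
  rw [← mem_powers_iff_mem_zpowers, Submonoid.mem_powers_iff] at hmem
  obtain ⟨i, hi⟩ := hmem
  have hiter : ∀ n : ℕ, y ^ n * x * (y ^ n)⁻¹ = x ^ (i ^ n) := by
    intro n
    induction n with
    | zero => simp
    | succ n ih =>
      calc y ^ (n + 1) * x * (y ^ (n + 1))⁻¹ = y * (y ^ n * x * (y ^ n)⁻¹) * y⁻¹ := by
            rw [pow_succ']; group
        _ = (y * x * y⁻¹) ^ (i ^ n) := by rw [ih, conj_pow]
        _ = x ^ (i ^ (n + 1)) := by rw [← hi, ← pow_mul, pow_succ']
  have h3 := hiter 3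
  rw [← hy, pow_orderOf_eq_one, one_mul, inv_one, mul_one, hy] at h3
  have h3' : x ^ (i ^ 3) = x ^ 1 := by rw [← h3, pow_one]
  rw [pow_eq_pow_iff_modEq, hx] at h3'
  have hi1 : i % 5 = 1 := by
    unfold Nat.ModEq at h3'
    rw [Nat.pow_mod] at h3'
    have : i % 5 < 5 := Nat.mod_lt _ (by norm_num)
    interval_cases h : i % 5 <;> first | rfl | norm_num at h3'
  have hxy : Commute x y := by
    have h4 : y * x * y⁻¹ = x := by
      rw [← hi, ← pow_mod_orderOf, hx, hi1, pow_one]
    exact (mul_inv_eq_iff_eq_mul.1 h4).symm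
  have h15 := hxy.orderOf_mul_eq_mul_orderOf_of_coprime (by rw [hx, hy]; norm_num)
  rw [hx, hy, ← Subgroup.orderOf_coe] at h15
  rcases hcases ((x * y : D') : Quo k) with h | h | h <;> rw [h15] at h <;> norm_num at h

/-- The case of a noncentral element of odd order centralising `S`. -/
theorem Fixed.psl (hCQ : CAQuotBrick.{u}) (hTr : TransferBrick.{u}) (hSA : SylowAbelianBrick.{u})
    {O : Subgroup G} (hO : ∀ g : G, g ∈ O ↔ g * t = t * g ∧ Odd (orderOf g)) :
    PSLQuot G (fun q => 4 ≤ q) := by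
  have hne : cent k ≠ ⊤ := (f.bad c).centralizer_ne_top
  have hnab : ¬ IsMulCommutative (cent k) := fun h => c.nab fun a ha b hb => by
    haveI := h
    exact congrArg Subtype.val (mul_comm' (⟨a, f.S_le ha⟩ : cent k) ⟨b, f.S_le hb⟩)
  rcases hCQ (cent k) (c.qs.toHyp.sub_ca _ hne) hnab with
    ⟨⟨e⟩⟩ | ⟨p, hp, hH⟩ | ⟨H, hH⟩ | ⟨F, iF, iFt, hq, ⟨φ⟩⟩ | ⟨F, iF, iFt, -, hodd, ⟨e⟩⟩ | hz
  · exact (f.not_symm c e).elim
  · exact f.psl_of_hughes c hO hp hH
  · exact f.psl_of_frobenius c hO hH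
  · by_cases h9 : Fintype.card F = 9
    · exact (f.not_psl_nine c h9 φ).elim
    · exact (f.not_psl_of_ne_nine c hTr hSA hq h9 φ).elim
  · exact (f.not_pgl c hodd e).elim
  · exact (f.not_suzuki c hz).elim

end Cfsg.Agent.Lib.MinNonCA34.EvenDihedralAux
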