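import Mathlib
import Cfsg.Agent.Lib.MinNonCA34.EvenDihedralCases

/-!
# Minimal non-CA groups: the dihedral case of the even branch
-/

set_option autoImplicit false
set_option linter.unusedSectionVars false
set_option linter.style.haveILetI false

namespace Cfsg.Agent.Lib.MinNonCA34

open Subgroup EvenDihedralAux

universe u

namespace EvenDihedralAux

/-- The configuration exists: `t` is a power of `r` whose image is the involution of the image of
`A`. -/
theorem exists_ctx (hTr : TransferBrick.{u}) {G : Type u} [Group G] [Finite G] (h : QS G)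
    (he : Even (Nat.card (center G)))
    (hgood : ∀ (x : G) (k : ℕ), orderOf x = 2 ^ k → ¬ Bad x) (S : Sylow 2 G) (A : Subgroup G)
    (hAS : A ≤ S) (hidx : A.relIndex S = 2) (hSZ : (S : Subgroup G) ⊓ center G ≤ A)
    (hcomm : ∀ x ∈ A, ∀ y ∈ A, x * y = y * x) (r : G) (hr : r ∈ A)
    (hgen : ∀ x ∈ A, ∃ i : ℕ, x⁻¹ * r ^ i ∈ center G)
    (hinv : ∀ s ∈ (S : Subgroup G), s ∉ A → ∀ x ∈ A, s * x * s⁻¹ * x ∈ center G)
    (hsq : ∀ s ∈ (S : Subgroup G), s ∉ A → s * s ∈ center G) :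
    ∃ t σ : G, Ctx S A r t σ := by
  haveI : Fact (Nat.Prime 2) := ⟨Nat.prime_two⟩
  obtain ⟨σ, hσ, hσA⟩ : ∃ σ ∈ (S : Subgroup G), σ ∉ A := by
    by_contra hcon
    push Not at hcon
    rw [relIndex_eq_one.2 (fun s hs => hcon s hs)] at hidx
    exact absurd hidx (by norm_num)
  have hnab : ¬ ∀ x ∈ (S : Subgroup G), ∀ y ∈ (S : Subgroup G), x * y = y * x := fun hc =>
    SylowTwoAux.not_comm_sylow hTr h he S ⟨⟨fun x y => Subtype.ext (hc x x.2 y y.2)⟩⟩
  set π : G →* G ⧸ center G := QuotientGroup.mk' (center G) with hπ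
  obtain ⟨k, hk⟩ := twoPow (hAS hr)
  have hd : orderOf (π r) ∣ 2 ^ k := hk ▸ orderOf_map_dvd π r
  obtain ⟨j, -, hj⟩ := (Nat.dvd_prime_pow Nat.prime_two).1 hd
  rcases j with _ | j
  · exfalso
    have hrc : r ∈ center G := (QuotientGroup.eq_one_iff r).1 (orderOf_eq_one_iff.1 hj)
    have hA : ∀ x ∈ A, x ∈ center G := fun x hx => by
      obtain ⟨i, hi⟩ := hgen x hx
      have e : x = r ^ i * (x⁻¹ * r ^ i)⁻¹ := by group
      rw [e]; exact mul_mem (pow_mem hrc i) (inv_mem hi)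
    have h2 : (A.subgroupOf (S : Subgroup G)).index = 2 := hidx
    refine hnab fun x hx y hy => ?_
    by_cases hxA : x ∈ A
    · exact (mem_center_iff.1 (hA x hxA) y).symm
    · by_cases hyA : y ∈ A
      · exact mem_center_iff.1 (hA y hyA) x
      · have hm : x⁻¹ * y ∈ A := by
          have := (mul_mem_iff_of_index_two h2 (a := (⟨x, hx⟩ : (S : Subgroup G))⁻¹)
            (b := ⟨y, hy⟩)).2 (by simp [mem_subgroupOf, hxA, hyA])
          simpa [mem_subgroupOf] using this
        have e := mem_center_iff.1 (hA _ hm) x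
        calc x * y = x * (x * (x⁻¹ * y)) := by group
          _ = x * ((x⁻¹ * y) * x) := by rw [e]
          _ = y * x := by group
  refine ⟨r ^ 2 ^ j, σ, ⟨h, hgood, hAS, hidx, hSZ, hcomm, hr, hgen, hinv, hsq, pow_mem hr _,
    ?_, ?_, ?_, hσ, hσA, hnab⟩⟩
  · intro hc
    have h1 : π r ^ 2 ^ j = 1 := by rw [← map_pow]; exact (QuotientGroup.eq_one_iff _).2 hc
    have h2 := orderOf_dvd_of_pow_eq_one h1
    rw [hj, Nat.pow_dvd_pow_iff_le_right (by norm_num)] at h2
    omega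
  · refine (QuotientGroup.eq_one_iff _).1 ?_
    change π (r ^ 2 ^ j * r ^ 2 ^ j) = 1
    rw [← pow_add, map_pow, ← two_mul, ← pow_succ', ← hj, pow_orderOf_eq_one]
  · intro x hx hx2
    obtain ⟨i, hi⟩ := hgen x hx
    have hπx : π x = π r ^ i := by rw [← map_pow]; exact QuotientGroup.eq.2 hi
    have h1 : π r ^ (2 * i) = 1 := by
      rw [two_mul, pow_add, ← hπx, ← map_mul]
      exact (QuotientGroup.eq_one_iff _).2 hx2
    have h2 : 2 ^ j ∣ i := by
      have h3 := orderOf_dvd_of_pow_eq_one h1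
      rw [hj, pow_succ'] at h3
      exact Nat.dvd_of_mul_dvd_mul_left (by norm_num) h3
    obtain ⟨m, rfl⟩ := h2
    rcases Nat.even_or_odd m with ⟨l, rfl⟩ | ⟨l, rfl⟩
    · refine Or.inl ((QuotientGroup.eq_one_iff x).1 ?_)
      change π x = 1
      rw [hπx, show 2 ^ j * (l + l) = 2 ^ (j + 1) * l by ring, ← hj, pow_mul, pow_orderOf_eq_one,
        one_pow]
    · refine Or.inr (QuotientGroup.eq.1 ?_)
      change π (r ^ 2 ^ j) = π x
      rw [hπx, map_pow, show 2 ^ j * (2 * l + 1) = 2 ^ (j + 1) * l + 2 ^ j by ring, ← hj, pow_add,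
        pow_mul, pow_orderOf_eq_one, one_pow, one_mul]

end EvenDihedralAux

/-- The dihedral case of the even branch. -/
theorem evenDihedral (hCQ : CAQuotBrick.{u}) (hTr : TransferBrick.{u})
    (hSA : SylowAbelianBrick.{u}) : EvenDihedralBrick.{u} := by
  intro G _ _ h he hgood S A hAS hidx hSZ hcomm hgen hinv hsq
  obtain ⟨r, hr, hgen⟩ := hgen
  obtain ⟨t, σ, c⟩ := exists_ctx hTr h he hgood S A hAS hidx hSZ hcomm r hr hgen hinv hsq
  obtain ⟨O, hO⟩ := c.exists_oddPart
  by_cases hA : ∀ y ∈ O, σ * y = y * σ → y ∈ center G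
  · exact c.psl_of_inverted hO hA
  push Not at hA
  obtain ⟨y, hy, hyσ, hyc⟩ := hA
  have f : Fixed S y := by
    refine ⟨hyc, ((hO y).1 hy).2, fun s hs => ?_⟩
    by_cases hsA : s ∈ A
    · exact (c.A_comm hO hy hsA).symm
    · have h1 := c.A_comm hO hy (c.coset hs hsA)
      calc s * y = σ * ((σ⁻¹ * s) * y) := by group
        _ = σ * (y * (σ⁻¹ * s)) := by rw [h1]
        _ = σ * y * (σ⁻¹ * s) := by group
        _ = y * σ * (σ⁻¹ * s) := by rw [hyσ]
        _ = y * s := by group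
  exact f.psl c hCQ hTr hSA hO

end Cfsg.Agent.Lib.MinNonCA34
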