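import Mathlib
import Cfsg.Agent.Lib.MinNonCA34.Spec
import Cfsg.Agent.S0058

/-!
# The Klein configuration: the centraliser of the four-group
-/

set_option autoImplicit false
set_option linter.unusedSectionVars false
set_option linter.style.haveILetI false

namespace Cfsg.Agent.Lib.MinNonCA34

open Subgroup
open scoped commutatorElement

namespace FixAux

universe u

variable {G : Type u} [Group G]

/-- The centraliser of the four-group. -/
abbrev cV (a b : G) : Subgroup G := centralizer ({a} : Set G) ⊓ centralizer ({b} : Set G)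

theorem mem_cV {a b g : G} : g ∈ cV a b ↔ g * a = a * g ∧ g * b = b * g := by
  simp [cV, mem_centralizer_singleton_iff]

theorem mul_self_of_order_two {t : G} (ht : orderOf t = 2) : t * t = 1 := by
  rw [← pow_two, ← ht, pow_orderOf_eq_one]

theorem eq_one_of_sq_of_odd {H : Subgroup G} [Finite G] (hH : Odd (Nat.card H)) {t : G} (ht : t ∈ H)
    (h2 : t * t = 1) : t = 1 := by
  have h1 : orderOf t ∣ 2 := orderOf_dvd_of_pow_eq_one (by rw [pow_two, h2])
  have h3 : orderOf t ∣ Nat.card H := by
    rw [← Subgroup.orderOf_mk t ht]; exact orderOf_dvd_natCard _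
  rcases (Nat.dvd_prime Nat.prime_two).1 h1 with h | h
  · exact orderOf_eq_one_iff.1 h
  · exact absurd (h ▸ h3) (by simpa [← even_iff_two_dvd] using hH)

/-- `N` is proper when it centralises a non-central element. -/
theorem centralizer_ne_top {x : G} (hx : x ∉ center G) : centralizer ({x} : Set G) ≠ ⊤ := fun e =>
  hx (mem_center_iff.2 fun y => mem_centralizer_singleton_iff.1 (e ▸ mem_top y))

theorem mem_centralizer_conj {x g c : G} :
    c ∈ centralizer ({g * x * g⁻¹} : Set G) ↔ g⁻¹ * c * g ∈ centralizer ({x} : Set G) := by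
  rw [mem_centralizer_singleton_iff, mem_centralizer_singleton_iff]
  constructor <;> intro h
  · calc g⁻¹ * c * g * x = g⁻¹ * (c * (g * x * g⁻¹)) * g := by group
      _ = g⁻¹ * ((g * x * g⁻¹) * c) * g := by rw [h]
      _ = x * (g⁻¹ * c * g) := by group
  · calc c * (g * x * g⁻¹) = g * (g⁻¹ * c * g * x) * g⁻¹ := by group
      _ = g * (x * (g⁻¹ * c * g)) * g⁻¹ := by rw [h]
      _ = g * x * g⁻¹ * c := by group

/-- A proper normal subgroup of a group with simple central quotient lies in the centre. -/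
theorem normal_le_center [Finite G] (hQ : QS G) (N : Subgroup G) [hN : N.Normal] (hne : N ≠ ⊤) :
    N ≤ center G := by
  haveI := hQ.simple
  have hM : (N.map (QuotientGroup.mk' (center G))).Normal :=
    Normal.map hN _ (QuotientGroup.mk'_surjective _)
  rcases hM.eq_bot_or_eq_top with h | h
  · rwa [Subgroup.map_eq_bot_iff, QuotientGroup.ker_mk'] at h
  · exfalso
    refine hne ?_
    have hsup : N ⊔ center G = ⊤ := by
      have := congrArg (Subgroup.comap (QuotientGroup.mk' (center G))) h
      rwa [comap_map_eq, QuotientGroup.ker_mk', comap_top] at this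
    have hc : commutator G ≤ N := by
      rw [_root_.commutator_def, commutator_le]
      intro x _ y _
      have hmem : ∀ g : G, ∃ n ∈ N, ∃ z ∈ center G, g = n * z := fun g => by
        have hg : g ∈ N ⊔ center G := by rw [hsup]; exact mem_top g
        obtain ⟨n, hn, z, hz, e⟩ := mem_sup_of_normal_left.1 hg
        exact ⟨n, hn, z, hz, e.symm⟩
      obtain ⟨n, hn, z, hz, rfl⟩ := hmem x
      obtain ⟨m, hm, w, hw, rfl⟩ := hmem y
      have hz' : ∀ g : G, g * z = z * g := mem_center_iff.1 hz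
      have hw' : ∀ g : G, g * w = w * g := mem_center_iff.1 hw
      have e : ⁅n * z, m * w⁆ = ⁅n, m⁆ := by
        simp only [commutatorElement_def, mul_inv_rev]
        calc n * z * (m * w) * (z⁻¹ * n⁻¹) * (w⁻¹ * m⁻¹)
            = n * (z * m) * (w * z⁻¹) * n⁻¹ * w⁻¹ * m⁻¹ := by group
          _ = n * (m * z) * (z⁻¹ * w) * n⁻¹ * w⁻¹ * m⁻¹ := by rw [hz' m, (hw' z⁻¹).symm]
          _ = n * m * (w * n⁻¹) * w⁻¹ * m⁻¹ := by group
          _ = n * m * (n⁻¹ * w) * w⁻¹ * m⁻¹ := by rw [hw' n⁻¹]
          _ = n * m * n⁻¹ * m⁻¹ := by group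
      rw [e, commutatorElement_def]
      exact mul_mem (mul_mem (mul_mem hn hm) (inv_mem hn)) (inv_mem hm)
    exact eq_top_iff.2 (hQ.perfect ▸ hc)

variable [Finite G] {a b n : G} {O : Subgroup G} (hQ : QS G) (hk : Klein G a b n O)
include hQ hk

theorem a_notMem : a ∉ center G := hk.bad_a.1

theorem not_normal_centralizer {x : G} (hx : x ∉ center G) :
    ¬ (centralizer ({x} : Set G)).Normal := fun h =>
  hx (normal_le_center hQ (centralizer ({x} : Set G)) (hN := h) (centralizer_ne_top hx)
    (mem_centralizer_singleton_iff.2 rfl))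

theorem b_notMem : b ∉ center G := fun hb => by
  have h : n * a * n⁻¹ ∈ center G := hk.conj_a.symm ▸ hb
  have := Subgroup.Normal.conj_mem inferInstance _ h n⁻¹
  exact a_notMem hQ hk (by simpa [mul_assoc] using this)

theorem conj_ab : n * (a * b) * n⁻¹ = a := by
  have h1 : n * (a * b) * n⁻¹ = (n * a * n⁻¹) * (n * b * n⁻¹) := by group
  rw [h1, hk.conj_a, hk.conj_b, ← mul_assoc, ← hk.comm_ab, mul_assoc,
    mul_self_of_order_two hk.order_b, mul_one]

/-- Not everything centralising `a` centralises `b`. -/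
theorem exists_moving : ∃ g : G, g * a = a * g ∧ g * b ≠ b * g := by
  by_contra hall
  push Not at hall
  have hle : centralizer ({a} : Set G) ≤ centralizer ({b} : Set G) := fun g hg =>
    mem_centralizer_singleton_iff.2 (hall g (mem_centralizer_singleton_iff.1 hg))
  obtain ⟨he, -⟩ := hQ.toHyp.centralizer_eq_of_central hk.bad_a (b_notMem hQ hk) hle
  have hn : n ∈ normalizer ((centralizer ({a} : Set G) : Subgroup G) : Set G) := by
    rw [mem_normalizer_iff]
    intro c
    have e : centralizer ({a} : Set G) = centralizer ({n * a * n⁻¹} : Set G) := by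
      rw [hk.conj_a, he]
    conv_rhs => rw [e]
    rw [mem_centralizer_conj, show n⁻¹ * (n * c * n⁻¹) * n = c by group]
  rw [hQ.toHyp.normalizer_centralizer hk.bad_a (not_normal_centralizer hQ hk (a_notMem hQ hk))] at hn
  have h2 : n * a = a * n := mem_centralizer_singleton_iff.1 hn
  exact hk.ne_ab (hk.conj_a ▸ by rw [h2]; group)

/-- The centraliser of the four-group is abelian. -/
theorem cV_comm {g h : G} (hg : g ∈ cV a b) (hh : h ∈ cV a b) : g * h = h * g := by
  obtain ⟨c, hca, hcb⟩ := exists_moving hQ hk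
  obtain ⟨hga, hgb⟩ := mem_cV.1 hg
  obtain ⟨hha, hhb⟩ := mem_cV.1 hh
  exact hQ.toHyp.comm_of_mem hk.bad_a.centralizer_ne_top (x := b) (y := c)
    (mem_centralizer_singleton_iff.2 hk.comm_ab.symm) (mem_centralizer_singleton_iff.2 hca) hcb
    (mem_centralizer_singleton_iff.2 hga) (mem_centralizer_singleton_iff.2 hha) hgb hhb

theorem a_mem : a ∈ cV a b := mem_cV.2 ⟨rfl, hk.comm_ab⟩

theorem b_mem : b ∈ cV a b := mem_cV.2 ⟨hk.comm_ab.symm, rfl⟩

/-- `n` normalises the centraliser of the four-group. -/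
theorem n_mem_normalizer : n ∈ normalizer ((cV a b : Subgroup G) : Set G) := by
  rw [mem_normalizer_iff]
  intro c
  simp only [mem_cV]
  have key : ∀ v : G, (c * v = v * c) ↔
      (n * c * n⁻¹ * (n * v * n⁻¹) = n * v * n⁻¹ * (n * c * n⁻¹)) := fun v => by
    have e : ∀ p q : G, n * p * n⁻¹ * (n * q * n⁻¹) = n * (p * q) * n⁻¹ := fun p q => by group
    rw [e, e, mul_left_inj, mul_right_inj]
  rw [key a, key b, hk.conj_a, hk.conj_b]
  constructor
  · rintro ⟨h1, h2⟩
    refine ⟨?_, h1⟩
    have ea : a = a * b * b := by rw [mul_assoc, mul_self_of_order_two hk.order_b, mul_one]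
    calc n * c * n⁻¹ * a = n * c * n⁻¹ * (a * b * b) := by rw [← ea]
      _ = a * b * (n * c * n⁻¹) * b := by rw [← mul_assoc, h2]
      _ = a * b * b * (n * c * n⁻¹) := by rw [mul_assoc (a * b), h1, ← mul_assoc]
      _ = a * (n * c * n⁻¹) := by rw [← ea]
  · rintro ⟨h1, h2⟩
    exact ⟨h2, by rw [← mul_assoc, h1, mul_assoc, h2, ← mul_assoc]⟩

/-- `b` normalises `O`, and the two meet trivially. -/
theorem conj_commutator {o : G} (ho : o ∈ O) : o * b * o⁻¹ * b⁻¹ ∈ O := by
  have hbn := mem_normalizer_iff.1 (hk.O_normal (mem_centralizer_singleton_iff.2 hk.comm_ab.symm)) o⁻¹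
  have h1 : b * o⁻¹ * b⁻¹ ∈ O := hbn.1 (inv_mem ho)
  have h2 := mul_mem ho h1
  rwa [show o * (b * o⁻¹ * b⁻¹) = o * b * o⁻¹ * b⁻¹ by group] at h2

omit hQ in
theorem mem_O_of_sq {v : G} (hv : v ∈ O) (h2 : v * v = 1) : v = 1 :=
  eq_one_of_sq_of_odd hk.odd_O hv h2

/-- An element normalising the four-group and fixing `a` centralises it. -/
theorem mem_cV_of_fix {g : G} (hga : g * a = a * g)
    (hgb : g * b * g⁻¹ = b ∨ g * b * g⁻¹ = a ∨ g * b * g⁻¹ = a * b) : g ∈ cV a b := by
  have hb2 : b * b = 1 := mul_self_of_order_two hk.order_b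
  have ha2 : a * a = 1 := mul_self_of_order_two hk.order_a
  refine mem_cV.2 ⟨hga, ?_⟩
  rcases hgb with h | h | h
  · conv_rhs => rw [← h]
    group
  · exfalso
    have : g * b * g⁻¹ = g * a * g⁻¹ := by rw [h, hga]; group
    exact hk.ne_ab (mul_left_cancel (mul_right_cancel this)).symm
  · exfalso
    obtain ⟨o, ho, e⟩ := hk.cover g hga
    have hoa : o * a = a * o := mem_centralizer_singleton_iff.1 (hk.O_le ho)
    -- the outer factor commutes with `b`
    have key : o * b * o⁻¹ = a * b := by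
      rcases e with rfl | rfl | rfl | rfl
      · exact h
      · calc o * b * o⁻¹ = o * (a * b * a⁻¹) * o⁻¹ := by rw [hk.comm_ab, mul_inv_cancel_right]
          _ = o * a * b * (o * a)⁻¹ := by group
          _ = a * b := h
      · calc o * b * o⁻¹ = o * b * b * (o * b)⁻¹ := by group
          _ = a * b := h
      · calc o * b * o⁻¹ = o * (a * b * b * (a * b)⁻¹) * o⁻¹ := by
              rw [show a * b * b * (a * b)⁻¹ = a * b * a⁻¹ by group, hk.comm_ab, mul_inv_cancel_right]
          _ = o * (a * b) * b * (o * (a * b))⁻¹ := by group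
          _ = a * b := h
    have hmem := conj_commutator hQ hk ho
    rw [key, mul_inv_cancel_right] at hmem
    exact hk.bad_a.1 (by rw [mem_O_of_sq hk hmem ha2]; exact one_mem _)

/-- An element normalising the four-group lies in `cV ∪ n cV ∪ n² cV`. -/
theorem exists_pow_of_normalises {g : G}
    (hga : g * a * g⁻¹ = a ∨ g * a * g⁻¹ = b ∨ g * a * g⁻¹ = a * b)
    (hgb : g * b * g⁻¹ = a ∨ g * b * g⁻¹ = b ∨ g * b * g⁻¹ = a * b) :
    ∃ i : ℕ, i < 3 ∧ ∃ c ∈ cV a b, g = n ^ i * c := by
  -- conjugation by `n⁻¹` sends `b ↦ a`, `a * b ↦ b`, `a ↦ a * b`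
  have i1 : n⁻¹ * b * n = a := by rw [← hk.conj_a]; group
  have i2 : n⁻¹ * (a * b) * n = b := by rw [← hk.conj_b]; group
  have i3 : n⁻¹ * a * n = a * b := by
    conv_lhs => rw [← conj_ab hQ hk]
    group
  have comm_of : ∀ {k : G}, k * a * k⁻¹ = a → k * a = a * k := fun {k} hk' => by
    calc k * a = k * a * k⁻¹ * k := by group
      _ = a * k := by rw [hk']
  rcases hga with h | h | h
  · refine ⟨0, by norm_num, g, mem_cV_of_fix hQ hk (comm_of h) ?_, by simp⟩
    tauto
  · refine ⟨1, by norm_num, n⁻¹ * g, mem_cV_of_fix hQ hk (comm_of ?_) ?_, by group⟩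
    · calc n⁻¹ * g * a * (n⁻¹ * g)⁻¹ = n⁻¹ * (g * a * g⁻¹) * n := by group
        _ = a := by rw [h, i1]
    · have e : n⁻¹ * g * b * (n⁻¹ * g)⁻¹ = n⁻¹ * (g * b * g⁻¹) * n := by group
      rw [e]
      rcases hgb with h' | h' | h' <;> rw [h'] <;> simp [i1, i2, i3]
  · refine ⟨2, by norm_num, n⁻¹ * (n⁻¹ * g), mem_cV_of_fix hQ hk (comm_of ?_) ?_,
      by rw [pow_two]; group⟩
    · calc n⁻¹ * (n⁻¹ * g) * a * (n⁻¹ * (n⁻¹ * g))⁻¹ =
            n⁻¹ * (n⁻¹ * (g * a * g⁻¹) * n) * n := by simp [mul_assoc]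
        _ = a := by rw [h, i2, i1]
    · have e : n⁻¹ * (n⁻¹ * g) * b * (n⁻¹ * (n⁻¹ * g))⁻¹ =
          n⁻¹ * (n⁻¹ * (g * b * g⁻¹) * n) * n := by simp [mul_assoc]
      rw [e]
      rcases hgb with h' | h' | h' <;> rw [h'] <;> simp [i1, i2, i3]

/-- The involutions centralising the four-group lie in it. -/
theorem invol_cases {v : G} (hv : v ∈ cV a b) (h2 : v * v = 1) :
    v = 1 ∨ v = a ∨ v = b ∨ v = a * b := by
  obtain ⟨hva, hvb⟩ := mem_cV.1 hv
  obtain ⟨o, ho, e⟩ := hk.cover v hva
  have hoa : o * a = a * o := mem_centralizer_singleton_iff.1 (hk.O_le ho)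
  have hob : o * b = b * o := by
    rcases e with rfl | rfl | rfl | rfl
    · exact hvb
    · refine mul_right_cancel (b := a) ?_
      calc o * b * a = o * a * b := by rw [mul_assoc, ← hk.comm_ab, ← mul_assoc]
        _ = b * (o * a) := hvb
        _ = b * o * a := by group
    · exact mul_right_cancel (b := b) (by simpa [mul_assoc] using hvb)
    · refine mul_right_cancel (b := a * b) ?_
      calc o * b * (a * b) = o * (a * b) * b := by
            rw [mul_assoc, mul_assoc, mul_assoc a b b, ← mul_assoc b a b, ← hk.comm_ab, mul_assoc a b b]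
        _ = b * (o * (a * b)) := hvb
        _ = b * o * (a * b) := by group
  have hab2 : (a * b) * (a * b) = 1 := by
    rw [mul_assoc, ← mul_assoc b a b, ← hk.comm_ab, mul_assoc a b b, mul_self_of_order_two hk.order_b,
      mul_one, mul_self_of_order_two hk.order_a]
  have key : ∀ w : G, Commute o w → w * w = 1 → v = o * w → v = w := fun w hc hw hvw => by
    have h1 : o * o = 1 := by
      have := h2
      rw [hvw, hc.symm.mul_mul_mul_comm, hw, mul_one] at this
      exact this
    rw [hvw, mem_O_of_sq hk ho h1, one_mul]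
  rcases e with e | e | e | e
  · exact Or.inl (key 1 (Commute.one_right o) (by simp) (by rw [mul_one]; exact e))
  · exact Or.inr (Or.inl (key a hoa (mul_self_of_order_two hk.order_a) e))
  · exact Or.inr (Or.inr (Or.inl (key b hob (mul_self_of_order_two hk.order_b) e)))
  · exact Or.inr (Or.inr (Or.inr (key (a * b) (Commute.mul_right hoa hob) hab2 e)))

theorem ab_ne_one : a * b ≠ 1 := fun h => by
  refine hk.ne_ab ?_
  have e : a * b = b * b := by rw [h, mul_self_of_order_two hk.order_b]
  exact mul_right_cancel e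

/-- An element normalising the centraliser of the four-group is `n ^ i` times an element of it. -/
theorem exists_pow_of_mem_normalizer {g : G} (hg : g ∈ normalizer ((cV a b : Subgroup G) : Set G)) :
    ∃ i : ℕ, i < 3 ∧ ∃ c ∈ cV a b, g = n ^ i * c := by
  have img : ∀ v ∈ cV a b, v * v = 1 → v ≠ 1 →
      g * v * g⁻¹ = a ∨ g * v * g⁻¹ = b ∨ g * v * g⁻¹ = a * b := fun v hv hv2 hv1 => by
    have h1 := (mem_normalizer_iff.1 hg v).1 hv
    have h2 : g * v * g⁻¹ * (g * v * g⁻¹) = 1 := by
      rw [show g * v * g⁻¹ * (g * v * g⁻¹) = g * (v * v) * g⁻¹ by group, hv2]; group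
    rcases invol_cases hQ hk h1 h2 with h | h | h | h
    · exact absurd (by simpa using h) hv1
    · exact Or.inl h
    · exact Or.inr (Or.inl h)
    · exact Or.inr (Or.inr h)
  exact exists_pow_of_normalises hQ hk
    (img a (a_mem hQ hk) (mul_self_of_order_two hk.order_a) fun e =>
      hk.bad_a.1 (e ▸ one_mem _))
    (img b (b_mem hQ hk) (mul_self_of_order_two hk.order_b) fun e =>
      b_notMem hQ hk (e ▸ one_mem _))

end FixAux

end Cfsg.Agent.Lib.MinNonCA34
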