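import Mathlib
import Cfsg.Agent.Lib.MinNonCA34.FixCentralLocal
import Cfsg.Agent.Lib.LinGroup.Order
import Cfsg.Agent.S2202

/-!
# The Klein configuration: elements outside the union of the three central parts
-/

set_option autoImplicit false
set_option linter.unusedSectionVars false
set_option linter.style.haveILetI false

namespace Cfsg.Agent.Lib.MinNonCA34

open Subgroup
open scoped commutatorElement MatrixGroups

namespace FixAux

universe u

variable {G : Type u} [Group G] [Finite G] {a b n : G} {O : Subgroup G}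

/-- `y` has none of the three centralisers of involutions as its centraliser. -/
def Outside (a b y : G) : Prop :=
  centralizer ({y} : Set G) ≠ centralizer ({a} : Set G) ∧
    centralizer ({y} : Set G) ≠ centralizer ({b} : Set G) ∧
    centralizer ({y} : Set G) ≠ centralizer ({a * b} : Set G)

variable (hQ : QS G) (hk : Klein G a b n O)

/-- The four-group. -/
def four : Subgroup G where
  carrier := {1, a, b, a * b}
  one_mem' := by simp
  mul_mem' := by
    have ha := mul_self_of_order_two hk.order_a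
    have hb := mul_self_of_order_two hk.order_b
    have hc := hk.comm_ab
    have e1 : b * (a * b) = a := by rw [hc, ← mul_assoc, hb, one_mul]
    have e2 : a * (a * b) = b := by rw [← mul_assoc, ha, one_mul]
    have e3 : a * b * a = b := by rw [hc, mul_assoc, ha, mul_one]
    have e4 : a * b * b = a := by rw [mul_assoc, hb, mul_one]
    have e5 : a * b * (a * b) = 1 := by rw [← mul_assoc, e3, hb]
    rintro x y (rfl | rfl | rfl | rfl) (rfl | rfl | rfl | rfl) <;>
      simp [ha, hb, ← hc, e1, e2, e3, e4, e5]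
  inv_mem' := by
    have ha := mul_self_of_order_two hk.order_a
    have hb := mul_self_of_order_two hk.order_b
    have ea : a⁻¹ = a := inv_eq_of_mul_eq_one_right ha
    have eb : b⁻¹ = b := inv_eq_of_mul_eq_one_right hb
    rintro x (rfl | rfl | rfl | rfl) <;> simp [ea, eb, hk.comm_ab]

include hQ hk

theorem mem_four {v : G} : v ∈ four hk ↔ v = 1 ∨ v = a ∨ v = b ∨ v = a * b := Iff.rfl

theorem card_four : Nat.card (four hk) = 4 := by
  classical
  have h1a : (1 : G) ≠ a := fun e => hk.bad_a.1 (e ▸ one_mem _)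
  have h1b : (1 : G) ≠ b := fun e => b_notMem hQ hk (e ▸ one_mem _)
  have h1c : (1 : G) ≠ a * b := (ab_ne_one hQ hk).symm
  have hac : a ≠ a * b := fun e => h1b (left_eq_mul.1 e).symm
  have hbc : b ≠ a * b := fun e => h1a (right_eq_mul.1 e).symm
  have : ((four hk : Subgroup G) : Set G) = (({1, a, b, a * b} : Finset G) : Set G) := by
    ext v; simp [four]
  rw [← SetLike.coe_sort_coe, this, Nat.card_coe_set_eq, Set.ncard_coe_finset,
    Finset.card_insert_of_notMem (by simp [h1a, h1b, h1c]),
    Finset.card_insert_of_notMem (by simp [hk.ne_ab, hac]),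
    Finset.card_insert_of_notMem (by simp [hbc]), Finset.card_singleton]

theorem four_le_cV : four hk ≤ cV a b := by
  intro v hv
  rcases (mem_four hQ hk).1 hv with rfl | rfl | rfl | rfl
  · exact one_mem _
  · exact a_mem hQ hk
  · exact b_mem hQ hk
  · exact mul_mem (a_mem hQ hk) (b_mem hQ hk)

theorem sq_of_mem_four {v : G} (hv : v ∈ four hk) : v * v = 1 := by
  have ha := mul_self_of_order_two hk.order_a
  have hb := mul_self_of_order_two hk.order_b
  rcases (mem_four hQ hk).1 hv with rfl | rfl | rfl | rfl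
  · exact one_mul 1
  · exact ha
  · exact hb
  · rw [mul_assoc, ← mul_assoc b a b, ← hk.comm_ab, mul_assoc a b b, hb, mul_one, ha]

theorem isPGroup_four : IsPGroup 2 (four hk) := IsPGroup.of_card (n := 2) (card_four hQ hk)

theorem not_eight_dvd : ¬ 8 ∣ Nat.card G := by
  obtain ⟨P⟩ : Nonempty (Sylow 2 G) := inferInstance
  intro h
  obtain ⟨K, hK⟩ := Sylow.exists_subgroup_card_pow_prime (G := G) 2 (n := 3) h
  obtain ⟨S, hS⟩ := (IsPGroup.of_card hK).exists_le_sylow
  have := card_le_of_le hS
  rw [hK, hk.sylow S] at this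
  omega

theorem ab_notMem : a * b ∉ center G := fun hab => by
  have h := Subgroup.Normal.conj_mem inferInstance _ hab n
  rw [conj_ab hQ hk] at h
  exact hk.bad_a.1 h

/-- An outside element of `cV` is moved by some element of its centraliser from each involution. -/
theorem exists_moving_outside {y : G} (hy : Bad y) (ho : Outside a b y) {v : G}
    (hv : v ∈ four hk) (hv1 : v ≠ 1) : ∃ m : G, m * y = y * m ∧ m * v ≠ v * m := by
  have hvZ : v ∉ center G := by
    rcases (mem_four hQ hk).1 hv with rfl | rfl | rfl | rfl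
    · exact absurd rfl hv1
    · exact hk.bad_a.1
    · exact b_notMem hQ hk
    · exact ab_notMem hQ hk
  by_contra hall
  push Not at hall
  obtain ⟨he, -⟩ := hQ.toHyp.centralizer_eq_of_central hy hvZ fun g hg =>
    mem_centralizer_singleton_iff.2 (hall g (mem_centralizer_singleton_iff.1 hg))
  rcases (mem_four hQ hk).1 hv with rfl | rfl | rfl | rfl
  · exact hv1 rfl
  · exact ho.1 he.symm
  · exact ho.2.1 he.symm
  · exact ho.2.2 he.symm

theorem mem_cV_of_commutes {y : G} (hyB : y ∈ cV a b) (hy : Bad y) (ho : Outside a b y) {v g : G}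
    (hv : v ∈ four hk) (hv1 : v ≠ 1) (hgy : g * y = y * g) (hgv : g * v = v * g) :
    g ∈ cV a b := by
  obtain ⟨m, hmy, hmv⟩ := exists_moving_outside hQ hk hy ho hv hv1
  obtain ⟨hya, hyb⟩ := mem_cV.1 hyB
  have hM : centralizer ({y} : Set G) ≠ ⊤ := hy.centralizer_ne_top
  have hvy : v * y = y * v := cV_comm hQ hk (four_le_cV hQ hk hv) hyB
  have key : ∀ w : G, w ∈ four hk → g * w = w * g := fun w hw =>
    hQ.toHyp.comm_of_mem hM (x := v) (y := m) (mem_centralizer_singleton_iff.2 hvy)
      (mem_centralizer_singleton_iff.2 hmy) hmv (mem_centralizer_singleton_iff.2 hgy)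
      (mem_centralizer_singleton_iff.2 (cV_comm hQ hk (four_le_cV hQ hk hw) hyB)) hgv
      (cV_comm hQ hk (four_le_cV hQ hk hw) (four_le_cV hQ hk hv))
  exact mem_cV.2 ⟨key a ((mem_four hQ hk).2 (Or.inr (Or.inl rfl))),
    key b ((mem_four hQ hk).2 (Or.inr (Or.inr (Or.inl rfl))))⟩

/-- `n ^ 3` centralises the four-group. -/
theorem n_cube_mem : n ^ 3 ∈ cV a b := by
  have hn3 : ∀ v : G, n ^ 3 * v * (n ^ 3)⁻¹ = n * (n * (n * v * n⁻¹) * n⁻¹) * n⁻¹ := fun v => by
    simp [pow_succ, mul_assoc]
  have e1 : n ^ 3 * a * (n ^ 3)⁻¹ = a := by rw [hn3, hk.conj_a, hk.conj_b, conj_ab hQ hk]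
  have e2 : n ^ 3 * b * (n ^ 3)⁻¹ = b := by rw [hn3, hk.conj_b, conj_ab hQ hk, hk.conj_a]
  exact mem_cV.2 ⟨by conv_rhs => rw [← e1]
                     group,
    by conv_rhs => rw [← e2]
       group⟩

/-- An outside element has the centraliser of the four-group as its centraliser, or commutes with `n`. -/
theorem centralizer_eq_or_comm {y : G} (hyB : y ∈ cV a b) (hyZ : y ∉ center G) (ho : Outside a b y) :
    centralizer ({y} : Set G) = cV a b ∨ (Bad y ∧ n * y = y * n) := by
  classical
  obtain ⟨hya, hyb⟩ := mem_cV.1 hyB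
  by_cases hy : Bad y
  swap
  · left
    simp only [Bad, not_and, not_exists] at hy
    refine le_antisymm (fun g hg => mem_cV.2 ⟨?_, ?_⟩) fun g hg =>
      mem_centralizer_singleton_iff.2 (cV_comm hQ hk hg hyB)
    · exact not_not.1 (hy hyZ g a (mem_centralizer_singleton_iff.1 hg) hya.symm)
    · exact not_not.1 (hy hyZ g b (mem_centralizer_singleton_iff.1 hg) hyb.symm)
  right
  refine ⟨hy, ?_⟩
  set M := centralizer ({y} : Set G) with hMdef
  have hBM : cV a b ≤ M := fun g hg => mem_centralizer_singleton_iff.2 (cV_comm hQ hk hg hyB)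
  -- it is enough to find an element of `M` moving the four-group
  suffices h : ∃ i : ℕ, (i = 1 ∨ i = 2) ∧ n ^ i ∈ M by
    obtain ⟨i, hi, hiM⟩ := h
    have h3 : n ^ 3 ∈ M := hBM (n_cube_mem hQ hk)
    have hn : n ∈ M := by
      rcases hi with rfl | rfl
      · simpa using hiM
      · have := mul_mem h3 (inv_mem hiM)
        rwa [show n ^ 3 * (n ^ 2)⁻¹ = n by group] at this
    exact mem_centralizer_singleton_iff.1 hn
  haveI : Fact (Nat.Prime 2) := ⟨Nat.prime_two⟩
  set V' : Subgroup M := (four hk).subgroupOf M with hV'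
  have hV'p : IsPGroup 2 V' := (isPGroup_four hQ hk).of_equiv
    (subgroupOfEquivOfLe ((four_le_cV hQ hk).trans hBM)).symm
  obtain ⟨P, hP⟩ := hV'p.exists_le_sylow
  have hPV : ((P : Subgroup M).map M.subtype) = four hk := by
    obtain ⟨S, hS⟩ := (P.isPGroup'.map M.subtype).exists_le_sylow
    refine (Subgroup.eq_of_le_of_card_ge ?_ ?_).symm
    · intro v hv
      exact ⟨⟨v, hBM (four_le_cV hQ hk hv)⟩, hP (mem_subgroupOf.2 hv), rfl⟩
    · rw [card_four hQ hk, ← hk.sylow S]
      exact card_le_of_le hS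
  by_contra hno
  push Not at hno
  have hcent : normalizer ((P : Subgroup M) : Set M) ≤ centralizer ((P : Subgroup M) : Set M) := by
    intro g hg
    have himg : ∀ v ∈ four hk, (g : G) * v * (g : G)⁻¹ ∈ four hk := by
      intro v hv
      rw [← hPV] at hv ⊢
      obtain ⟨v', hv', rfl⟩ := hv
      exact ⟨g * v' * g⁻¹, (mem_normalizer_iff.1 hg v').1 hv', by simp⟩
    have hc : (g : G) ∈ cV a b := by
      have ha' := himg a ((mem_four hQ hk).2 (Or.inr (Or.inl rfl)))
      have hb' := himg b ((mem_four hQ hk).2 (Or.inr (Or.inr (Or.inl rfl))))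
      have hga : (g : G) * a * (g : G)⁻¹ = a ∨ (g : G) * a * (g : G)⁻¹ = b ∨
          (g : G) * a * (g : G)⁻¹ = a * b :=
        ((mem_four hQ hk).1 ha').resolve_left fun e => hk.bad_a.1 (by
          rw [conj_eq_one_iff] at e; rw [e]; exact one_mem _)
      have hgb : (g : G) * b * (g : G)⁻¹ = a ∨ (g : G) * b * (g : G)⁻¹ = b ∨
          (g : G) * b * (g : G)⁻¹ = a * b :=
        ((mem_four hQ hk).1 hb').resolve_left fun e => b_notMem hQ hk (by
          rw [conj_eq_one_iff] at e; rw [e]; exact one_mem _)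
      obtain ⟨i, hi, c, hc, e⟩ := exists_pow_of_normalises hQ hk hga hgb
      have hiM : n ^ i ∈ M := by
        have := mul_mem g.2 (inv_mem (hBM hc))
        rwa [e, mul_inv_cancel_right] at this
      obtain rfl : i = 0 := by
        by_contra h0
        exact hno i (by omega) hiM
      rw [e, pow_zero, one_mul]; exact hc
    refine mem_centralizer_iff.2 fun v hv => Subtype.ext ?_
    have hvf : (v : G) ∈ four hk := hPV ▸ mem_map_of_mem M.subtype hv
    exact cV_comm hQ hk (four_le_cV hQ hk hvf) hc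
  have hcomp := MonoidHom.ker_transferSylow_isComplement' P hcent
  have hodd := MonoidHom.not_dvd_card_ker_transferSylow P hcent
  have hKn : (MonoidHom.transferSylow P hcent).ker.Normal := MonoidHom.normal_ker _
  generalize hK : (MonoidHom.transferSylow P hcent).ker = K at hcomp hodd hKn
  set R : Subgroup G := K.map M.subtype with hR
  have hRn : four hk ≤ normalizer (R : Set G) := by
    intro v hv
    have hvM : v ∈ M := hBM (four_le_cV hQ hk hv)
    rw [mem_normalizer_iff]
    intro r
    constructor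
    · rintro ⟨r', hr', rfl⟩
      exact ⟨⟨v, hvM⟩ * r' * ⟨v, hvM⟩⁻¹, hKn.conj_mem _ hr' _, rfl⟩
    · rintro ⟨r', hr', e⟩
      refine ⟨⟨v, hvM⟩⁻¹ * r' * ⟨v, hvM⟩, ?_, ?_⟩
      · simpa using hKn.conj_mem _ hr' (⟨v, hvM⟩⁻¹ : M)
      · simp only [coe_subtype] at e
        simp [e, mul_assoc]
  haveI : IsMulCommutative (four hk) :=
    ⟨⟨fun p q => Subtype.ext (cV_comm hQ hk (four_le_cV hQ hk p.2) (four_le_cV hQ hk q.2))⟩⟩
  have hnc : ¬ IsCyclic (four hk) := fun hc => by
    obtain ⟨g, hg⟩ := hc.exists_generator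
    have h1 : orderOf g = 4 := by rw [orderOf_eq_card_of_forall_mem_zpowers hg, card_four hQ hk]
    have h2 : orderOf g ≤ 2 := orderOf_le_of_pow_eq_one two_pos
      (Subtype.ext (by simpa [pow_two] using sq_of_mem_four hQ hk g.2))
    omega
  have hcop : (Nat.card (four hk)).Coprime (Nat.card R) := by
    rw [card_four hQ hk, hR, card_map_of_injective M.subtype_injective]
    exact Nat.Coprime.pow_left 2 ((Nat.prime_two.coprime_iff_not_dvd).2 hodd)
  have hgen := Cfsg.Agent.S0058.result (four hk) R hnc hRn hcop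
  have hRB : R ≤ cV a b := by
    rw [← hgen]
    refine iSup₂_le fun v hv g hg => ?_
    obtain ⟨hg1, hg2⟩ := hg
    obtain ⟨g', -, rfl⟩ := hg1
    exact mem_cV_of_commutes hQ hk hyB hy ho hv.1 hv.2
      (mem_centralizer_singleton_iff.1 g'.2) (mem_centralizer_singleton_iff.1 hg2)
  have hMB : M ≤ cV a b := by
    intro g hg
    obtain ⟨⟨⟨r, hr⟩, ⟨v, hv⟩⟩, e, -⟩ := hcomp.existsUnique ⟨g, hg⟩
    have : g = (r : G) * (v : G) := (congrArg Subtype.val e).symm
    rw [this]
    exact mul_mem (hRB (mem_map_of_mem M.subtype hr))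
      (four_le_cV hQ hk (hPV ▸ mem_map_of_mem M.subtype hv))
  obtain ⟨p, q, hp, hq, hpq⟩ := hy.2
  exact hpq (cV_comm hQ hk (hMB (mem_centralizer_singleton_iff.2 hp))
    (hMB (mem_centralizer_singleton_iff.2 hq)))

omit hk in
/-- No bad element lies in an abelian Sylow subgroup of its centraliser with non-abelian normaliser there. -/
theorem eq_one_of_bad_sylow (hTr : TransferBrick.{u}) {p : ℕ} [Fact p.Prime] {y : G} (hy : Bad y)
    {T : Subgroup G} (hT : IsPGroup p T) (hTc : IsMulCommutative T)
    (hTM : T ≤ centralizer ({y} : Set G))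
    (hmax : ∀ R : Subgroup G, IsPGroup p R → T ≤ R → R ≤ centralizer ({y} : Set G) → R = T)
    (hyT : y ∈ T) {c d : G} (hc : c ∈ normalizer (T : Set G)) (hd : d ∈ normalizer (T : Set G))
    (hcy : c * y = y * c) (hdy : d * y = y * d) (hcd : c * d ≠ d * c) : y = 1 := by
  have hH : normalizer (T : Set G) ≠ ⊤ := fun h => by
    haveI : T.Normal := normalizer_eq_top_iff.1 h
    have hne : T ≠ ⊤ := fun e => hy.centralizer_ne_top (eq_top_iff.2 (e ▸ hTM))
    exact hy.1 (normal_le_center hQ T hne hyT)
  have hN := hQ.toHyp.central_of_commutes hH (le_normalizer hyT) hc hd hcy hdy hcd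
  have hNM : normalizer (T : Set G) ≤ centralizer ({y} : Set G) := fun g hg =>
    mem_centralizer_singleton_iff.2 (hN g hg)
  obtain ⟨S, hS⟩ := hT.exists_le_sylow
  have hST : (S : Subgroup G) = T := by
    refine le_antisymm ?_ hS
    by_contra hne
    haveI : Group.IsNilpotent (S : Subgroup G) := S.2.isNilpotent
    have hlt : T.subgroupOf (S : Subgroup G) < ⊤ :=
      lt_top_iff_ne_top.2 fun h => hne (subgroupOf_eq_top.1 h)
    have hgrow := Group.normalizerCondition_of_isNilpotent (T.subgroupOf (S : Subgroup G)) hlt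
    obtain ⟨x, hx, hxT⟩ := SetLike.exists_of_lt hgrow
    have hxN : (x : G) ∈ normalizer (T : Set G) := by
      have h := le_normalizer_map (S : Subgroup G).subtype ⟨x, hx, rfl⟩
      rwa [map_subgroupOf_eq_of_le hS] at h
    have h := hmax ((S : Subgroup G) ⊓ normalizer (T : Set G)) S.2.to_inf_left
      (le_inf hS le_normalizer) (inf_le_right.trans hNM)
    exact hxT (mem_subgroupOf.2 (h.le ⟨x.2, hxN⟩))
  haveI : IsMulCommutative (S : Subgroup G) := by rw [hST]; exact hTc
  refine hTr G hQ.perfect p S this y (hST ▸ hyT) fun g hg => ?_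
  rw [hST] at hg
  exact hN g hg

theorem four_normal_of_eq {g : G} (hg : ∀ v ∈ four hk, g * v * g⁻¹ ∈ four hk) :
    g ∈ normalizer ((cV a b : Subgroup G) : Set G) := by
  have img : ∀ v : G, v ∈ four hk → v ≠ 1 →
      g * v * g⁻¹ = a ∨ g * v * g⁻¹ = b ∨ g * v * g⁻¹ = a * b := fun v hv hv1 =>
    ((mem_four hQ hk).1 (hg v hv)).resolve_left fun e => hv1 (conj_eq_one_iff.1 e)
  obtain ⟨i, -, c, hc, e⟩ := exists_pow_of_normalises hQ hk
    (img a ((mem_four hQ hk).2 (Or.inr (Or.inl rfl))) fun e => hk.bad_a.1 (e ▸ one_mem _))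
    (img b ((mem_four hQ hk).2 (Or.inr (Or.inr (Or.inl rfl)))) fun e =>
      b_notMem hQ hk (e ▸ one_mem _))
  rw [e]
  exact mul_mem (pow_mem (n_mem_normalizer hQ hk) i) (le_normalizer hc)

omit hQ hk in
/-- Two involutory transvections of `SL₂` do not commute. -/
theorem exists_involutions_SL (F : Type) [Field F] [CharP F 2] :
    ∃ u v : SL(2, F), u * u = 1 ∧ v * v = 1 ∧ u * v ≠ v * u := by
  have h2 : (1 : F) + 1 = 0 := CharTwo.add_self_eq_zero 1
  refine ⟨⟨!![1, 1; 0, 1], by simp [Matrix.det_fin_two]⟩,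
    ⟨!![1, 0; 1, 1], by simp [Matrix.det_fin_two]⟩, ?_, ?_, fun e => ?_⟩
  · refine Subtype.ext ?_
    change (!![1, 1; 0, 1] * !![1, 1; 0, 1] : Matrix (Fin 2) (Fin 2) F) = 1
    ext i j; fin_cases i <;> fin_cases j <;> simp [Matrix.mul_apply, Fin.sum_univ_two, h2]
  · refine Subtype.ext ?_
    change (!![1, 0; 1, 1] * !![1, 0; 1, 1] : Matrix (Fin 2) (Fin 2) F) = 1
    ext i j; fin_cases i <;> fin_cases j <;> simp [Matrix.mul_apply, Fin.sum_univ_two, h2]
  · have h : (!![1, 1; 0, 1] * !![1, 0; 1, 1] : Matrix (Fin 2) (Fin 2) F) =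
        !![1, 0; 1, 1] * !![1, 1; 0, 1] := congrArg Subtype.val e
    have := congrFun (congrFun h 0) 0
    simp [Matrix.mul_apply, Fin.sum_univ_two] at this

/-- The centraliser of an outside bad element normalises that of the four-group. -/
theorem centralizer_le_normalizer (hTr : TransferBrick.{u}) {y : G} {p k : ℕ} (hp : p.Prime)
    (hord : orderOf y = p ^ k) (hyB : y ∈ cV a b) (hy : Bad y) (ho : Outside a b y) :
    centralizer ({y} : Set G) ≤ normalizer ((cV a b : Subgroup G) : Set G) := by
  classical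
  haveI : Fact (Nat.Prime 2) := ⟨Nat.prime_two⟩
  haveI : Fact p.Prime := ⟨hp⟩
  set M := centralizer ({y} : Set G) with hMdef
  have hBM : cV a b ≤ M := fun g hg => mem_centralizer_singleton_iff.2 (cV_comm hQ hk hg hyB)
  have hfM : four hk ≤ M := (four_le_cV hQ hk).trans hBM
  have hyM : y ∈ M := mem_centralizer_singleton_iff.2 rfl
  have hca := hQ.toHyp.sub_ca M hy.centralizer_ne_top
  set X := center M with hXdef
  have hXc : ∀ x ∈ X, ∀ g : M, g * x = x * g := fun x hx g => mem_center_iff.1 hx g
  have sq1 : ∀ t ∈ X, t * t = 1 → t = 1 := by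
    intro t ht h2
    have hcomm : ∀ v ∈ four hk, (t : G) * v = v * t := fun v hv =>
      (congrArg Subtype.val (hXc t ht ⟨v, hfM hv⟩)).symm
    have htV : (t : G) ∈ cV a b :=
      mem_cV.2 ⟨hcomm a ((mem_four hQ hk).2 (Or.inr (Or.inl rfl))),
        hcomm b ((mem_four hQ hk).2 (Or.inr (Or.inr (Or.inl rfl))))⟩
    have h4 : (t : G) ∈ four hk :=
      (mem_four hQ hk).2 (invol_cases hQ hk htV (by exact_mod_cast congrArg Subtype.val h2))
    by_contra h1
    obtain ⟨m, hm, hmt⟩ := exists_moving_outside hQ hk hy ho h4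
      fun e => h1 (Subtype.ext e)
    exact hmt (congrArg Subtype.val (hXc t ht ⟨m, mem_centralizer_singleton_iff.2 hm⟩))
  have hXodd : Odd (Nat.card X) := by
    rw [Nat.odd_iff]
    by_contra h
    have h2 : 2 ∣ Nat.card X := Nat.dvd_of_mod_eq_zero (by omega)
    obtain ⟨t, ht⟩ := exists_prime_orderOf_dvd_card' 2 h2
    have := sq1 t t.2 (by
      have h := pow_orderOf_eq_one t
      rw [ht, pow_two] at h
      exact_mod_cast congrArg Subtype.val h)
    have h1 : t = 1 := Subtype.ext this
    rw [h1, orderOf_one] at ht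
    omega
  set π : M →* M ⧸ X := QuotientGroup.mk' X with hπ
  have hπX : ∀ g : M, π g = 1 ↔ g ∈ X := fun g => QuotientGroup.eq_one_iff g
  have hlift : ∀ q : M ⧸ X, q * q = 1 → ∃ t : M, π t = q ∧ t * t = 1 := by
    intro q hq
    obtain ⟨g, rfl⟩ := QuotientGroup.mk'_surjective X q
    have hgX : g * g ∈ X := (hπX _).1 (by rw [map_mul]; exact hq)
    obtain ⟨j, hj⟩ := hXodd
    refine ⟨g * (g * g) ^ j, ?_, ?_⟩
    · rw [map_mul, map_pow, (hπX _).2 hgX, one_pow, mul_one]
    · have hcomm : Commute g ((g * g) ^ j) := (Commute.mul_right rfl rfl).pow_right j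
      rw [hcomm.symm.mul_mul_mul_comm, ← pow_add, ← pow_succ']
      have h := pow_card_eq_one' (x := (⟨g * g, hgX⟩ : X))
      rw [hj, show 2 * j + 1 = j + j + 1 by omega] at h
      exact congrArg Subtype.val h
  have hfix : ∀ t : M, t * t = 1 → ∀ g : M, π g * π t = π t * π g → g * t = t * g := by
    intro t ht g hg
    have hx : (g * t)⁻¹ * (t * g) ∈ X := by
      refine (hπX _).1 ?_
      rw [map_mul, map_inv, map_mul, map_mul, hg, inv_mul_cancel]
    obtain ⟨x, hxX, hx'⟩ : ∃ x ∈ X, t * g = g * t * x := ⟨_, hx, by group⟩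
    have h1 : x * x = 1 := by
      have e1 : g⁻¹ * t * g = t * x := by rw [mul_assoc, hx']; group
      have e2 : t * x * (t * x) = 1 := by
        rw [← e1, show g⁻¹ * t * g * (g⁻¹ * t * g) = g⁻¹ * (t * t) * g by group, ht]
        group
      rwa [(show Commute x t from (hXc x hxX t).symm).mul_mul_mul_comm, ht, one_mul] at e2
    rw [hx', sq1 x hxX h1, mul_one]
  -- the image of the four-group
  let f : four hk →* M ⧸ X := π.comp (Subgroup.inclusion hfM)
  have hf : Function.Injective f := by
    rw [injective_iff_map_eq_one]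
    intro v hv
    have h := sq1 _ ((hπX _).1 hv) (Subtype.ext (by simpa using sq_of_mem_four hQ hk v.2))
    exact Subtype.ext (congrArg Subtype.val h :)
  have hfp : IsPGroup 2 f.range :=
    (isPGroup_four hQ hk).of_surjective f.rangeRestrict f.rangeRestrict_surjective
  have hfcard : Nat.card f.range = 4 := by
    rw [← Nat.card_congr (MonoidHom.ofInjective hf).toEquiv, card_four hQ hk]
  have h8 : ¬ 8 ∣ Nat.card (M ⧸ X) := fun h =>
    not_eight_dvd hQ hk (h.trans ((X.card_quotient_dvd_card).trans (card_subgroup_dvd_card M)))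
  have heven : Even (Nat.card (M ⧸ X)) := by
    rw [even_iff_two_dvd]
    have h4 := card_subgroup_dvd_card f.range
    rw [hfcard] at h4
    exact (by norm_num : 2 ∣ 4).trans h4
  have hinv : ∀ q : M ⧸ X, orderOf q = 2 →
      IsMulCommutative (centralizer ({q} : Set (M ⧸ X))) := by
    intro q hq
    obtain ⟨t, rfl, ht⟩ := hlift q (by rw [← pow_two, ← hq, pow_orderOf_eq_one])
    have htX : t ∉ X := fun h => by rw [(hπX t).2 h, orderOf_one] at hq; omega
    refine ⟨⟨fun u v => Subtype.ext ?_⟩⟩
    obtain ⟨g, hg⟩ := QuotientGroup.mk'_surjective X (u : M ⧸ X)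
    obtain ⟨g', hg'⟩ := QuotientGroup.mk'_surjective X (v : M ⧸ X)
    have e : g * g' = g' * g := hca t htX g g'
      (hfix t ht g (hg ▸ mem_centralizer_singleton_iff.1 u.2))
      (hfix t ht g' (hg' ▸ mem_centralizer_singleton_iff.1 v.2))
    change (u : M ⧸ X) * v = v * u
    rw [← hg, ← hg', ← map_mul, e, map_mul]
  rcases Cfsg.Agent.S2202.result heven hinv with hcyc | hnor | ⟨F, _, _, A, _, _, hF, hA, ⟨e⟩⟩
  · exfalso
    obtain ⟨P, hP⟩ := hfp.exists_le_sylow
    haveI := hcyc P
    haveI : IsCyclic f.range := isCyclic_of_injective (inclusion hP) (inclusion_injective hP)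
    haveI hc : IsCyclic (four hk) :=
      isCyclic_of_surjective (MonoidHom.ofInjective hf).symm.toMonoidHom
        (MonoidHom.ofInjective hf).symm.surjective
    obtain ⟨g, hg⟩ := hc.exists_generator
    have h1 : orderOf g = 4 := by rw [orderOf_eq_card_of_forall_mem_zpowers hg, card_four hQ hk]
    have h2 : orderOf g ≤ 2 := orderOf_le_of_pow_eq_one two_pos
      (Subtype.ext (by simpa [pow_two] using sq_of_mem_four hQ hk g.2))
    omega
  · -- a normal Sylow 2-subgroup
    obtain ⟨P, hP⟩ := hfp.exists_le_sylow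
    haveI := hnor P
    have hPeq : f.range = (P : Subgroup (M ⧸ X)) := by
      refine eq_of_le_of_card_ge hP ?_
      rw [hfcard]
      obtain ⟨m, hm⟩ := P.2.exists_card_eq
      have hd : 2 ^ m ∣ Nat.card (M ⧸ X) := hm ▸ card_subgroup_dvd_card (P : Subgroup (M ⧸ X))
      rw [hm]
      rcases Nat.lt_or_ge m 3 with h | h
      · interval_cases m <;> norm_num
      · exact absurd ((pow_dvd_pow 2 h).trans hd) h8
    intro g hg
    refine four_normal_of_eq hQ hk fun v hv => ?_
    have hmem : π ⟨g, hg⟩ * π ⟨v, hfM hv⟩ * (π ⟨g, hg⟩)⁻¹ ∈ f.range := by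
      rw [hPeq]
      exact (hnor P).conj_mem _ (hP ⟨⟨v, hv⟩, rfl⟩) _
    obtain ⟨⟨w, hw⟩, hw'⟩ := hmem
    set g' : M := ⟨g, hg⟩
    set v' : M := ⟨v, hfM hv⟩
    set w' : M := ⟨w, hfM hw⟩
    have hw2 : w' * w' = 1 := Subtype.ext (sq_of_mem_four hQ hk hw)
    have hv2 : v' * v' = 1 := Subtype.ext (sq_of_mem_four hQ hk hv)
    have hc2 : g' * v' * g'⁻¹ * (g' * v' * g'⁻¹) = 1 := by
      rw [show g' * v' * g'⁻¹ * (g' * v' * g'⁻¹) = g' * (v' * v') * g'⁻¹ by group, hv2]
      group
    obtain ⟨x, hxX, hx⟩ : ∃ x ∈ X, g' * v' * g'⁻¹ = w' * x := by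
      refine ⟨w'⁻¹ * (g' * v' * g'⁻¹), (hπX _).1 ?_, by group⟩
      simp only [map_mul, map_inv]
      rw [← hw']
      exact inv_mul_cancel _
    have h1 : x * x = 1 := by
      rw [hx, (show Commute x w' from (hXc x hxX w').symm).mul_mul_mul_comm, hw2, one_mul] at hc2
      exact hc2
    rw [sq1 x hxX h1, mul_one] at hx
    have : g * v * g⁻¹ = w := congrArg Subtype.val hx
    rwa [this]
  · -- `SL₂(4)`: impossible
    exfalso
    haveI := hF
    have hcardQ : Nat.card (M ⧸ X) = Nat.card SL(2, F) * Nat.card A := by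
      rw [Nat.card_congr e.toEquiv, Nat.card_prod]
    obtain ⟨m, -, hm⟩ := FiniteField.card F 2
    have hSL := Cfsg.Agent.Lib.LinGroup.card_SL_mul (F := F) 2 (by norm_num)
    simp only [Fin.prod_univ_two, Fin.val_zero, Fin.val_one, pow_zero, pow_one] at hSL
    have hF4 : Fintype.card F = 4 := by
      rw [hm] at hSL ⊢
      obtain ⟨m, h0⟩ := m
      simp only [PNat.mk_coe] at hSL ⊢
      rcases Nat.lt_or_ge m 3 with h | h
      · interval_cases m
        · exfalso
          have h4 : 4 ∣ Nat.card (M ⧸ X) := hfcard ▸ card_subgroup_dvd_card f.range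
          have h6 : Nat.card SL(2, F) = 6 := by norm_num at hSL ⊢; omega
          rw [hcardQ, h6] at h4
          obtain ⟨j, hj⟩ := hA
          omega
        · norm_num
      · exfalso
        have h8' : 8 ∣ Nat.card SL(2, F) := by
          have hco : (8 : ℕ).Coprime (2 ^ m - 1) := by
            have h2 : 2 ∣ 2 ^ m := dvd_pow_self 2 (by omega)
            have h1 : 1 ≤ 2 ^ m := Nat.one_le_two_pow
            have h3 : Nat.Coprime 2 (2 ^ m - 1) :=
              (Nat.prime_two.coprime_iff_not_dvd).2 (by omega)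
            simpa using h3.pow_left 3
          refine hco.dvd_of_dvd_mul_left ?_
          rw [hSL]
          refine Dvd.dvd.mul_left ?_ _
          refine Nat.dvd_sub ?_ (pow_dvd_pow 2 h)
          exact (pow_dvd_pow 2 h).trans (dvd_pow_self _ two_ne_zero)
        exact h8 (hcardQ ▸ h8'.mul_right _)
    have hSL60 : Nat.card SL(2, F) = 60 := by
      rw [hF4] at hSL
      norm_num at hSL ⊢
      omega
    obtain ⟨s₁, s₂, hs1, hs2, hs12⟩ := exists_involutions_SL F
    obtain ⟨t₁, ht1, ht1'⟩ := hlift (e.symm (s₁, 1)) (by rw [← map_mul]; simp [hs1])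
    obtain ⟨t₂, ht2, ht2'⟩ := hlift (e.symm (s₂, 1)) (by rw [← map_mul]; simp [hs2])
    have ht12 : t₁ * t₂ ≠ t₂ * t₁ := fun h => hs12 (by
      have h2 := congrArg (fun z => e (π z)) h
      simpa [ht1, ht2] using congrArg Prod.fst h2)
    have hA1 : ∀ α : A, α = 1 := by
      intro α
      obtain ⟨r, hr⟩ := QuotientGroup.mk'_surjective X (e.symm (1, α))
      have hcomm : ∀ s : SL(2, F), π r * e.symm (s, 1) = e.symm (s, 1) * π r := fun s => by
        rw [hπ, hr, ← map_mul, ← map_mul]; simp
      have hrX : r ∈ X := by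
        by_contra hrX
        exact ht12 (hca r hrX t₁ t₂
          (hfix t₁ ht1' r (by rw [ht1]; exact hcomm s₁)).symm
          (hfix t₂ ht2' r (by rw [ht2]; exact hcomm s₂)).symm)
      have h1 : e.symm (1, α) = 1 := hr ▸ (hπX r).2 hrX
      have := congrArg (fun q => (e q).2) h1
      simpa using this
    have hcard60 : Nat.card (M ⧸ X) = 60 := by
      haveI : Subsingleton A := ⟨fun u v => (hA1 u).trans (hA1 v).symm⟩
      rw [hcardQ, hSL60, Nat.card_of_subsingleton (1 : A), mul_one]
    have hperf : ∀ K : Subgroup (M ⧸ X), (∀ u v : M ⧸ X, u * v * u⁻¹ * v⁻¹ ∈ K) → K = ⊤ := by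
      intro K hK
      obtain ⟨c, hc0, hc1⟩ : ∃ c : F, c ≠ 0 ∧ c ^ 2 ≠ 1 := by
        obtain ⟨c, hc⟩ := Finset.exists_mem_notMem_of_card_lt_card (s := ({0, 1} : Finset F))
          (t := Finset.univ) (lt_of_le_of_lt Finset.card_le_two (by rw [Finset.card_univ, hF4]; norm_num))
        simp only [Finset.mem_insert, Finset.mem_singleton, not_or] at hc
        refine ⟨c, hc.2.1, fun h => hc.2.2 ?_⟩
        rcases sq_eq_one_iff.1 h with h' | h'
        · exact h'
        · rwa [CharTwo.neg_eq] at h'
      have hle : commutator SL(2, F) ≤ K.comap (e.symm.toMonoidHom.comp (MonoidHom.inl _ A)) := by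
        rw [_root_.commutator_def, commutator_le]
        intro u _ v _
        rw [mem_comap, map_commutatorElement, commutatorElement_def]
        exact hK _ _
      rw [Matrix.SL2.commutator_eq_top hc0 hc1] at hle
      refine eq_top_iff.2 fun q _ => ?_
      have h := hle (mem_top (e q).1)
      rw [mem_comap] at h
      have e1 : q = e.symm ((e q).1, 1) := e.injective (by
        rw [e.apply_symm_apply]; exact Prod.ext rfl (hA1 _))
      rw [e1]; exact h
    -- a Sylow subgroup for the prime of `y`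
    set y' : M := ⟨y, hyM⟩
    have hy'X : y' ∈ X := mem_center_iff.2 fun g =>
      Subtype.ext (mem_centralizer_singleton_iff.1 g.2)
    have hy'p : IsPGroup p (zpowers y') := by
      refine IsPGroup.of_card (n := k) ?_
      rw [Nat.card_zpowers, ← hord]
      exact (orderOf_injective M.subtype M.subtype_injective y').symm
    obtain ⟨P, hP⟩ := hy'p.exists_le_sylow
    have hyP : y' ∈ (P : Subgroup M) := hP (mem_zpowers y')
    obtain ⟨c, d, hc, hd, hcd⟩ : ∃ c d : M, c ∈ normalizer ((P : Subgroup M) : Set M) ∧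
        d ∈ normalizer ((P : Subgroup M) : Set M) ∧ c * d ≠ d * c := by
      by_contra hall
      push Not at hall
      have hcent : normalizer ((P : Subgroup M) : Set M) ≤ centralizer ((P : Subgroup M) : Set M) :=
        fun g hg => mem_centralizer_iff.2 fun h hh => hall h g (le_normalizer hh) hg
      have hcomp := MonoidHom.ker_transferSylow_isComplement' P hcent
      haveI hPc : IsMulCommutative (P : Subgroup M) :=
        ⟨⟨fun u v => Subtype.ext (hall u v (le_normalizer u.2) (le_normalizer v.2))⟩⟩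
      have hKtop : (MonoidHom.transferSylow P hcent).ker.map π = ⊤ := by
        refine hperf _ fun u v => ?_
        obtain ⟨u', rfl⟩ := QuotientGroup.mk'_surjective X u
        obtain ⟨v', rfl⟩ := QuotientGroup.mk'_surjective X v
        refine ⟨u' * v' * u'⁻¹ * v'⁻¹, ?_, by simp [hπ]⟩
        change MonoidHom.transferSylow P hcent _ = 1
        rw [map_mul, map_mul, map_mul, map_inv, map_inv, hPc.is_comm.comm _
          (MonoidHom.transferSylow P hcent v'), mul_assoc (MonoidHom.transferSylow P hcent v'),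
          mul_inv_cancel, mul_one, mul_inv_cancel]
      have hPX : (P : Subgroup M) ≤ X := by
        intro h hh
        obtain ⟨κ, hκ, hκ'⟩ : π h ∈ (MonoidHom.transferSylow P hcent).ker.map π := hKtop ▸ mem_top _
        obtain ⟨x, hxX, rfl⟩ : ∃ x ∈ X, h = κ * x := ⟨κ⁻¹ * h, (hπX _).1 (by
          rw [map_mul, map_inv, hκ', inv_mul_cancel]), by group⟩
        set m := (P : Subgroup M).index
        obtain ⟨i, hi⟩ := P.2.exists_card_eq
        have hxm : x ^ m ∈ (P : Subgroup M) := by
          have hcard : (P : Subgroup M).index * Nat.card (P : Subgroup M) = Nat.card M :=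
            index_mul_card _
          have hxp : IsPGroup p (zpowers (x ^ m)) := by
            refine (IsPGroup.iff_card).2 ?_
            rw [Nat.card_zpowers]
            obtain ⟨j, -, hj⟩ := (Nat.dvd_prime_pow hp).1
              (orderOf_dvd_of_pow_eq_one (x := x ^ m) (n := p ^ i)
                (by rw [← pow_mul, ← hi, hcard]; exact pow_card_eq_one'))
            exact ⟨j, hj⟩
          haveI : (zpowers (x ^ m)).Normal := ⟨fun g hg u => by
            have : g ∈ X := (zpowers_le.2 (pow_mem hxX m)) hg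
            rwa [hXc g this u, mul_inv_cancel_right]⟩
          have hsup := IsPGroup.to_sup_of_normal_right P.2 hxp
          have := P.is_maximal' hsup le_sup_left
          exact this ▸ mem_sup_right (mem_zpowers _)
        have hκm : κ ^ m ∈ (P : Subgroup M) := by
          have h1 : κ ^ m * x ^ m ∈ (P : Subgroup M) := by
            rw [← (show Commute κ x from hXc x hxX κ).mul_pow]; exact pow_mem hh m
          simpa using mul_mem h1 (inv_mem hxm)
        have hκ1 : κ ^ m = 1 :=
          (Subgroup.mem_bot).1 (hcomp.disjoint.le_bot ⟨pow_mem hκ m, hκm⟩)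
        have hco : (Nat.card (P : Subgroup M)).Coprime m :=
          P.2.exists_card_eq.elim fun j hj => hj ▸
            Nat.Coprime.pow_left j (hp.coprime_iff_not_dvd.2 P.not_dvd_index)
        have hhm : (κ * x) ^ m ∈ X := by
          rw [(show Commute κ x from hXc x hxX κ).mul_pow, hκ1, one_mul]; exact pow_mem hxX m
        obtain ⟨z, hz⟩ : ∃ z : (P : Subgroup M), z ^ m = ⟨κ * x, hh⟩ :=
          (powCoprime hco).surjective _
        obtain ⟨l, hl⟩ := exists_pow_eq_self_of_coprime (x := (⟨κ * x, hh⟩ : (P : Subgroup M)))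
          (n := m) (hco.symm.coprime_dvd_right (orderOf_dvd_natCard _))
        have := congrArg Subtype.val hl
        simp only [SubgroupClass.coe_pow] at this
        rw [← this]; exact pow_mem hhm l
      obtain ⟨c, d, hc, hd, hcd⟩ := hy.2
      refine hcd (congrArg Subtype.val (hall ⟨c, mem_centralizer_singleton_iff.2 hc⟩
        ⟨d, mem_centralizer_singleton_iff.2 hd⟩ ?_ ?_)) <;>
      · rw [mem_normalizer_iff]
        intro h
        have : ∀ g : M, h ∈ (P : Subgroup M) ∨ g * h * g⁻¹ ∈ (P : Subgroup M) → g * h * g⁻¹ = h := by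
          intro g hg
          rcases hg with hg | hg
          · rw [hXc h (hPX hg) g, mul_inv_cancel_right]
          · have h2 := hXc _ (hPX hg) g
            calc g * h * g⁻¹ = g⁻¹ * (g * (g * h * g⁻¹)) := by group
              _ = g⁻¹ * ((g * h * g⁻¹) * g) := by rw [h2]
              _ = h := by group
        exact ⟨fun hh => by rwa [this _ (Or.inl hh)], fun hh => by rwa [this _ (Or.inr hh)] at hh⟩
    have hPab : IsMulCommutative (P : Subgroup M) := by
      let g : (P : Subgroup M) →* M ⧸ X := π.comp (P : Subgroup M).subtype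
      have hker : g.ker ≤ center (P : Subgroup M) := fun u hu => mem_center_iff.2 fun v =>
        Subtype.ext (hXc _ ((hπX _).1 hu) v)
      have hp2 : p ≠ 2 := by
        rintro rfl
        have h1 : (2 : ℕ).Coprime (Nat.card X) := Nat.prime_two.coprime_iff_not_dvd.2
          (by obtain ⟨j, hj⟩ := hXodd; omega)
        have h2 : orderOf (⟨y', hy'X⟩ : X) = 1 := by
          refine Nat.eq_one_of_dvd_coprimes (h1.pow_left k) ?_ (orderOf_dvd_natCard _)
          rw [← orderOf_injective X.subtype X.subtype_injective ⟨y', hy'X⟩, ← hord]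
          exact (orderOf_injective M.subtype M.subtype_injective y').symm.dvd
        have h3 : (y : G) = 1 := congrArg (fun z : X => ((z : M) : G)) (orderOf_eq_one_iff.1 h2)
        exact hy.1 (h3 ▸ one_mem _)
      haveI : IsCyclic g.range := by
        obtain ⟨j, hj⟩ := (P.2.of_surjective g.rangeRestrict g.rangeRestrict_surjective).exists_card_eq
        have hd : p ^ j ∣ 60 := hj ▸ hcard60 ▸ card_subgroup_dvd_card g.range
        rcases Nat.lt_or_ge j 2 with hj2 | hj2
        · interval_cases j
          · haveI : Subsingleton g.range :=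
              (Nat.card_eq_one_iff_unique.1 (by rw [hj, pow_zero])).1
            infer_instance
          · exact isCyclic_of_prime_card (p := p) (by rw [hj, pow_one])
        · exfalso
          have hd2 : p * p ∣ 60 := by
            rw [← pow_two]; exact (pow_dvd_pow p hj2).trans hd
          have hle : p ≤ 7 := by
            by_contra h
            have := Nat.le_of_dvd (by norm_num) hd2
            nlinarith
          have := hp.two_le
          interval_cases p <;> first | omega | (norm_num at hd2; done) | (norm_num at hp; done)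
      exact MonoidHom.isMulCommutative_of_isCyclic_of_ker_le_center g.rangeRestrict
        (by rwa [MonoidHom.ker_rangeRestrict])
    set T := (P : Subgroup M).map M.subtype with hT
    have hTc : IsMulCommutative T := by
      refine ⟨⟨?_⟩⟩
      rintro ⟨_, u, hu, rfl⟩ ⟨_, v, hv, rfl⟩
      refine Subtype.ext ?_
      have h : u * v = v * u := congrArg Subtype.val (hPab.is_comm.comm ⟨u, hu⟩ ⟨v, hv⟩)
      simpa using congrArg M.subtype h
    refine hy.1 (?_ : y ∈ center G)
    rw [eq_one_of_bad_sylow hQ hTr hy (P.2.map _) hTc (map_subtype_le _) (fun R hR hTR hRM => ?_)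
      ⟨y', hyP, rfl⟩ (le_normalizer_map M.subtype ⟨c, hc, rfl⟩)
      (le_normalizer_map M.subtype ⟨d, hd, rfl⟩)
      (mem_centralizer_singleton_iff.1 c.2) (mem_centralizer_singleton_iff.1 d.2)
      (fun h => hcd (Subtype.ext h))]
    · exact one_mem _
    · have h1 : R.subgroupOf M = (P : Subgroup M) := P.is_maximal'
        (hR.of_equiv (subgroupOfEquivOfLe hRM).symm) fun u hu => hTR ⟨u, hu, rfl⟩
      rw [← h1, map_subgroupOf_eq_of_le hRM]

end FixAux

end Cfsg.Agent.Lib.MinNonCA34
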