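import Mathlib
import Cfsg.Agent.Lib.MinNonCA34.FixCentralStruct

/-!
# The Klein configuration: the odd part of the centraliser of the four-group
-/

set_option autoImplicit false
set_option linter.unusedSectionVars false
set_option linter.style.haveILetI false

namespace Cfsg.Agent.Lib.MinNonCA34

open Subgroup

namespace FixAux

universe u

variable {G : Type u} [Group G] [Finite G] {a b n : G} {O : Subgroup G}

theorem conj_centralizer_eq {u v g : G}
    (h : centralizer ({u} : Set G) = centralizer ({v} : Set G)) :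
    centralizer ({g * u * g⁻¹} : Set G) = centralizer ({g * v * g⁻¹} : Set G) := by
  ext c
  rw [mem_centralizer_conj, mem_centralizer_conj, h]

theorem bad_conj {v : G} (hv : Bad v) (g : G) : Bad (g * v * g⁻¹) := by
  obtain ⟨hvZ, c, d, hc, hd, hcd⟩ := hv
  refine ⟨fun h => hvZ ?_, g * c * g⁻¹, g * d * g⁻¹, ?_, ?_, fun h => hcd ?_⟩
  · simpa [mul_assoc] using Subgroup.Normal.conj_mem inferInstance _ h g⁻¹
  · simpa [mul_assoc] using congrArg (fun t => g * t * g⁻¹) hc
  · simpa [mul_assoc] using congrArg (fun t => g * t * g⁻¹) hd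
  · simpa [mul_assoc] using congrArg (fun t => g⁻¹ * t * g) h

theorem bad_of_centralizer_eq {y v : G} (hy : y ∉ center G) (hv : Bad v)
    (h : centralizer ({y} : Set G) = centralizer ({v} : Set G)) : Bad y := by
  obtain ⟨-, c, d, hc, hd, hcd⟩ := hv
  refine ⟨hy, c, d, ?_, ?_, hcd⟩ <;>
  · refine mem_centralizer_singleton_iff.1 ?_
    rw [h]
    exact mem_centralizer_singleton_iff.2 ‹_›

variable (hQ : QS G) (hk : Klein G a b n O)
include hQ hk

theorem odd_orderOf_of_mem_O {z : G} (hz : z ∈ O) : Odd (orderOf z) := by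
  refine Odd.of_dvd_nat hk.odd_O ?_
  rw [← Subgroup.orderOf_mk z hz]
  exact orderOf_dvd_natCard _

theorem mem_cV_of_mem_O {z : G} (hz : z ∈ O) (hb : z * b = b * z) : z ∈ cV a b :=
  mem_cV.2 ⟨mem_centralizer_singleton_iff.1 (hk.O_le hz), hb⟩

theorem mem_O_of_odd {z : G} (hz : z ∈ cV a b) (ho : Odd (orderOf z)) : z ∈ O := by
  obtain ⟨o, ho', e⟩ := hk.cover z (mem_cV.1 hz).1
  obtain ⟨w, hw, rfl⟩ : ∃ w ∈ four hk, z = o * w := by
    rcases e with e | e | e | e
    · exact ⟨1, one_mem _, by rw [mul_one]; exact e⟩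
    · exact ⟨a, (mem_four hQ hk).2 (Or.inr (Or.inl rfl)), e⟩
    · exact ⟨b, (mem_four hQ hk).2 (Or.inr (Or.inr (Or.inl rfl))), e⟩
    · exact ⟨a * b, (mem_four hQ hk).2 (Or.inr (Or.inr (Or.inr rfl))), e⟩
  have hocV : o ∈ cV a b := by
    simpa using mul_mem hz (inv_mem (four_le_cV hQ hk hw))
  have hc : Commute o w := cV_comm hQ hk hocV (four_le_cV hQ hk hw)
  obtain ⟨j, hj⟩ := (odd_orderOf_of_mem_O hQ hk ho').mul ho
  have h1 : (o * w) ^ (orderOf o * orderOf (o * w)) = 1 := by
    rw [mul_comm, pow_mul, pow_orderOf_eq_one, one_pow]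
  rw [hc.mul_pow, pow_mul, pow_orderOf_eq_one, one_pow, one_mul, hj, pow_succ, pow_mul,
    pow_two, sq_of_mem_four hQ hk hw, one_pow, one_mul] at h1
  rwa [h1, mul_one]

theorem centralizer_a_ne_b : centralizer ({a} : Set G) ≠ centralizer ({b} : Set G) := fun e => by
  obtain ⟨g, hga, hgb⟩ := exists_moving hQ hk
  exact hgb (mem_centralizer_singleton_iff.1 (e ▸ mem_centralizer_singleton_iff.2 hga))

theorem bad_b : Bad b := hk.conj_a ▸ bad_conj hk.bad_a n

theorem bad_ab : Bad (a * b) := hk.conj_b ▸ bad_conj (bad_b hQ hk) n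

/-- Two elements of `cV` with distinct bad centralisers: their product has neither. -/
theorem product_sep {u v : G} (hu : Bad u) (hv : Bad v)
    (hne : centralizer ({u} : Set G) ≠ centralizer ({v} : Set G)) :
    u * v ∉ center G ∧ centralizer ({u * v} : Set G) ≠ centralizer ({u} : Set G) ∧
      centralizer ({u * v} : Set G) ≠ centralizer ({v} : Set G) := by
  have key : centralizer ({u * v} : Set G) ≠ centralizer ({u} : Set G) := fun e => hne <| by
    refine (hQ.toHyp.centralizer_eq_of_central hu hv.1 fun g hg => ?_).1.symm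
    have h1 : g * (u * v) = u * v * g := mem_centralizer_singleton_iff.1 (e.symm ▸ hg)
    have h2 : g * u = u * g := mem_centralizer_singleton_iff.1 hg
    refine mem_centralizer_singleton_iff.2 (mul_left_cancel (a := u) ?_)
    calc u * (g * v) = u * g * v := by rw [mul_assoc]
      _ = g * (u * v) := by rw [← h2, mul_assoc]
      _ = u * (v * g) := by rw [h1, mul_assoc]
  have key' : centralizer ({u * v} : Set G) ≠ centralizer ({v} : Set G) := fun e => hne <| by
    refine (hQ.toHyp.centralizer_eq_of_central hv hu.1 fun g hg => ?_).1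
    have h1 : g * (u * v) = u * v * g := mem_centralizer_singleton_iff.1 (e.symm ▸ hg)
    have h2 : g * v = v * g := mem_centralizer_singleton_iff.1 hg
    refine mem_centralizer_singleton_iff.2 (mul_right_cancel (b := v) ?_)
    calc g * u * v = g * (u * v) := by rw [mul_assoc]
      _ = u * v * g := h1
      _ = u * g * v := by rw [mul_assoc, ← h2, mul_assoc]
  refine ⟨fun hZ => hne ?_, key, key'⟩
  ext g
  have hg := mem_center_iff.1 hZ g
  rw [mem_centralizer_singleton_iff, mem_centralizer_singleton_iff]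
  constructor <;> intro h
  · refine mul_left_cancel (a := u) ?_
    calc u * (g * v) = u * g * v := by rw [mul_assoc]
      _ = g * (u * v) := by rw [← h, mul_assoc]
      _ = u * (v * g) := by rw [hg, mul_assoc]
  · refine mul_right_cancel (b := v) ?_
    calc g * u * v = g * (u * v) := by rw [mul_assoc]
      _ = u * v * g := hg
      _ = u * g * v := by rw [mul_assoc, ← h, mul_assoc]

/-- A noncentral `p`-element of `O ⊓ C(b)` yields one outside the three centralisers. -/
theorem exists_outside {p k : ℕ} (hp : p.Prime) {y : G} (hy : y ∈ O) (hyb : y * b = b * y) (hyZ : y ∉ center G)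
    (hord : orderOf y = p ^ k) :
    ∃ (x : G) (j : ℕ), x ∈ O ∧ x * b = b * x ∧ x ∉ center G ∧ orderOf x = p ^ j ∧ Outside a b x := by
  classical
  have hyV := mem_cV_of_mem_O hQ hk hy hyb
  -- a product of two `p`-elements of `cV` qualifies
  have qual : ∀ x ∈ cV a b, (∃ j, orderOf x ∣ p ^ j) → x ∉ center G → Odd (orderOf x) →
      Outside a b x → ∃ (x : G) (j : ℕ), x ∈ O ∧ x * b = b * x ∧ x ∉ center G ∧
        orderOf x = p ^ j ∧ Outside a b x := fun x hx hj hxZ hxo hxO => by
    obtain ⟨j, hj⟩ := hj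
    obtain ⟨i, -, hi⟩ := (Nat.dvd_prime_pow hp).1 hj
    exact ⟨x, i, mem_O_of_odd hQ hk hx hxo, (mem_cV.1 hx).2, hxZ, hi, hxO⟩
  by_cases hout : Outside a b y
  · exact ⟨y, k, hy, hyb, hyZ, hord, hout⟩
  have hyo := odd_orderOf_of_mem_O hQ hk hy
  have hk0 : k ≠ 0 := fun e => hyZ (by
    rw [e, pow_zero, orderOf_eq_one_iff] at hord; rw [hord]; exact one_mem _)
  set y' := n * y * n⁻¹ with hy'
  have hy'V : y' ∈ cV a b := (mem_normalizer_iff.1 (n_mem_normalizer hQ hk) y).1 hyV
  have hcomm : Commute y y' := cV_comm hQ hk hyV hy'V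
  have hy'ord : orderOf y' = orderOf y := by
    rw [hy', ← MulAut.conj_apply]
    exact orderOf_injective (MulAut.conj n).toMonoidHom (MulAut.conj n).injective y
  -- the three bad centralisers are permuted
  obtain ⟨v, hv, hCy⟩ : ∃ v, (v = a ∨ v = b ∨ v = a * b) ∧
      centralizer ({y} : Set G) = centralizer ({v} : Set G) := by
    simp only [Outside, not_and_or, not_not] at hout
    rcases hout with h | h | h
    exacts [⟨a, Or.inl rfl, h⟩, ⟨b, Or.inr (Or.inl rfl), h⟩, ⟨a * b, Or.inr (Or.inr rfl), h⟩]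
  have dab := centralizer_a_ne_b hQ hk
  have dbc : centralizer ({b} : Set G) ≠ centralizer ({a * b} : Set G) := fun e => dab (by
    have h := conj_centralizer_eq (g := n⁻¹) e
    have e1 : n⁻¹ * b * n⁻¹⁻¹ = a := by rw [← hk.conj_a]; group
    have e2 : n⁻¹ * (a * b) * n⁻¹⁻¹ = b := by rw [← hk.conj_b]; group
    rwa [e1, e2] at h)
  have dca : centralizer ({a * b} : Set G) ≠ centralizer ({a} : Set G) := fun e => dab (by
    have h := conj_centralizer_eq (g := n) e
    rwa [conj_ab hQ hk, hk.conj_a] at h)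
  have hbad : Bad y := by
    refine bad_of_centralizer_eq hyZ ?_ hCy
    rcases hv with rfl | rfl | rfl
    exacts [hk.bad_a, bad_b hQ hk, bad_ab hQ hk]
  have hbad' : Bad y' := bad_conj hbad n
  have hne : centralizer ({y} : Set G) ≠ centralizer ({y'} : Set G) := fun e => by
    have h := conj_centralizer_eq (g := n) hCy
    rw [← hy', ← e, hCy] at h
    rcases hv with rfl | rfl | rfl
    · rw [hk.conj_a] at h; exact dab h
    · rw [hk.conj_b] at h; exact dbc h
    · rw [conj_ab hQ hk] at h; exact dca h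
  obtain ⟨h1, h2, h3⟩ := product_sep hQ hk hbad hbad' hne
  have hd : ∀ i : ℕ, orderOf (y ^ i * y') ∣ p ^ k := fun i => by
    refine orderOf_dvd_of_pow_eq_one ?_
    rw [(hcomm.pow_left i).mul_pow, ← pow_mul, mul_comm, pow_mul, ← hord, pow_orderOf_eq_one,
      one_pow, one_mul, ← hy'ord, pow_orderOf_eq_one]
  have hodd : ∀ i : ℕ, Odd (orderOf (y ^ i * y')) := fun i =>
    Odd.of_dvd_nat (hord ▸ hyo) (hd i)
  have hmem : ∀ i : ℕ, y ^ i * y' ∈ cV a b := fun i => mul_mem (pow_mem hyV i) hy'V
  by_cases h4 : Outside a b (y * y')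
  · have := hmem 1
    have e : y ^ 1 * y' = y * y' := by rw [pow_one]
    exact qual _ (e ▸ hmem 1) ⟨k, e ▸ hd 1⟩ h1 (e ▸ hodd 1) h4
  · -- then the product has the third centraliser
    obtain ⟨w, hw, hCw⟩ : ∃ w, (w = a ∨ w = b ∨ w = a * b) ∧
        centralizer ({y * y'} : Set G) = centralizer ({w} : Set G) := by
      simp only [Outside, not_and_or, not_not] at h4
      rcases h4 with h | h | h
      exacts [⟨a, Or.inl rfl, h⟩, ⟨b, Or.inr (Or.inl rfl), h⟩, ⟨a * b, Or.inr (Or.inr rfl), h⟩]
    have hbad'' : Bad (y * y') := by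
      refine bad_of_centralizer_eq h1 ?_ hCw
      rcases hw with rfl | rfl | rfl
      exacts [hk.bad_a, bad_b hQ hk, bad_ab hQ hk]
    obtain ⟨h5, h6, h7⟩ := product_sep hQ hk hbad hbad'' h2.symm
    have e : y ^ 2 * y' = y * (y * y') := by rw [pow_two, mul_assoc]
    have h8 : centralizer ({y * (y * y')} : Set G) ≠ centralizer ({y'} : Set G) := fun e' => by
      have hyy : y ^ 2 ∉ center G := fun h => hyZ (by
        obtain ⟨l, hl⟩ := exists_pow_eq_self_of_coprime (x := y) (n := 2)
          ((Nat.prime_two.coprime_iff_not_dvd).2 (by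
            obtain ⟨i, hi⟩ := hyo; omega))
        rw [← hl]; exact pow_mem h l)
      have hle : centralizer ({y'} : Set G) ≤ centralizer ({y} : Set G) := fun g hg => by
        have g1 : Commute g y' := mem_centralizer_singleton_iff.1 hg
        have g2 : Commute g (y ^ 2 * y') := by
          rw [e]; exact mem_centralizer_singleton_iff.1 (e'.symm ▸ hg)
        have g3 : Commute g (y ^ 2) := by simpa using g2.mul_right g1.inv_right
        obtain ⟨l, hl⟩ := exists_pow_eq_self_of_coprime (x := y) (n := 2)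
          ((Nat.prime_two.coprime_iff_not_dvd).2 (by
            obtain ⟨i, hi⟩ := hyo; omega))
        refine mem_centralizer_singleton_iff.2 ?_
        rw [← hl]
        exact (g3.pow_right l).eq
      exact hne (hQ.toHyp.centralizer_eq_of_central hbad' hyZ hle).1
    refine qual _ (e ▸ hmem 2) ⟨k, e ▸ hd 2⟩ h5 (e ▸ hodd 2) ?_
    -- the centralisers of `y`, `y'`, `y * y'` are the three of the involutions
    have hv' : ∃ v', (v' = a ∨ v' = b ∨ v' = a * b) ∧
        centralizer ({y'} : Set G) = centralizer ({v'} : Set G) := by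
      refine ⟨n * v * n⁻¹, ?_, conj_centralizer_eq hCy⟩
      rcases hv with rfl | rfl | rfl
      exacts [Or.inr (Or.inl hk.conj_a), Or.inr (Or.inr hk.conj_b), Or.inl (conj_ab hQ hk)]
    obtain ⟨v', hv', hCy'⟩ := hv'
    rw [hCy] at h2 h6 hne
    rw [hCy'] at h3 h8 hne
    rw [hCw] at h2 h3 h7
    rcases hv with rfl | rfl | rfl <;> rcases hv' with rfl | rfl | rfl <;>
      rcases hw with rfl | rfl | rfl <;>
      first
      | exact absurd rfl hne
      | exact absurd rfl h2
      | exact absurd rfl h3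
      | exact ⟨h6, h8, h7⟩
      | exact ⟨h6, h7, h8⟩
      | exact ⟨h8, h6, h7⟩
      | exact ⟨h7, h6, h8⟩
      | exact ⟨h8, h7, h6⟩
      | exact ⟨h7, h8, h6⟩

end FixAux

end Cfsg.Agent.Lib.MinNonCA34
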