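import Mathlib
import Cfsg.Agent.Lib.MinNonCA34.FixCentralLocal
import Cfsg.Agent.Lib.MinNonCA34.FixCentralStruct
import Cfsg.Agent.Lib.MinNonCA34.FixCentralCore

/-!
# The Klein configuration: no prime at least five in the fixed points
-/

set_option autoImplicit false
set_option linter.unusedSectionVars false
set_option linter.style.haveILetI false

namespace Cfsg.Agent.Lib.MinNonCA34

open Subgroup

namespace FixAux

universe u

theorem no_five (hTr : TransferBrick.{u}) (hChar : CharBrick.{u}) {G : Type u} [Group G] [Finite G] {a b n : G}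
    {O : Subgroup G} (hQ : QS G) (hk : Klein G a b n O) {p k : ℕ} (hp : p.Prime) (h5 : 5 ≤ p) {y : G} (hy : y ∈ O)
    (hyb : y * b = b * y) (hyZ : y ∉ center G) (hord : orderOf y = p ^ k) : False := by
  haveI : Fact p.Prime := ⟨hp⟩
  obtain ⟨x, j, hxO, hxb, hxZ, hxord, hout⟩ := exists_outside hQ hk hp hy hyb hyZ hord
  have hxV : x ∈ cV a b := mem_cV_of_mem_O hQ hk hxO hxb
  set N := normalizer ((cV a b : Subgroup G) : Set G) with hN
  have hnN : n ∈ N := n_mem_normalizer hQ hk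
  let P0 : Subgroup G :=
    { carrier := {g | g ∈ cV a b ∧ ∃ i : ℕ, g ^ p ^ i = 1}
      one_mem' := ⟨one_mem _, 0, one_pow _⟩
      mul_mem' := by
        rintro g h ⟨hg, i, hi⟩ ⟨hh, l, hl⟩
        refine ⟨mul_mem hg hh, i + l, ?_⟩
        rw [(show Commute g h from cV_comm hQ hk hg hh).mul_pow, pow_add, pow_mul, hi, one_pow,
          mul_comm, pow_mul, hl, one_pow, one_mul]
      inv_mem' := by
        rintro g ⟨hg, i, hi⟩
        exact ⟨inv_mem hg, i, by rw [inv_pow, hi, inv_one]⟩ }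
  have hP0V : P0 ≤ cV a b := fun g hg => hg.1
  have hP0p : IsPGroup p P0 := fun g => by
    obtain ⟨-, i, hi⟩ := g.2
    exact ⟨i, Subtype.ext (by rw [SubgroupClass.coe_pow, hi]; rfl)⟩
  have hP0c : IsMulCommutative P0 :=
    ⟨⟨fun g h => Subtype.ext (cV_comm hQ hk (hP0V g.2) (hP0V h.2))⟩⟩
  have hxP : x ∈ P0 := ⟨hxV, j, by rw [← hxord, pow_orderOf_eq_one]⟩
  -- the quotient of `N` by the centraliser of the four-group
  set C' := (cV a b).subgroupOf N with hC'
  haveI : C'.Normal := normal_subgroupOf_of_le_normalizer le_rfl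
  set π := QuotientGroup.mk' C' with hπ
  have hπ1 : ∀ g : N, π g = 1 ↔ (g : G) ∈ cV a b := fun g =>
    (QuotientGroup.eq_one_iff g).trans mem_subgroupOf
  set qn := π ⟨n, hnN⟩ with hqn
  have hqn3 : qn ^ 3 = 1 := by
    rw [hqn, ← map_pow, hπ1]
    exact n_cube_mem hQ hk
  have hnV : n ∉ cV a b := fun h => hk.ne_ab (by
    rw [← hk.conj_a, (mem_cV.1 h).1, mul_inv_cancel_right])
  have hqn1 : qn ≠ 1 := fun h => hnV ((hπ1 _).1 h)
  have hgen : ∀ g : N, ∃ i : ℕ, i < 3 ∧ π g = qn ^ i := fun g => by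
    obtain ⟨i, hi, c, hc, e⟩ := exists_pow_of_mem_normalizer hQ hk g.2
    refine ⟨i, hi, ?_⟩
    have hcN : c ∈ N := le_normalizer hc
    rw [show g = ⟨n, hnN⟩ ^ i * ⟨c, hcN⟩ from Subtype.ext (by simpa using e), map_mul, map_pow,
      (hπ1 ⟨c, hcN⟩).2 hc, mul_one]
  have hpN : ∀ g : G, g ∈ N → ∀ i : ℕ, g ^ p ^ i = 1 → g ∈ P0 := fun g hg i hi => by
    refine ⟨(hπ1 ⟨g, hg⟩).1 ?_, i, hi⟩
    obtain ⟨l, -, hl⟩ := hgen ⟨g, hg⟩
    have h3 : π ⟨g, hg⟩ ^ 3 = 1 := by rw [hl, ← pow_mul, mul_comm, pow_mul, hqn3, one_pow]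
    have hpi : π ⟨g, hg⟩ ^ p ^ i = 1 := by
      rw [← map_pow, show (⟨g, hg⟩ : N) ^ p ^ i = 1 from Subtype.ext (by simpa using hi), map_one]
    have hco : Nat.gcd 3 (p ^ i) = 1 :=
      Nat.Coprime.pow_right i ((Nat.coprime_primes Nat.prime_three hp).2 (by omega))
    have := pow_gcd_eq_one.2 ⟨h3, hpi⟩
    rwa [hco, pow_one] at this
  have hNP : N ≤ normalizer (P0 : Set G) := fun g hg => by
    rw [mem_normalizer_iff]
    intro h
    have e : ∀ i : ℕ, (g * h * g⁻¹) ^ p ^ i = 1 ↔ h ^ p ^ i = 1 := fun i => by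
      rw [conj_pow, conj_eq_one_iff]
    constructor
    · rintro ⟨hh, i, hi⟩
      exact ⟨(mem_normalizer_iff.1 hg h).1 hh, i, (e i).2 hi⟩
    · rintro ⟨hh, i, hi⟩
      exact ⟨(mem_normalizer_iff.1 hg h).2 hh, i, (e i).1 hi⟩
  rcases centralizer_eq_or_comm hQ hk hxV hxZ hout with hC | ⟨hbad, hnx⟩
  swap
  · have hM := centralizer_le_normalizer hQ hk hTr hp hxord hxV hbad hout
    refine hxZ ?_
    rw [eq_one_of_bad_sylow hQ hTr hbad hP0p hP0c
      (fun g hg => mem_centralizer_singleton_iff.2 (cV_comm hQ hk (hP0V hg) hxV))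
      (fun R hR hle hRM => le_antisymm (fun g hg => by
        obtain ⟨i, hi⟩ := hR ⟨g, hg⟩
        exact hpN g (hM (hRM hg)) i (by simpa using congrArg Subtype.val hi)) hle)
      hxP (hNP hnN) (hNP (le_normalizer (a_mem hQ hk))) hnx
      (cV_comm hQ hk (a_mem hQ hk) hxV) (fun e => hk.ne_ab (by rw [← hk.conj_a, e, mul_inv_cancel_right]))]
    exact one_mem _
  -- the centraliser of `x` is the centraliser of the four-group
  have hCP : centralizer (P0 : Set G) = cV a b := le_antisymm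
    (fun g hg => hC ▸ mem_centralizer_singleton_iff.2 (mem_centralizer_iff.1 hg x hxP).symm)
    (fun g hg => mem_centralizer_iff.2 fun h hh => cV_comm hQ hk (hP0V hh) hg)
  have hNeq : normalizer (P0 : Set G) = N := by
    refine le_antisymm (fun g hg => ?_) hNP
    have step : ∀ g ∈ normalizer (P0 : Set G), ∀ c ∈ cV a b, g * c * g⁻¹ ∈ cV a b := fun g hg c hc => by
      rw [← hC, mem_centralizer_singleton_iff]
      have h1 : g⁻¹ * x * g ∈ P0 := by
        simpa using (mem_normalizer_iff.1 (inv_mem hg) x).1 hxP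
      have h2 := cV_comm hQ hk hc (hP0V h1)
      calc g * c * g⁻¹ * x = g * (c * (g⁻¹ * x * g)) * g⁻¹ := by group
        _ = g * ((g⁻¹ * x * g) * c) * g⁻¹ := by rw [h2]
        _ = x * (g * c * g⁻¹) := by group
    rw [hN, mem_normalizer_iff]
    refine fun c => ⟨step g hg c, fun h => ?_⟩
    simpa [mul_assoc] using step g⁻¹ (inv_mem hg) _ h
  obtain ⟨S, hS⟩ := hP0p.exists_le_sylow
  have hSP : (S : Subgroup G) = P0 := by
    refine le_antisymm ?_ hS
    by_contra hne
    haveI : Group.IsNilpotent (S : Subgroup G) := S.2.isNilpotent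
    have hlt : P0.subgroupOf (S : Subgroup G) < ⊤ :=
      lt_top_iff_ne_top.2 fun h => hne (subgroupOf_eq_top.1 h)
    obtain ⟨g, hg, hgP⟩ := SetLike.exists_of_lt
      (Group.normalizerCondition_of_isNilpotent (P0.subgroupOf (S : Subgroup G)) hlt)
    have hgN : (g : G) ∈ normalizer (P0 : Set G) := by
      have h := le_normalizer_map (S : Subgroup G).subtype ⟨g, hg, rfl⟩
      rwa [map_subgroupOf_eq_of_le hS] at h
    obtain ⟨i, hi⟩ := S.2 g
    exact hgP (mem_subgroupOf.2 (hpN g (hNeq ▸ hgN) i (by simpa using congrArg Subtype.val hi)))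
  have hncommute : ∀ z ∈ P0, z ≠ 1 → ∀ g ∈ N, g * z = z * g → g ∈ cV a b := by
    intro z hz hz1 g hg hgz
    obtain ⟨i, hi, c, hc, e⟩ := exists_pow_of_mem_normalizer hQ hk hg
    by_contra hgV
    have hcz : Commute c z := cV_comm hQ hk hc (hP0V hz)
    have hiz : Commute (n ^ i) z := by
      have h := (show Commute g z from hgz).mul_left hcz.inv_left
      rwa [e, mul_inv_cancel_right] at h
    have hnz : Commute n z := by
      have h3 : Commute (n ^ 3) z := cV_comm hQ hk (n_cube_mem hQ hk) (hP0V hz)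
      have hi0 : i ≠ 0 := fun h0 => hgV (by rw [e, h0, pow_zero, one_mul]; exact hc)
      obtain rfl | rfl : i = 1 ∨ i = 2 := by omega
      · simpa using hiz
      · have h := h3.mul_left hiz.inv_left
        rwa [show n ^ 3 * (n ^ 2)⁻¹ = n by group] at h
    refine hz1 (hTr G hQ.perfect p S (hSP ▸ hP0c) z (hSP ▸ hz) fun g hg => ?_)
    rw [hSP, hNeq] at hg
    obtain ⟨l, -, d, hd, rfl⟩ := exists_pow_of_mem_normalizer hQ hk hg
    exact ((hnz.pow_left l).mul_left (cV_comm hQ hk hd (hP0V hz))).eq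
  refine hChar G hQ.perfect a b O hk.order_a hk.order_b hk.comm_ab hk.ne_ab hk.sylow
    (fun K hK haK => by
      by_contra hne
      exact hk.bad_a.1 (normal_le_center hQ K (hN := hK) hne haK))
    hk.odd_O hk.O_normal hk.O_le hk.cover ⟨n, hk.conj_a, hk.conj_b⟩ p h5 S (hSP ▸ hP0c) ?_ ?_ ?_ ?_ ?_ ?_
  · rw [hSP]
    intro h0
    exact hxZ (by rw [(mem_bot.1 (h0 ▸ hxP) : x = 1)]; exact one_mem _)
  · rw [hSP, hCP]
  · rw [hSP, hCP, hNeq]
    show Nat.card (N ⧸ C') = 3
    have hord3 : orderOf qn = 3 := orderOf_eq_prime hqn3 hqn1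
    rw [← hord3, ← Nat.card_zpowers, (eq_top_iff' (zpowers qn)).2 fun q => ?_, Subgroup.card_top]
    obtain ⟨g, rfl⟩ := QuotientGroup.mk'_surjective C' q
    obtain ⟨i, -, hi⟩ := hgen g
    exact hi ▸ pow_mem (mem_zpowers qn) i
  · rw [hSP, hCP, hNeq]
    refine ⟨n, hnN, le_antisymm (sup_le le_normalizer (zpowers_le.2 hnN)) fun g hg => ?_⟩
    obtain ⟨i, -, c, hc, rfl⟩ := exists_pow_of_mem_normalizer hQ hk hg
    exact mul_mem (mem_sup_right (pow_mem (mem_zpowers n) i)) (mem_sup_left hc)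
  · intro z hz hz1
    rw [hSP] at hz ⊢
    rw [hCP, hNeq]
    refine le_antisymm (fun g hg => hncommute z hz hz1 g hg.2 (mem_centralizer_singleton_iff.1 hg.1))
      (fun g hg => ⟨mem_centralizer_singleton_iff.2 (cV_comm hQ hk hg (hP0V hz)), le_normalizer hg⟩)
  · exact ⟨x, hSP ▸ hxP, fun h => hxZ (h ▸ one_mem _), hC⟩

end FixAux

end Cfsg.Agent.Lib.MinNonCA34
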