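import Mathlib
import Cfsg.Agent.Lib.MinNonCA34.Spec
import Cfsg.Agent.Lib.Frobenius.KernelNilpotent
import Cfsg.Agent.Lib.Frobenius.Complement
import Cfsg.Agent.Lib.Frobenius.Disconnected
import Cfsg.Agent.Lib.Transfer.Criteria
import Cfsg.Agent.Lib.Transfer.PResidual
import Cfsg.Agent.Lib.NilpotentPerm.Basic
import Cfsg.Agent.Lib.Perm.ZassenhausPGL
import Cfsg.Agent.Lib.Suzuki.Group
import Cfsg.Agent.Lib.SuzukiSp4.Iso
import Cfsg.Agent.S4249

/-!
# The Klein configuration: the 3-structure of a CA-group whose order is not divisible by 8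
-/

set_option autoImplicit false

namespace Cfsg.Agent.Lib.MinNonCA34

open Subgroup

universe u

namespace FixAux

namespace ThreeLocalAux

variable {H : Type u} [Group H] [Finite H]

/-- A normal nilpotent subgroup of index prime to `p` makes the group `p`-closed. -/
theorem isPClosed_of_nilpotent_normal {p : ℕ} [Fact p.Prime] {N : Subgroup H} [N.Normal]
    (hN : Group.IsNilpotent N) (hi : ¬ p ∣ N.index) : Cfsg.IsPClosed p H := by
  intro P
  have hle : (P : Subgroup H) ≤ N := by
    intro x hx
    have h1 : orderOf (QuotientGroup.mk' N x) ∣ orderOf x := orderOf_map_dvd _ x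
    have h2 : orderOf (QuotientGroup.mk' N x) ∣ N.index := by
      rw [Subgroup.index_eq_card]; exact orderOf_dvd_natCard _
    obtain ⟨k, hk⟩ := P.2 ⟨x, hx⟩
    have hk' : x ^ p ^ k = 1 := congrArg Subtype.val hk
    obtain ⟨j, -, hj⟩ := (Nat.dvd_prime_pow (Fact.out : p.Prime)).1
      (h1.trans (orderOf_dvd_of_pow_eq_one hk'))
    rcases Nat.eq_zero_or_pos j with hj0 | hj0
    · rw [hj0, pow_zero, orderOf_eq_one_iff] at hj
      exact (QuotientGroup.eq_one_iff x).1 hj
    · exact absurd ((dvd_pow_self p hj0.ne').trans (hj ▸ h2)) hi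
  have hn : ((P.subtype hle : Sylow p N) : Subgroup N).Normal :=
    ((Group.isNilpotent_of_finite_tfae (G := N)).out 0 3 rfl rfl).1 hN p inferInstance _
  have hc : ((P.subtype hle : Sylow p N) : Subgroup N).Characteristic :=
    Sylow.characteristic_of_normal _ hn
  have hm : (((P.subtype hle : Sylow p N) : Subgroup N).map N.subtype).Normal := inferInstance
  rwa [Sylow.coe_subtype, subgroupOf_map_subtype, inf_eq_left.2 hle] at hm

/-- A group with a nilpotent normal subgroup of index `p` has a normal `p`-complement. -/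
theorem hasNormalPComplement_of_nilpotent {p : ℕ} [hp : Fact p.Prime] {N : Subgroup H} [N.Normal]
    (hN : Group.IsNilpotent N) (hi : N.index = p) : Cfsg.HasNormalPComplement p H := by
  rw [Transfer.hasNormalPComplement_iff_locallyPTrivial]
  intro Q hQ g hg hco
  have hgN : g ∈ N := by
    have h2 : orderOf (QuotientGroup.mk' N g) ∣ p := by
      rw [← hi, Subgroup.index_eq_card]; exact orderOf_dvd_natCard _
    exact (QuotientGroup.eq_one_iff g).1 (orderOf_eq_one_iff.1
      (Nat.eq_one_of_dvd_coprimes hco (orderOf_map_dvd (QuotientGroup.mk' N) g) h2))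
  refine mem_centralizer_iff.2 fun q hq => ?_
  set c := g * q * g⁻¹ * q⁻¹ with hc
  have hcQ : c ∈ Q := mul_mem ((mem_normalizer_iff.1 hg q).1 hq) (inv_mem hq)
  have hcN : c ∈ N := by
    rw [hc, show g * q * g⁻¹ * q⁻¹ = g * (q * g⁻¹ * q⁻¹) by group]
    exact mul_mem hgN (Subgroup.Normal.conj_mem inferInstance _ (inv_mem hgN) q)
  obtain ⟨k, hk⟩ := hQ ⟨c, hcQ⟩
  have hk' : c ^ p ^ k = 1 := congrArg Subtype.val hk
  have hgc : g * c = c * g := by
    have h := NilpotentPerm.commute_of_coprime_orderOf hN (a := (⟨g, hgN⟩ : N)) (b := ⟨c, hcN⟩)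
      (by
        rw [← Subgroup.orderOf_coe, ← Subgroup.orderOf_coe]
        exact (hco.pow_right k).coprime_dvd_right (orderOf_dvd_of_pow_eq_one hk'))
    exact congrArg Subtype.val h
  have hpow : ∀ i : ℕ, g ^ i * q * (g ^ i)⁻¹ = c ^ i * q := by
    intro i
    induction i with
    | zero => simp
    | succ i ih =>
      have e1 : g * c ^ i = c ^ i * g := (Commute.pow_right hgc i).eq
      calc g ^ (i + 1) * q * (g ^ (i + 1))⁻¹
          = g * (g ^ i * q * (g ^ i)⁻¹) * g⁻¹ := by rw [pow_succ']; group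
        _ = g * c ^ i * q * g⁻¹ := by rw [ih]; group
        _ = c ^ i * (g * q * g⁻¹ * q⁻¹) * q := by rw [e1]; group
        _ = c ^ (i + 1) * q := by rw [← hc, ← pow_succ]
  have h1 := hpow (orderOf g)
  rw [pow_orderOf_eq_one, one_mul, inv_one, mul_one, right_eq_mul] at h1
  have hc1 : c = 1 := orderOf_eq_one_iff.1 (Nat.eq_one_of_dvd_coprimes (hco.pow_right k)
    (orderOf_dvd_of_pow_eq_one h1) (orderOf_dvd_of_pow_eq_one hk'))
  rw [hc, mul_inv_eq_one, mul_inv_eq_iff_eq_mul] at hc1
  exact hc1.symm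

/-- `p`-closure lifts through central extensions. -/
theorem isPClosed_of_quotient {p : ℕ} [Fact p.Prime]
    (h : Cfsg.IsPClosed p (H ⧸ center H)) : Cfsg.IsPClosed p H := by
  intro P
  set π := QuotientGroup.mk' (center H) with hπ
  have hs : Function.Surjective π := QuotientGroup.mk'_surjective _
  have hn : ((P : Subgroup H).map π).Normal := h (P.mapSurjective hs)
  constructor
  intro x hx g
  obtain ⟨y, hy, hyx⟩ := mem_map.1 (hn.conj_mem _ (mem_map_of_mem π hx) (π g))
  rw [← map_inv π g, ← map_mul, ← map_mul] at hyx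
  set z := y⁻¹ * (g * x * g⁻¹) with hz
  have hzc : z ∈ center H := (QuotientGroup.eq (s := center H)).1 hyx
  obtain ⟨k, hk⟩ := P.2 ⟨x, hx⟩
  obtain ⟨l, hl⟩ := P.2 ⟨y, hy⟩
  have hzp : z ^ p ^ (k + l) = 1 := by
    rw [hz, (show Commute y⁻¹ (g * x * g⁻¹) from ?_).mul_pow, inv_pow, conj_pow,
      show x ^ p ^ (k + l) = 1 by rw [pow_add, pow_mul, congrArg Subtype.val hk |> fun e => (show x ^ p ^ k = 1 from e), one_pow],
      show y ^ p ^ (k + l) = 1 by rw [pow_add, mul_comm, pow_mul, congrArg Subtype.val hl |> fun e => (show y ^ p ^ l = 1 from e), one_pow]]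
    · simp
    · show y⁻¹ * (g * x * g⁻¹) = g * x * g⁻¹ * y⁻¹
      have e : g * x * g⁻¹ = y * z := by rw [hz]; group
      rw [e, inv_mul_cancel_left, mem_center_iff.1 hzc y, mul_inv_cancel_right]
  have hzP : z ∈ (P : Subgroup H) := by
    obtain ⟨Q, hQ⟩ := ((IsPGroup.iff_orderOf (p := p) (G := zpowers z)).2 fun w => by
      obtain ⟨i, hi⟩ := mem_zpowers_iff.1 w.2
      obtain ⟨j, -, hj⟩ := (Nat.dvd_prime_pow (Fact.out : p.Prime)).1
        (orderOf_dvd_of_pow_eq_one (show w ^ p ^ (k + l) = 1 from Subtype.ext (by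
          rw [SubgroupClass.coe_pow, ← hi, ← zpow_natCast, ← zpow_mul, mul_comm, zpow_mul,
            zpow_natCast, hzp, one_zpow]; rfl)))
      exact ⟨j, hj⟩).exists_le_sylow
    obtain ⟨m, hm⟩ := MulAction.exists_smul_eq H Q P
    have hzQ : m * z * m⁻¹ ∈ (P : Subgroup H) := by
      rw [← hm]
      exact Subgroup.smul_mem_pointwise_smul z (MulAut.conj m) _ (hQ (mem_zpowers z))
    rwa [mem_center_iff.1 hzc m, mul_inv_cancel_right] at hzQ
  have e : g * x * g⁻¹ = y * z := by rw [hz]; group
  rw [e]; exact mul_mem hy hzP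

/-- A cyclic Sylow subgroup modulo the centre gives an abelian Sylow subgroup. -/
theorem sylow_comm_of_quotient {p : ℕ} [Fact p.Prime]
    (h : ∀ P : Sylow p (H ⧸ center H), IsCyclic (P : Subgroup (H ⧸ center H)))
    (P : Sylow p H) : IsMulCommutative P := by
  have hs : Function.Surjective (QuotientGroup.mk' (center H)) := QuotientGroup.mk'_surjective _
  have : IsCyclic ((P : Subgroup H).map (QuotientGroup.mk' (center H))) := h (P.mapSurjective hs)
  let f : (P : Subgroup H) →* (P : Subgroup H).map (QuotientGroup.mk' (center H)) :=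
    (QuotientGroup.mk' (center H)).subgroupMap P
  have hf : f.ker ≤ center (P : Subgroup H) := by
    intro w hw
    have h1 : (w : H) ∈ center H := (QuotientGroup.eq_one_iff (w : H)).1 (congrArg Subtype.val hw)
    exact mem_center_iff.2 fun x => Subtype.ext (mem_center_iff.1 h1 x)
  exact ⟨⟨fun x y => commutative_of_cyclic_center_quotient f hf x y⟩⟩

/-- The three alternatives for `H` itself. -/
theorem three_local_self (hCQ : CAQuotBrick.{u}) (hSA : SylowAbelianBrick.{u}) (hca : IsCA H)
    (h8 : ¬ 8 ∣ Nat.card H) :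
    (∀ P : Sylow 3 H, IsMulCommutative P) ∨ Cfsg.IsPClosed 3 H ∨ Cfsg.HasNormalPComplement 3 H := by
  classical
  have : Fact (Nat.Prime 3) := ⟨Nat.prime_three⟩
  by_cases hcomm : IsMulCommutative H
  · exact Or.inl fun P => ⟨⟨fun x y => Subtype.ext (hcomm.is_comm.comm (x : H) (y : H))⟩⟩
  have h8Q : ¬ 8 ∣ Nat.card (H ⧸ center H) := fun h =>
    h8 (h.trans (Subgroup.card_quotient_dvd_card _))
  rcases hCQ H hca hcomm with ⟨⟨e⟩⟩ | ⟨p, hp, hHu⟩ | ⟨Hc, hHc⟩ | ⟨F, _, _, hq, ⟨e⟩⟩ |
      ⟨F, _, _, -, hodd, ⟨e⟩⟩ | ⟨F, _, _, m, hm, hF, ⟨e⟩⟩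
  · -- the symmetric group of degree four
    exfalso
    rw [Nat.card_congr e.toEquiv, Nat.card_perm, Nat.card_fin] at h8Q
    exact h8Q (by decide)
  · -- Hughes
    have : Fact p.Prime := ⟨hp⟩
    by_cases hpg : IsPGroup p (H ⧸ center H)
    · by_cases hp3 : p = 3
      · subst hp3
        refine Or.inr (Or.inl (isPClosed_of_quotient fun P => ?_))
        rw [show (P : Subgroup (H ⧸ center H)) = ⊤ from
          (P.is_maximal' (hpg.to_subgroup ⊤) le_top).symm]
        infer_instance
      · refine Or.inl (sylow_comm_of_quotient fun P => ?_)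
        have : Subsingleton (P : Subgroup (H ⧸ center H)) := by
          refine (Nat.card_eq_one_iff_unique.1 ?_).1
          obtain ⟨i, hi⟩ := IsPGroup.iff_card.1 P.2
          obtain ⟨j, hj⟩ := IsPGroup.iff_card.1 (hpg.to_subgroup (P : Subgroup (H ⧸ center H)))
          exact Nat.eq_one_of_dvd_coprimes
            (Nat.Coprime.pow i j ((Nat.coprime_primes Nat.prime_three hp).2 (Ne.symm hp3)))
            (hi ▸ dvd_rfl) (hj ▸ dvd_rfl)
        infer_instance
    · obtain ⟨hnil, hidx⟩ := S4249.result p hp hpg hHu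
      set K := Subgroup.closure {g : H ⧸ center H | g ^ p ≠ 1} with hK
      have hKn : K.Normal := by
        refine ⟨fun x hx g => ?_⟩
        have h1 : K ≤ K.comap (MulAut.conj g).toMonoidHom := by
          rw [hK, closure_le]
          intro y hy
          refine subset_closure (show (g * y * g⁻¹) ^ p ≠ 1 from fun e => hy ?_)
          rwa [conj_pow, conj_eq_one_iff] at e
        exact h1 hx
      by_cases hp3 : p = 3
      · subst hp3
        refine Or.inr (Or.inr (hasNormalPComplement_of_nilpotent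
          (N := K.comap (QuotientGroup.mk' (center H))) ?_ ?_))
        · let f : (K.comap (QuotientGroup.mk' (center H))) →* K :=
            ((QuotientGroup.mk' (center H)).comp (Subgroup.subtype _)).codRestrict K fun x => x.2
          have := hnil
          refine Subgroup.isNilpotent_of_ker_le_center f (fun w hw => ?_)
          have h1 : (w : H) ∈ center H := (QuotientGroup.eq_one_iff (w : H)).1 (congrArg Subtype.val hw)
          exact mem_center_iff.2 fun x => Subtype.ext (mem_center_iff.1 h1 x)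
        · rw [index_comap_of_surjective _ (QuotientGroup.mk'_surjective _), hidx]
      · refine Or.inr (Or.inl (isPClosed_of_quotient (isPClosed_of_nilpotent_normal hnil ?_)))
        rw [hidx]
        exact fun h => hp3 ((Nat.prime_dvd_prime_iff_eq Nat.prime_three hp).1 h).symm
  · -- Frobenius
    obtain ⟨N, hN, hNn, hNc⟩ := Frobenius.exists_kernel hHc
    have := hNn
    have hnil := Frobenius.isNilpotent_of_eq_kernel hHc hN.symm
    have hcop := Frobenius.coprime_card_index hHc
    have hcardN : N.index = Nat.card Hc := hNc.symm.index_eq_card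
    have hcardH : Hc.index = Nat.card N := hNc.index_eq_card
    by_cases h3 : 3 ∣ N.index
    · -- cyclic Sylow subgroups
      refine Or.inl (sylow_comm_of_quotient fun P => ?_)
      have hK : N ≠ ⊥ := by
        intro e
        exact hHc.2.1 (index_eq_one.1 (by rw [hcardH, e, Subgroup.card_bot]))
      have hfpf := Frobenius.fpf_of_isFrobeniusComplement hNc.disjoint.eq_bot hHc
      obtain ⟨R⟩ : Nonempty (Sylow 3 Hc) := inferInstance
      have hRc : IsCyclic R := (Frobenius.sylow_cyclic_or_quaternion hNc hK hfpf 3 R).resolve_right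
        fun h => absurd h.1 (by norm_num)
      have h3N : ¬ 3 ∣ Nat.card N := fun h => Nat.not_coprime_of_dvd_of_dvd (by norm_num)
        (hcardN ▸ h3) (hcardH ▸ h) hcop
      have hcardR : Nat.card ((R : Subgroup Hc).map Hc.subtype) = 3 ^ (Nat.card (H ⧸ center H)).factorization 3 := by
        rw [Nat.card_congr ((R : Subgroup Hc).equivMapOfInjective _ Hc.subtype_injective).toEquiv.symm,
          R.card_eq_multiplicity, ← hNc.card_mul, Nat.factorization_mul Nat.card_pos.ne' Nat.card_pos.ne',
          Finsupp.add_apply, Nat.factorization_eq_zero_of_not_dvd h3N, zero_add]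
      let R' : Sylow 3 (H ⧸ center H) := Sylow.ofCard _ hcardR
      have hR' : IsCyclic (R' : Subgroup (H ⧸ center H)) := by
        show IsCyclic ((R : Subgroup Hc).map Hc.subtype)
        exact isCyclic_of_surjective _
          ((R : Subgroup Hc).equivMapOfInjective _ Hc.subtype_injective).surjective
      exact isCyclic_of_surjective _ (Sylow.equiv R' P).surjective
    · exact Or.inr (Or.inl (isPClosed_of_quotient (isPClosed_of_nilpotent_normal hnil h3)))
  · -- `PSL₂(q)`
    by_cases h9 : Fintype.card F = 9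
    · exfalso
      refine h8Q ?_
      have hcard := Perm.ZassenhausPGL.card_PSL_two (K := F) (by rw [h9]; decide)
      rw [← Nat.card_congr e.toEquiv, h9] at hcard
      exact ⟨45, by omega⟩
    · exact Or.inl (hSA H ⟨F, inferInstance, inferInstance, ⟨hq, h9⟩, ⟨e⟩⟩ 3 (by norm_num))
  · -- `PGL₂(q)`
    exfalso
    refine h8Q ?_
    rw [Nat.card_congr e.toEquiv]
    show 8 ∣ Nat.card (Matrix.ProjGenLinGroup (Fin 2) F)
    rw [Perm.ZassenhausPGL.card_PGL_two]
    obtain ⟨i, hi⟩ := hodd
    rw [hi, Nat.add_sub_cancel]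
    obtain ⟨j, hj⟩ := Nat.even_mul_succ_self i
    exact ⟨(2 * i + 1) * j, by
      linear_combination (4 * (2 * i + 1)) * hj⟩
  · -- Suzuki groups
    exfalso
    refine h8Q ?_
    rw [Nat.card_congr e.toEquiv, ← Nat.card_congr (SuzukiSp4.szEquiv (F := F) (m := m) ⟨hm, hF⟩).toEquiv,
      Suzuki.card_Sz (F := F) (m := m) ⟨hm, hF⟩, hF]
    refine Dvd.dvd.mul_right (Dvd.dvd.mul_right ?_ _) _
    rw [← pow_mul]
    exact pow_dvd_pow 2 (show 3 ≤ (2 * m + 1) * 2 by omega)

end ThreeLocalAux

open ThreeLocalAux in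
/-- In a homomorphic image of a CA-group of order not divisible by 8 the Sylow 3-subgroups are
abelian, or there is a normal Sylow 3-subgroup or a normal 3-complement. -/
theorem three_local (hCQ : CAQuotBrick.{u}) (hSA : SylowAbelianBrick.{u}) {H : Type u} [Group H]
    [Finite H] (hca : IsCA H) (h8 : ¬ 8 ∣ Nat.card H) {K : Type u} [Group K] (f : H →* K)
    (hf : Function.Surjective f) :
    (∀ P : Sylow 3 K, IsMulCommutative P) ∨ Cfsg.IsPClosed 3 K ∨ Cfsg.HasNormalPComplement 3 K := by
  have : Fact (Nat.Prime 3) := ⟨Nat.prime_three⟩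
  have : Finite K := Finite.of_surjective f hf
  rcases three_local_self hCQ hSA hca h8 with h | h | h
  · refine Or.inl fun P => ?_
    obtain ⟨Q, rfl⟩ := Sylow.mapSurjective_surjective (f := f) hf 3 P
    have := h Q
    exact ⟨⟨fun x y => by
      obtain ⟨a, ha⟩ := f.subgroupMap_surjective (Q : Subgroup H) x
      obtain ⟨b, hb⟩ := f.subgroupMap_surjective (Q : Subgroup H) y
      rw [← ha, ← hb]
      refine Subtype.ext ?_
      show f (a : H) * f (b : H) = f (b : H) * f (a : H)
      rw [← map_mul, ← map_mul, show (a : H) * b = b * a from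
        congrArg Subtype.val (this.is_comm.comm a b)]⟩⟩
  · refine Or.inr (Or.inl fun P => ?_)
    obtain ⟨Q, rfl⟩ := Sylow.mapSurjective_surjective (f := f) hf 3 P
    exact (h Q).map f hf
  · exact Or.inr (Or.inr (Transfer.hasNormalPComplement_of_surjective f hf h))

end FixAux

end Cfsg.Agent.Lib.MinNonCA34
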