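import Mathlib
import Cfsg.Agent.Lib.MinNonCA34.FixCentralStruct
import Cfsg.Agent.Lib.MinNonCA34.FixCentralCore
import Cfsg.Agent.Lib.MinNonCA34.FixCentralThreeLocal
import Cfsg.Agent.S0058

/-!
# The Klein configuration: the prime three
-/

set_option autoImplicit false
set_option linter.unusedSectionVars false
set_option linter.style.haveILetI false

namespace Cfsg.Agent.Lib.MinNonCA34

open Subgroup

namespace FixAux

namespace ThreeC

universe u

variable {G : Type u} [Group G]

/-- The odd part of the centraliser of the four-group. -/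
abbrev B0 (b : G) (O : Subgroup G) : Subgroup G := O ⊓ centralizer ({b} : Set G)

theorem mk_eq_one_iff {g : G} : QuotientGroup.mk' (center G) g = 1 ↔ g ∈ center G :=
  QuotientGroup.eq_one_iff g

theorem exists_center_mul {g h : G}
    (e : QuotientGroup.mk' (center G) g = QuotientGroup.mk' (center G) h) :
    ∃ z ∈ center G, g = h * z :=
  ⟨h⁻¹ * g, mk_eq_one_iff.1 (by rw [map_mul, map_inv, e, inv_mul_cancel]), by group⟩

theorem centralizer_mul_center {x z : G} (hz : z ∈ center G) :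
    centralizer ({x * z} : Set G) = centralizer ({x} : Set G) := by
  ext g
  rw [mem_centralizer_singleton_iff, mem_centralizer_singleton_iff]
  have hgz : g * z = z * g := mem_center_iff.1 hz g
  constructor <;> intro h
  · refine mul_right_cancel (b := z) ?_
    calc g * x * z = g * (x * z) := mul_assoc _ _ _
      _ = x * z * g := h
      _ = x * g * z := by rw [mul_assoc, ← hgz, ← mul_assoc]
  · calc g * (x * z) = x * g * z := by rw [← mul_assoc, h]
      _ = x * (z * g) := by rw [mul_assoc, hgz]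
      _ = x * z * g := (mul_assoc _ _ _).symm

/-- A lift of an element whose cube is trivial can be chosen of 3-power order. -/
theorem exists_pow_lift [Finite G] {w : G ⧸ center G} (hw : w ^ 3 = 1) {z : G}
    (hz : QuotientGroup.mk' (center G) z = w) :
    ∃ k j : ℕ, QuotientGroup.mk' (center G) (z ^ k) = w ∧ orderOf (z ^ k) = 3 ^ j := by
  obtain ⟨i, m, hm, e⟩ :=
    Nat.exists_eq_pow_mul_and_not_dvd (orderOf_pos z).ne' 3 (by norm_num)
  obtain ⟨t, ht⟩ : ∃ t, m * m = 3 * t + 1 := ⟨m * m / 3, by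
    have h : m % 3 = 1 ∨ m % 3 = 2 := by omega
    rcases h with h | h <;>
      · have := Nat.mul_mod m m 3
        rw [h] at this
        omega⟩
  have h1 : (z ^ (m * m)) ^ 3 ^ i = 1 := by
    rw [← pow_mul, show m * m * 3 ^ i = 3 ^ i * m * m by ring, ← e, pow_mul, pow_orderOf_eq_one,
      one_pow]
  obtain ⟨j, -, hj⟩ := (Nat.dvd_prime_pow Nat.prime_three).1 (orderOf_dvd_of_pow_eq_one h1)
  exact ⟨m * m, j, by rw [map_pow, hz, ht, pow_succ, pow_mul, hw, one_pow, one_mul], hj⟩

/-- If cubes lie in an abelian subgroup, the 3'-elements form a normal 3-complement. -/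
theorem hasNormalPComplement_of_cube {C : Type u} [Group C] [Finite C] (A : Subgroup C)
    (hA : ∀ c ∈ A, ∀ d ∈ A, c * d = d * c) (hcube : ∀ c : C, c ^ 3 ∈ A) :
    Cfsg.HasNormalPComplement 3 C := by
  classical
  haveI : Fact (Nat.Prime 3) := ⟨Nat.prime_three⟩
  have hmem : ∀ c : C, ¬ 3 ∣ orderOf c → c ∈ A := fun c hc => by
    obtain ⟨l, hl⟩ := exists_pow_eq_self_of_coprime (x := c) (n := 3)
      (Nat.prime_three.coprime_iff_not_dvd.2 hc)
    rw [← hl]
    exact pow_mem (hcube c) l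
  let N : Subgroup C :=
    { carrier := {c | ¬ 3 ∣ orderOf c}
      one_mem' := by simp
      mul_mem' := by
        intro c d hc hd h
        have h1 := (show Commute c d from hA c (hmem c hc) d (hmem d hd)).orderOf_mul_dvd_lcm
        rcases (Nat.Prime.dvd_mul Nat.prime_three).1 ((h.trans h1).trans (Nat.lcm_dvd_mul _ _)) with
          h2 | h2
        · exact hc h2
        · exact hd h2
      inv_mem' := by
        intro c hc
        simpa using hc }
  have hNn : N.Normal := ⟨fun c hc g => by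
    change ¬ 3 ∣ orderOf (g * c * g⁻¹)
    rw [← MulAut.conj_apply, MulEquiv.orderOf_eq]
    exact hc⟩
  have hN3 : ¬ 3 ∣ Nat.card N := fun h => by
    obtain ⟨c, hc⟩ := exists_prime_orderOf_dvd_card' 3 h
    refine c.2 ?_
    rw [← Subgroup.orderOf_coe] at hc
    rw [hc]
  have hq : IsPGroup 3 (C ⧸ N) := by
    intro q
    obtain ⟨c, rfl⟩ := QuotientGroup.mk'_surjective N q
    obtain ⟨i, m, hm, e⟩ :=
      Nat.exists_eq_pow_mul_and_not_dvd (orderOf_pos c).ne' 3 (by norm_num)
    refine ⟨i, ?_⟩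
    rw [← map_pow]
    refine (QuotientGroup.eq_one_iff _).2 ?_
    change ¬ 3 ∣ orderOf (c ^ 3 ^ i)
    have h0 : 0 < 3 ^ i := by positivity
    rw [orderOf_pow' c h0.ne', e, Nat.gcd_eq_right (Dvd.intro m rfl), Nat.mul_div_cancel_left m h0]
    exact hm
  obtain ⟨k, hk⟩ := hq.exists_card_eq
  obtain ⟨P⟩ : Nonempty (Sylow 3 C) := inferInstance
  have hC : Nat.card C = 3 ^ k * Nat.card N := by
    rw [← hk]; exact N.card_eq_card_quotient_mul_card_subgroup
  have hP : Nat.card (P : Subgroup C) = 3 ^ k := by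
    rw [Sylow.card_eq_multiplicity P, hC, Nat.factorization_mul (by positivity) Nat.card_pos.ne']
    simp [Nat.Prime.factorization_pow Nat.prime_three, Nat.factorization_eq_zero_of_not_dvd hN3]
  refine ⟨P, N, hNn, isComplement'_of_coprime ?_ ?_⟩
  · rw [hP, hC, mul_comm]
  · rw [hP]
    exact Nat.Coprime.pow_right k (Nat.prime_three.coprime_iff_not_dvd.2 hN3).symm

variable [Finite G] {a b n : G} {O : Subgroup G} (hQ : QS G) (hk : Klein G a b n O)
include hQ hk

theorem mem_B0_iff {z : G} : z ∈ B0 b O ↔ z ∈ cV a b ∧ Odd (orderOf z) := by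
  constructor
  · rintro ⟨h1, h2⟩
    exact ⟨mem_cV_of_mem_O hQ hk h1 (mem_centralizer_singleton_iff.1 h2),
      odd_orderOf_of_mem_O hQ hk h1⟩
  · rintro ⟨h1, h2⟩
    exact ⟨mem_O_of_odd hQ hk h1 h2, mem_centralizer_singleton_iff.2 (mem_cV.1 h1).2⟩

theorem B0_le_cV {z : G} (hz : z ∈ B0 b O) : z ∈ cV a b := ((mem_B0_iff hQ hk).1 hz).1

theorem center_le_B0 (hodd : Odd (Nat.card (center G))) {z : G} (hz : z ∈ center G) :
    z ∈ B0 b O := by
  refine (mem_B0_iff hQ hk).2
    ⟨mem_cV.2 ⟨(mem_center_iff.1 hz a).symm, (mem_center_iff.1 hz b).symm⟩, hodd.of_dvd_nat ?_⟩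
  rw [← Subgroup.orderOf_mk z hz]
  exact orderOf_dvd_natCard _

theorem exists_decomp {c : G} (hc : c ∈ cV a b) : ∃ o ∈ B0 b O, ∃ v ∈ four hk, c = o * v := by
  obtain ⟨o, ho, e⟩ := hk.cover c (mem_cV.1 hc).1
  obtain ⟨v, hv, e⟩ : ∃ v ∈ four hk, c = o * v := by
    rcases e with e | e | e | e
    · exact ⟨1, one_mem _, by rw [mul_one]; exact e⟩
    · exact ⟨a, (mem_four hQ hk).2 (by tauto), e⟩
    · exact ⟨b, (mem_four hQ hk).2 (by tauto), e⟩
    · exact ⟨a * b, (mem_four hQ hk).2 (by tauto), e⟩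
  have ho' : o ∈ cV a b := by
    rw [show o = c * v⁻¹ by rw [e]; group]
    exact mul_mem hc (inv_mem (four_le_cV hQ hk hv))
  exact ⟨o, ⟨ho, mem_centralizer_singleton_iff.2 (mem_cV.1 ho').2⟩, v, hv, e⟩

theorem eq_one_of_mem_four_comm {v : G} (hv : v ∈ four hk) (h : n * v = v * n) : v = 1 := by
  have e : n * v * n⁻¹ = v := by rw [h]; group
  rcases (mem_four hQ hk).1 hv with rfl | rfl | rfl | rfl
  · rfl
  · exact absurd (e.symm.trans hk.conj_a) hk.ne_ab
  · have e' := e.symm.trans hk.conj_b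
    exact absurd (right_eq_mul.1 e') fun ha => hk.bad_a.1 (ha ▸ one_mem _)
  · have e' := e.symm.trans (conj_ab hQ hk)
    exact absurd (mul_eq_left.1 e') fun hb => b_notMem hQ hk (hb ▸ one_mem _)

theorem n_cube_B0 : n ^ 3 ∈ B0 b O := by
  obtain ⟨o, ho, v, hv, e⟩ := exists_decomp hQ hk (n_cube_mem hQ hk)
  obtain ⟨hoc, j, hj⟩ := (mem_B0_iff hQ hk).1 ho
  have hcomm : Commute o v := cV_comm hQ hk hoc (four_le_cV hQ hk hv)
  have e1 : (n ^ 3) ^ (2 * j + 1) = v := by
    rw [e, hcomm.mul_pow, ← hj, pow_orderOf_eq_one, one_mul, hj, pow_succ, pow_mul,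
      pow_two, sq_of_mem_four hQ hk hv, one_pow, one_mul]
  have hv1 : v = 1 := eq_one_of_mem_four_comm hQ hk hv
    (e1 ▸ ((Commute.refl n).pow_right 3).pow_right _)
  rw [e, hv1, mul_one]
  exact ho

theorem eq_zero_of_pow {i : ℕ} (hi : i < 3) (h : n ^ i * a = a * n ^ i) : i = 0 := by
  interval_cases i
  · rfl
  · rw [pow_one] at h
    refine absurd ?_ hk.ne_ab
    rw [← hk.conj_a, h]; group
  · exfalso
    have e1 : n * b * n⁻¹ = a := by
      rw [← hk.conj_a, show n * (n * a * n⁻¹) * n⁻¹ = n ^ 2 * a * (n ^ 2)⁻¹ by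
        simp [pow_two, mul_assoc], h]
      group
    rw [hk.conj_b] at e1
    exact b_notMem hQ hk ((mul_eq_left.1 e1) ▸ one_mem _)

theorem mem_cV_of_normalizer_comm {g : G} (hg : g ∈ normalizer ((cV a b : Subgroup G) : Set G))
    (hga : g * a = a * g) : g ∈ cV a b := by
  obtain ⟨i, hi, c, hc, rfl⟩ := exists_pow_of_mem_normalizer hQ hk hg
  obtain rfl : i = 0 := by
    refine eq_zero_of_pow hQ hk hi ?_
    have hca : c * a = a * c := (mem_cV.1 hc).1
    refine mul_right_cancel (b := c) ?_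
    calc n ^ i * a * c = n ^ i * c * a := by rw [mul_assoc, ← hca, ← mul_assoc]
      _ = a * (n ^ i * c) := hga
      _ = a * n ^ i * c := (mul_assoc _ _ _).symm
  simpa using hc

theorem invol_mem_cV {g : G} (hg : g ∈ normalizer ((cV a b : Subgroup G) : Set G))
    (h2 : g * g = 1) : g ∈ cV a b := by
  obtain ⟨i, hi, c, hc, rfl⟩ := exists_pow_of_mem_normalizer hQ hk hg
  have hc' : (n ^ i)⁻¹ * c * n ^ i ∈ cV a b := by
    have := (mem_normalizer_iff.1 (pow_mem (n_mem_normalizer hQ hk) i) ((n ^ i)⁻¹ * c * n ^ i)).2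
    exact this (by simpa [mul_assoc] using hc)
  have hp : n ^ (i + i) ∈ cV a b := by
    have e : n ^ (i + i) * ((n ^ i)⁻¹ * c * n ^ i * c) = 1 := by
      rw [← h2, pow_add]; simp [mul_assoc]
    rw [eq_inv_of_mul_eq_one_left e]
    exact inv_mem (mul_mem hc' hc)
  obtain rfl : i = 0 := by
    interval_cases i
    · rfl
    · have := eq_zero_of_pow hQ hk (i := 2) (by norm_num) (mem_cV.1 hp).1
      omega
    · have h1 : n ^ 1 ∈ cV a b := by
        have := mul_mem hp (inv_mem (n_cube_mem hQ hk))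
        rwa [show n ^ (2 + 2) * (n ^ 3)⁻¹ = n ^ 1 by group] at this
      have := eq_zero_of_pow hQ hk (i := 1) (by norm_num) (mem_cV.1 h1).1
      omega
  simpa using hc

variable (hTr : TransferBrick.{u}) {x : G} {j : ℕ} (hx : x ∈ B0 b O) (hxZ : x ∉ center G)
  (hord : orderOf x = 3 ^ j) (hnx : Commute (QuotientGroup.mk' (center G) n) (QuotientGroup.mk' (center G) x))

include hx hxZ hnx

theorem centralizer_conj_n : centralizer ({n * x * n⁻¹} : Set G) = centralizer ({x} : Set G) := by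
  obtain ⟨z, hz, e⟩ := exists_center_mul (g := n * x * n⁻¹) (h := x) (by
    rw [map_mul, map_mul, map_inv, hnx.eq, mul_inv_cancel_right])
  rw [e, centralizer_mul_center hz]

theorem outside_of_fix : Outside a b x := by
  -- conjugation by `n` fixes the centraliser and permutes those of the involutions
  have hrot : ∀ v v' : G, n * v * n⁻¹ = v' →
      centralizer ({x} : Set G) = centralizer ({v} : Set G) →
      centralizer ({x} : Set G) = centralizer ({v'} : Set G) := fun v v' hv h => by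
    ext g
    rw [← hv, mem_centralizer_conj, ← h, ← mem_centralizer_conj, centralizer_conj_n hQ hk hx hxZ hnx]
  obtain ⟨g, hga, hgb⟩ := exists_moving hQ hk
  have hab : centralizer ({x} : Set G) = centralizer ({a} : Set G) →
      centralizer ({x} : Set G) = centralizer ({b} : Set G) → False := fun h1 h2 =>
    hgb (mem_centralizer_singleton_iff.1 (h2 ▸ h1.symm ▸ mem_centralizer_singleton_iff.2 hga))
  refine ⟨fun h => hab h (hrot a b hk.conj_a h), fun h => ?_, fun h => ?_⟩
  · exact hab (hrot _ _ (conj_ab hQ hk) (hrot b _ hk.conj_b h)) h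
  · exact hab (hrot _ _ (conj_ab hQ hk) h) (hrot a b hk.conj_a (hrot _ _ (conj_ab hQ hk) h))

include hTr hord

theorem centralizer_le : centralizer ({x} : Set G) ≤ normalizer ((cV a b : Subgroup G) : Set G) := by
  have ho := outside_of_fix hQ hk hx hxZ hnx
  rcases centralizer_eq_or_comm hQ hk (B0_le_cV hQ hk hx) hxZ ho with h | ⟨hb, -⟩
  · rw [h]; exact le_normalizer
  · exact centralizer_le_normalizer hQ hk hTr Nat.prime_three hord (B0_le_cV hQ hk hx) hb ho

theorem mem_normalizer_of_conj {g : G}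
    (hg : centralizer ({g * x * g⁻¹} : Set G) = centralizer ({x} : Set G)) :
    g ∈ normalizer ((cV a b : Subgroup G) : Set G) := by
  have hN : g ∈ normalizer ((centralizer ({x} : Set G) : Subgroup G) : Set G) := by
    rw [mem_normalizer_iff]
    intro c
    conv_rhs => rw [← hg]
    rw [mem_centralizer_conj, show g⁻¹ * (g * c * g⁻¹) * g = c by group]
  rcases centralizer_eq_or_comm hQ hk (B0_le_cV hQ hk hx) hxZ (outside_of_fix hQ hk hx hxZ hnx)
    with h | ⟨hb, -⟩
  · rwa [h] at hN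
  · rw [hQ.toHyp.normalizer_centralizer hb (not_normal_centralizer hQ hk hxZ)] at hN
    exact centralizer_le hQ hk hTr hx hxZ hord hnx hN

theorem mem_normalizer_of_mk {g : G}
    (hg : Commute (QuotientGroup.mk' (center G) g) (QuotientGroup.mk' (center G) x)) :
    g ∈ normalizer ((cV a b : Subgroup G) : Set G) := by
  refine mem_normalizer_of_conj hQ hk hTr hx hxZ hord hnx ?_
  obtain ⟨z, hz, e⟩ := exists_center_mul (g := g * x * g⁻¹) (h := x) (by
    rw [map_mul, map_mul, map_inv, hg.eq, mul_inv_cancel_right])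
  rw [e, centralizer_mul_center hz]

end ThreeC

open ThreeC in
/-- No element of 3-power order outside the centre of `O` is fixed by `b`, if those of order prime to 3 are central. -/
theorem no_three.{u} (hCQ : CAQuotBrick.{u}) (hThree : ThreeBrick.{u}) (hSA : SylowAbelianBrick.{u})
    (hTr : TransferBrick.{u}) {G : Type u} [Group G] [Finite G] {a b n : G} {O : Subgroup G}
    (hQ : QS G) (hodd : Odd (Nat.card (center G))) (hk : Klein G a b n O) {y : G} {k : ℕ}
    (hy : y ∈ O) (hyb : y * b = b * y) (hyZ : y ∉ center G) (hord : orderOf y = 3 ^ k)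
    (hrest : ∀ z ∈ O, z * b = b * z → ¬ 3 ∣ orderOf z → z ∈ center G) : False := by
  classical
  haveI : Fact (Nat.Prime 3) := ⟨Nat.prime_three⟩
  set π : G →* G ⧸ center G := QuotientGroup.mk' (center G) with hπ
  set c : G ⧸ center G := π n with hc
  set W : Subgroup (G ⧸ center G) := (B0 b O).map π with hW
  set V : Subgroup (G ⧸ center G) := (four hk).map π with hV
  -- the quotient is perfect
  have hperf : commutator (G ⧸ center G) = ⊤ := by
    rw [_root_.commutator_def, ← map_top_of_surjective π (QuotientGroup.mk'_surjective _),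
      ← map_commutator, ← _root_.commutator_def, hQ.perfect]
  -- elements of `W`
  have hWpre : ∀ g : G, π g ∈ W → g ∈ B0 b O := fun g hg => by
    obtain ⟨o, ho, e⟩ := hg
    obtain ⟨z, hz, rfl⟩ := exists_center_mul (g := g) (h := o) e.symm
    exact mul_mem ho (center_le_B0 hQ hk hodd hz)
  have hW3 : IsPGroup 3 W := by
    rintro ⟨_, z, hz, rfl⟩
    obtain ⟨i, m, hm, e⟩ :=
      Nat.exists_eq_pow_mul_and_not_dvd (orderOf_pos z).ne' 3 (by norm_num)
    refine ⟨i, Subtype.ext ?_⟩
    simp only [SubmonoidClass.coe_pow, OneMemClass.coe_one]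
    rw [← map_pow]
    have h0 : 0 < 3 ^ i := by positivity
    have hm' : ¬ 3 ∣ orderOf (z ^ 3 ^ i) := by
      rw [orderOf_pow' z h0.ne', e, Nat.gcd_eq_right (Dvd.intro m rfl), Nat.mul_div_cancel_left m h0]
      exact hm
    exact mk_eq_one_iff.2 (hrest _ (pow_mem hz.1 _)
      ((show Commute z b from mem_centralizer_singleton_iff.1 hz.2).pow_left _).eq hm')
  have hWc : ∀ v ∈ W, ∀ w ∈ W, v * w = w * v := by
    rintro _ ⟨v, hv, rfl⟩ _ ⟨w, hw, rfl⟩
    rw [← map_mul, ← map_mul, cV_comm hQ hk (B0_le_cV hQ hk hv) (B0_le_cV hQ hk hw)]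
  have hVW : ∀ v ∈ V, ∀ w ∈ W, v * w = w * v := by
    rintro _ ⟨v, hv, rfl⟩ _ ⟨w, hw, rfl⟩
    rw [← map_mul, ← map_mul, cV_comm hQ hk (four_le_cV hQ hk hv) (B0_le_cV hQ hk hw)]
  have hVinj : ∀ v ∈ four hk, π v = 1 → v = 1 := fun v hv h => by
    have hz := mk_eq_one_iff.1 h
    rcases (mem_four hQ hk).1 hv with rfl | rfl | rfl | rfl
    · rfl
    · exact absurd hz hk.bad_a.1
    · exact absurd hz (b_notMem hQ hk)
    · exact absurd hz (ab_notMem hQ hk)
  have hV4 : Nat.card V = 4 := by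
    have hinj : Function.Injective (π.comp (four hk).subtype) := by
      rw [injective_iff_map_eq_one]
      exact fun v hv => Subtype.ext (hVinj v v.2 hv)
    rw [← card_four hQ hk, Nat.card_congr (MonoidHom.ofInjective hinj).toEquiv,
      MonoidHom.range_eq_map, ← map_map, ← MonoidHom.range_eq_map, range_subtype]
  have hV2 : ∀ v ∈ V, v * v = 1 := by
    rintro _ ⟨v, hv, rfl⟩
    rw [← map_mul, sq_of_mem_four hQ hk hv, map_one]
  have hc3 : c ^ 3 ∈ W := ⟨n ^ 3, n_cube_B0 hQ hk, map_pow π n 3⟩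
  have hnB : ∀ z : G, n * z * n⁻¹ ∈ B0 b O ↔ z ∈ B0 b O := fun z => by
    rw [mem_B0_iff hQ hk, mem_B0_iff hQ hk, ← mem_normalizer_iff.1 (n_mem_normalizer hQ hk) z,
      ← MulAut.conj_apply, MulEquiv.orderOf_eq]
  have hcW : c ∈ normalizer (W : Set (G ⧸ center G)) := by
    rw [mem_normalizer_iff]
    intro q
    obtain ⟨z, rfl⟩ := QuotientGroup.mk'_surjective (center G) q
    rw [show c * π z * c⁻¹ = π (n * z * n⁻¹) by simp [hc]]
    exact ⟨fun h => mem_map_of_mem π ((hnB z).2 (hWpre z h)),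
      fun h => mem_map_of_mem π ((hnB z).1 (hWpre _ h))⟩
  -- lifts
  have hlift : ∀ w ∈ W, w ≠ 1 → w ^ 3 = 1 →
      ∃ (z : G) (i : ℕ), z ∈ B0 b O ∧ π z = w ∧ z ∉ center G ∧ orderOf z = 3 ^ i := by
    rintro _ ⟨z, hz, rfl⟩ h1 h3
    obtain ⟨l, i, e, ho⟩ := exists_pow_lift h3 rfl
    exact ⟨z ^ l, i, pow_mem hz l, e, fun h => h1 (e.symm.trans (mk_eq_one_iff.2 h)), ho⟩
  -- a fixed element of order three
  obtain ⟨x, hxW, hx1, hx3, hcx⟩ : ∃ x ∈ W, x ≠ 1 ∧ x ^ 3 = 1 ∧ c * x = x * c := by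
    have hyW : π y ∈ W := mem_map_of_mem π ⟨hy, mem_centralizer_singleton_iff.2 hyb⟩
    have hy1 : π y ≠ 1 := fun h => hyZ (mk_eq_one_iff.1 h)
    haveI : Nontrivial W := ⟨⟨⟨π y, hyW⟩, 1, fun h => hy1 (congrArg Subtype.val h)⟩⟩
    obtain ⟨m, hm0, hm⟩ := hW3.nontrivial_iff_card.1 inferInstance
    obtain ⟨⟨x₁, hx₁W⟩, hx₁⟩ := exists_prime_orderOf_dvd_card' (G := W) 3
      (hm ▸ dvd_pow_self 3 hm0.ne')
    rw [← Subgroup.orderOf_coe] at hx₁
    simp only at hx₁
    have h13 : x₁ ^ 3 = 1 := hx₁ ▸ pow_orderOf_eq_one x₁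
    have hx₁1 : x₁ ≠ 1 := fun h => by rw [h, orderOf_one] at hx₁; omega
    have conjW : ∀ w ∈ W, c * w * c⁻¹ ∈ W := fun w hw => (mem_normalizer_iff.1 hcW w).1 hw
    have conj3 : ∀ w : G ⧸ center G, w ^ 3 = 1 → (c * w * c⁻¹) ^ 3 = 1 := fun w h => by
      rw [conj_pow, h]; group
    set u₁ := c * x₁ * c⁻¹ with hu₁
    set u₂ := c * u₁ * c⁻¹ with hu₂
    have hu₁W := conjW _ hx₁W
    have hu₂W := conjW _ hu₁W
    have hu₁3 := conj3 _ h13
    have hu₂3 := conj3 _ hu₁3
    have h30 : c * u₂ * c⁻¹ = x₁ := by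
      calc c * u₂ * c⁻¹ = c ^ 3 * x₁ * (c ^ 3)⁻¹ := by
            simp [hu₂, hu₁, pow_succ, mul_assoc]
        _ = x₁ := by rw [hWc _ hc3 _ hx₁W, mul_inv_cancel_right]
    have hfix : ∀ w : G ⧸ center G, c * w * c⁻¹ = w → c * w = w * c := fun w h => by
      calc c * w = c * w * c⁻¹ * c := by group
        _ = w * c := by rw [h]
    by_cases hs : x₁ * u₁ * u₂ = 1
    · by_cases ht : u₁ * x₁⁻¹ = 1
      · exact ⟨x₁, hx₁W, hx₁1, h13, hfix _ (mul_inv_eq_one.1 ht)⟩
      · refine ⟨u₁ * x₁⁻¹, mul_mem hu₁W (inv_mem hx₁W), ht, ?_, hfix _ ?_⟩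
        · rw [(show Commute u₁ x₁⁻¹ from hWc _ hu₁W _ (inv_mem hx₁W)).mul_pow, hu₁3, inv_pow, h13,
            inv_one, mul_one]
        · have e2 : u₂ = u₁⁻¹ * x₁⁻¹ := by
            rw [← mul_inv_rev]; exact eq_inv_of_mul_eq_one_right hs
          have e3 : u₁⁻¹ * u₁⁻¹ = u₁ := by
            calc u₁⁻¹ * u₁⁻¹ = u₁⁻¹ * u₁⁻¹ * u₁ ^ 3 := by rw [hu₁3, mul_one]
              _ = u₁ := by group
          calc c * (u₁ * x₁⁻¹) * c⁻¹ = u₂ * u₁⁻¹ := by rw [hu₂, hu₁]; group
            _ = x₁⁻¹ * (u₁⁻¹ * u₁⁻¹) := by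
                rw [e2, hWc _ (inv_mem hu₁W) _ (inv_mem hx₁W), mul_assoc]
            _ = u₁ * x₁⁻¹ := by rw [e3, hWc _ (inv_mem hx₁W) _ hu₁W]
    · refine ⟨x₁ * u₁ * u₂, mul_mem (mul_mem hx₁W hu₁W) hu₂W, hs, ?_, hfix _ ?_⟩
      · rw [(show Commute (x₁ * u₁) u₂ from hWc _ (mul_mem hx₁W hu₁W) _ hu₂W).mul_pow,
          (show Commute x₁ u₁ from hWc _ hx₁W _ hu₁W).mul_pow, h13, hu₁3, hu₂3, one_mul, one_mul]
      · calc c * (x₁ * u₁ * u₂) * c⁻¹ = u₁ * u₂ * (c * u₂ * c⁻¹) := by rw [hu₂, hu₁]; group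
          _ = x₁ * (u₁ * u₂) := by rw [h30]; exact (hWc _ hx₁W _ (mul_mem hu₁W hu₂W)).symm
          _ = x₁ * u₁ * u₂ := (mul_assoc x₁ u₁ u₂).symm
  -- a fixed element of order three of `W`: its centraliser
  have hloc : ∀ w ∈ W, w ≠ 1 → w ^ 3 = 1 → c * w = w * c → ∀ g : G,
      π g * w = w * π g → g ∈ normalizer ((cV a b : Subgroup G) : Set G) := by
    intro w hw hw1 hw3 hcw g hg
    obtain ⟨z, i, hz, rfl, hzZ, hzo⟩ := hlift w hw hw1 hw3
    exact mem_normalizer_of_mk hQ hk hTr hz hzZ hzo hcw hg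
  have hx3' : orderOf x = 3 := orderOf_eq_prime hx3 hx1
  obtain ⟨x₀, j, hx₀, hx₀x, hx₀Z, hx₀o⟩ := hlift x hxW hx1 hx3
  have hnx : Commute (π n) (π x₀) := by rw [hx₀x]; exact hcx
  have hcov : ∀ g : G, π g * x = x * π g →
      ∃ i : ℕ, i < 3 ∧ ∃ v ∈ V, ∃ w ∈ W, π g = c ^ i * v * w := by
    intro g hg
    obtain ⟨i, hi, d, hd, e⟩ := exists_pow_of_mem_normalizer hQ hk (hloc x hxW hx1 hx3 hcx g hg)
    obtain ⟨o, ho, v, hv, rfl⟩ := exists_decomp hQ hk hd
    refine ⟨i, hi, π v, mem_map_of_mem π hv, π o, mem_map_of_mem π ho, ?_⟩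
    rw [e, map_mul, map_pow, map_mul, mul_assoc, hVW _ (mem_map_of_mem π hv) _ (mem_map_of_mem π ho)]
  -- the transporters lie in the normaliser
  have hcomm_of_normal : ∀ g ∈ normalizer ((cV a b : Subgroup G) : Set G), π g * x = x * π g := by
    intro g hg
    obtain ⟨i, -, d, hd, rfl⟩ := exists_pow_of_mem_normalizer hQ hk hg
    have h1 : Commute (π d) x := by
      rw [← hx₀x, Commute, SemiconjBy, ← map_mul, ← map_mul,
        cV_comm hQ hk hd (B0_le_cV hQ hk hx₀)]
    rw [map_mul, map_pow]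
    exact ((show Commute c x from hcx).pow_left i).mul_left h1
  refine hThree (G ⧸ center G) hperf V W x c hV4 hV2 hW3 hWc hVW hx3' hxW hcx hc3 hcW
    ?_ ?_ ?_ ?_ ?_ ?_ ?_
  · -- `n` normalises `V`
    rw [mem_normalizer_iff]
    have h1 : ∀ v ∈ four hk, n * v * n⁻¹ ∈ four hk := fun v hv => by
      rcases (mem_four hQ hk).1 hv with rfl | rfl | rfl | rfl
      · simp
      · rw [hk.conj_a]; exact (mem_four hQ hk).2 (by tauto)
      · rw [hk.conj_b]; exact (mem_four hQ hk).2 (by tauto)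
      · rw [conj_ab hQ hk]; exact (mem_four hQ hk).2 (by tauto)
    intro q
    constructor
    · rintro ⟨v, hv, rfl⟩
      exact ⟨n * v * n⁻¹, h1 v hv, by simp [hc]⟩
    · rintro ⟨v, hv, e⟩
      refine ⟨n * (n * v * n⁻¹) * n⁻¹, h1 _ (h1 v hv), ?_⟩
      have h3 : c ^ 3 * q * (c ^ 3)⁻¹ = q := by
        obtain ⟨q₀, rfl⟩ := QuotientGroup.mk'_surjective (center G) q
        have hq : q₀ ∈ cV a b := by
          obtain ⟨z, hz, rfl⟩ : ∃ z ∈ center G, q₀ = n⁻¹ * v * n * z :=
            exists_center_mul (by simp only [map_mul, map_inv]; rw [← hc, e]; group)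
          refine mul_mem ?_ (B0_le_cV hQ hk (center_le_B0 hQ hk hodd hz))
          refine ((mem_normalizer_iff.1 (n_mem_normalizer hQ hk)) _).2 ?_
          simpa [mul_assoc] using four_le_cV hQ hk hv
        rw [show c ^ 3 * π q₀ * (c ^ 3)⁻¹ = π (n ^ 3 * q₀ * (n ^ 3)⁻¹) by simp [hc],
          cV_comm hQ hk (n_cube_mem hQ hk) hq, mul_inv_cancel_right]
      rw [map_mul, map_mul, map_mul, map_mul, map_inv, e]
      calc c * (c * (c * q * c⁻¹) * c⁻¹) * c⁻¹ = c ^ 3 * q * (c ^ 3)⁻¹ := by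
            simp [pow_succ, mul_assoc]
        _ = q := h3
  · -- no fixed point of `n` on `V`
    rintro _ ⟨v, hv, rfl⟩ h
    rw [hc, ← map_mul, ← map_mul] at h
    obtain ⟨z, hz, e⟩ := exists_center_mul h
    have h2 : z * z = 1 := by
      have e' : n * v * n⁻¹ = v * z := by
        rw [e, mul_assoc (v * n), mem_center_iff.1 hz n⁻¹ |>.symm]; group
      have := sq_of_mem_four hQ hk hv
      have e2 : (v * z) * (v * z) = 1 := by
        rw [← e', show n * v * n⁻¹ * (n * v * n⁻¹) = n * (v * v) * n⁻¹ by group, this]; group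
      rwa [(show Commute z v from (mem_center_iff.1 hz v).symm).mul_mul_mul_comm, this, one_mul]
        at e2
    rw [eq_one_of_sq_of_odd hodd hz h2, mul_one] at e
    rw [eq_one_of_mem_four_comm hQ hk hv e, map_one]
  · -- the centraliser of `x`
    intro q hq
    obtain ⟨g, rfl⟩ := QuotientGroup.mk'_surjective (center G) q
    obtain ⟨i, -, h⟩ := hcov g hq
    exact ⟨i, h⟩
  · -- `x` is not real
    intro q hq
    obtain ⟨g, rfl⟩ := QuotientGroup.mk'_surjective (center G) q
    have hN : g ∈ normalizer ((cV a b : Subgroup G) : Set G) := by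
      refine mem_normalizer_of_conj hQ hk hTr hx₀ hx₀Z hx₀o hnx ?_
      obtain ⟨z, hz, e⟩ := exists_center_mul (g := g * x₀ * g⁻¹) (h := x₀⁻¹) (by
        rw [map_mul, map_mul, map_inv, map_inv, hx₀x]; exact hq)
      rw [e, centralizer_mul_center hz]
      ext u
      simp only [mem_centralizer_singleton_iff]
      exact Commute.inv_right_iff
    rw [hcomm_of_normal g hN, mul_inv_cancel_right] at hq
    have : orderOf x ∣ 2 := orderOf_dvd_of_pow_eq_one
      (by rw [pow_two]; nth_rw 1 [hq]; rw [inv_mul_cancel])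
    rw [hx3'] at this
    omega
  · -- the normaliser of `V`
    intro q hq
    obtain ⟨g, rfl⟩ := QuotientGroup.mk'_surjective (center G) q
    refine mem_centralizer_singleton_iff.2 (hcomm_of_normal g (four_normal_of_eq hQ hk ?_))
    intro v hv
    obtain ⟨v', hv', e⟩ := (mem_normalizer_iff.1 hq (π v)).1 (mem_map_of_mem π hv)
    obtain ⟨z, hz, e'⟩ := exists_center_mul (g := g * v * g⁻¹) (h := v')
      (by rw [map_mul, map_mul, map_inv]; exact e.symm)
    have h2 : z * z = 1 := by
      have e2 : (v' * z) * (v' * z) = 1 := by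
        rw [← e', show g * v * g⁻¹ * (g * v * g⁻¹) = g * (v * v) * g⁻¹ by group,
          sq_of_mem_four hQ hk hv]
        group
      rwa [(show Commute z v' from (mem_center_iff.1 hz v').symm).mul_mul_mul_comm,
        sq_of_mem_four hQ hk hv', one_mul] at e2
    rw [e', eq_one_of_sq_of_odd hodd hz h2, mul_one]
    exact hv'
  · -- the fixed elements of order three
    intro w hw hw3 hcw
    by_contra hwx
    let R : Subgroup (G ⧸ center G) :=
      { carrier := {r | r ∈ W ∧ r ^ 3 = 1 ∧ c * r = r * c}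
        one_mem' := ⟨one_mem _, one_pow 3, by simp⟩
        mul_mem' := fun {r s} hr hs => ⟨mul_mem hr.1 hs.1, by
          rw [(show Commute r s from hWc _ hr.1 _ hs.1).mul_pow, hr.2.1, hs.2.1, one_mul],
          (show Commute c r from hr.2.2).mul_right hs.2.2⟩
        inv_mem' := fun {r} hr => ⟨inv_mem hr.1, by rw [inv_pow, hr.2.1, inv_one],
          (show Commute c r from hr.2.2).inv_right⟩ }
    have hRW : R ≤ W := fun r hr => hr.1
    haveI hRc : IsMulCommutative R := ⟨⟨fun r s => Subtype.ext (hWc _ r.2.1 _ s.2.1)⟩⟩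
    have hRnc : ¬ IsCyclic R := fun hcyc => by
      obtain ⟨r, hr⟩ := hcyc.exists_generator
      have h3 : Nat.card R ≤ 3 := by
        rw [← orderOf_eq_card_of_forall_mem_zpowers hr]
        exact orderOf_le_of_pow_eq_one (by norm_num) (Subtype.ext r.2.2.1)
      have hxR : zpowers x = R := eq_of_le_of_card_ge (zpowers_le.2 ⟨hxW, hx3, hcx⟩)
        (by rwa [Nat.card_zpowers, hx3'])
      exact hwx (hxR ▸ (⟨hw, hw3, hcw⟩ : w ∈ R))
    set Ob : Subgroup (G ⧸ center G) := O.map π with hOb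
    have hWOb : W ≤ Ob := map_mono inf_le_left
    have hCW : ∀ r ∈ R, r ≠ 1 → ∀ q ∈ Ob, q * r = r * q → q ∈ W := by
      rintro r ⟨hrW, hr3, hcr⟩ hr1 _ ⟨g, hg, rfl⟩ hcomm
      have hgN := hloc r hrW hr1 hr3 hcr g hcomm
      have hgV := mem_cV_of_normalizer_comm hQ hk hgN
        (mem_centralizer_singleton_iff.1 (hk.O_le hg))
      exact mem_map_of_mem π ⟨hg, mem_centralizer_singleton_iff.2 (mem_cV.1 hgV).2⟩
    have hself : ∀ q ∈ Ob, q ∈ normalizer (W : Set (G ⧸ center G)) → q ∈ W := by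
      rintro _ ⟨g, hg, rfl⟩ hgW
      have hgN : g ∈ normalizer ((cV a b : Subgroup G) : Set G) := by
        refine four_normal_of_eq hQ hk fun v hv => ?_
        have hu : g⁻¹ * x₀ * g ∈ B0 b O := hWpre _ <| (mem_normalizer_iff.1 hgW _).2 <| by
          have : π g * π (g⁻¹ * x₀ * g) * (π g)⁻¹ = π x₀ := by simp [mul_assoc]
          rw [this]; exact mem_map_of_mem π hx₀
        have h1 : g * v * g⁻¹ ∈ centralizer ({x₀} : Set G) := by
          rw [mem_centralizer_singleton_iff]
          have h := cV_comm hQ hk (four_le_cV hQ hk hv) (B0_le_cV hQ hk hu)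
          calc g * v * g⁻¹ * x₀ = g * (v * (g⁻¹ * x₀ * g)) * g⁻¹ := by group
            _ = x₀ * (g * v * g⁻¹) := by rw [h]; group
        have h2 : g * v * g⁻¹ * (g * v * g⁻¹) = 1 := by
          rw [show g * v * g⁻¹ * (g * v * g⁻¹) = g * (v * v) * g⁻¹ by group,
            sq_of_mem_four hQ hk hv]
          group
        exact (mem_four hQ hk).2 (invol_cases hQ hk
          (invol_mem_cV hQ hk (centralizer_le hQ hk hTr hx₀ hx₀Z hx₀o hnx h1) h2) h2)
      have hgV := mem_cV_of_normalizer_comm hQ hk hgN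
        (mem_centralizer_singleton_iff.1 (hk.O_le hg))
      exact mem_map_of_mem π ⟨hg, mem_centralizer_singleton_iff.2 (mem_cV.1 hgV).2⟩
    -- `W` is a Sylow 3-subgroup of `Ob`, central in its normaliser
    obtain ⟨P, hP⟩ := (hW3.of_equiv (subgroupOfEquivOfLe hWOb).symm).exists_le_sylow
    have hPW : (P : Subgroup Ob) = W.subgroupOf Ob := by
      refine le_antisymm ?_ hP
      by_contra hne
      haveI : Group.IsNilpotent (P : Subgroup Ob) := P.2.isNilpotent
      have hlt : (W.subgroupOf Ob).subgroupOf (P : Subgroup Ob) < ⊤ :=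
        lt_top_iff_ne_top.2 fun h => hne (subgroupOf_eq_top.1 h)
      obtain ⟨s, hs, hsW⟩ := SetLike.exists_of_lt (Group.normalizerCondition_of_isNilpotent _ hlt)
      have hsN : (s : Ob) ∈ normalizer ((W.subgroupOf Ob : Subgroup Ob) : Set Ob) := by
        have h := le_normalizer_map (P : Subgroup Ob).subtype ⟨s, hs, rfl⟩
        rwa [map_subgroupOf_eq_of_le hP] at h
      have hsN' : ((s : Ob) : G ⧸ center G) ∈ normalizer (W : Set (G ⧸ center G)) := by
        have h := le_normalizer_map Ob.subtype ⟨(s : Ob), hsN, rfl⟩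
        rwa [map_subgroupOf_eq_of_le hWOb] at h
      exact hsW (mem_subgroupOf.2 (mem_subgroupOf.2 (hself _ (s : Ob).2 hsN')))
    have hcent : normalizer ((P : Subgroup Ob) : Set Ob) ≤ centralizer ((P : Subgroup Ob) : Set Ob) := by
      intro g hg
      have hgN : (g : G ⧸ center G) ∈ normalizer (W : Set (G ⧸ center G)) := by
        have h := le_normalizer_map Ob.subtype ⟨g, hg, rfl⟩
        rwa [hPW, map_subgroupOf_eq_of_le hWOb] at h
      refine mem_centralizer_iff.2 fun s hs => Subtype.ext ?_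
      have hs' : (s : G ⧸ center G) ∈ W := by rw [hPW] at hs; exact mem_subgroupOf.1 hs
      exact hWc _ hs' _ (hself _ g.2 hgN)
    have hcomp := MonoidHom.ker_transferSylow_isComplement' P hcent
    have h3K := MonoidHom.not_dvd_card_ker_transferSylow P hcent
    have hKn : (MonoidHom.transferSylow P hcent).ker.Normal := MonoidHom.normal_ker _
    generalize hK : (MonoidHom.transferSylow P hcent).ker = K at hcomp h3K hKn
    have hRn : R ≤ normalizer ((K.map Ob.subtype : Subgroup _) : Set (G ⧸ center G)) := by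
      intro r hr
      have hrO : r ∈ Ob := hWOb (hRW hr)
      rw [mem_normalizer_iff]
      intro s
      constructor
      · rintro ⟨s', hs', rfl⟩
        exact ⟨⟨r, hrO⟩ * s' * ⟨r, hrO⟩⁻¹, hKn.conj_mem _ hs' _, rfl⟩
      · rintro ⟨s', hs', e⟩
        refine ⟨⟨r, hrO⟩⁻¹ * s' * ⟨r, hrO⟩, ?_, ?_⟩
        · simpa using hKn.conj_mem _ hs' (⟨r, hrO⟩⁻¹ : Ob)
        · simp only [coe_subtype] at e
          simp [e, mul_assoc]
    have hR3 : IsPGroup 3 R := hW3.to_le hRW
    have hcop : (Nat.card R).Coprime (Nat.card (K.map Ob.subtype : Subgroup _)) := by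
      obtain ⟨i, hi⟩ := hR3.exists_card_eq
      rw [hi, card_map_of_injective Ob.subtype_injective]
      exact Nat.Coprime.pow_left i (Nat.prime_three.coprime_iff_not_dvd.2 h3K)
    have hgen := Cfsg.Agent.S0058.result R (K.map Ob.subtype) hRnc hRn hcop
    have hKW : K.map Ob.subtype ≤ W := by
      rw [← hgen]
      refine iSup₂_le fun r hr s hs => ?_
      obtain ⟨⟨s', -, rfl⟩, hs2⟩ := hs
      exact hCW r hr.1 hr.2 _ s'.2 (mem_centralizer_singleton_iff.1 hs2)
    have hObW : Ob ≤ W := by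
      intro q hq
      obtain ⟨⟨⟨s, hs⟩, ⟨r, hr⟩⟩, e, -⟩ := hcomp.existsUnique ⟨q, hq⟩
      have hr' : (r : G ⧸ center G) ∈ W := by rw [hPW] at hr; exact mem_subgroupOf.1 hr
      rw [show q = (s : G ⧸ center G) * (r : G ⧸ center G) from (congrArg Subtype.val e).symm]
      exact mul_mem (hKW (mem_map_of_mem Ob.subtype hs)) hr'
    obtain ⟨g, hga, hgb⟩ := exists_moving hQ hk
    obtain ⟨o, ho, e⟩ := hk.cover g hga
    have hoV : o ∈ cV a b := B0_le_cV hQ hk (hWpre o (hObW (mem_map_of_mem π ho)))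
    refine hgb (mem_cV.1 (?_ : g ∈ cV a b)).2
    rcases e with rfl | rfl | rfl | rfl
    · exact hoV
    · exact mul_mem hoV (a_mem hQ hk)
    · exact mul_mem hoV (b_mem hQ hk)
    · exact mul_mem hoV (mul_mem (a_mem hQ hk) (b_mem hQ hk))
  · -- the centralisers of the elements of order three in the small case
    intro hW3card w hw hwx hw3
    have hwc : ∀ g : G ⧸ center G, g ∈ (closure {x, c} : Subgroup _) → g * x = x * g := by
      intro g hg
      have : (closure {x, c} : Subgroup _) ≤ centralizer {x} := by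
        rw [closure_le]
        rintro u (rfl | rfl)
        · exact mem_centralizer_singleton_iff.2 rfl
        · exact mem_centralizer_singleton_iff.2 hcx
      exact mem_centralizer_singleton_iff.1 (this hg)
    obtain ⟨w₀, rfl⟩ := QuotientGroup.mk'_surjective (center G) w
    obtain ⟨l, i, hwl, -⟩ := exists_pow_lift hw3 (z := w₀) rfl
    rw [← hwl] at hw hwx hw3 ⊢
    generalize w₀ ^ l = w₁ at hw hwx hw3 ⊢
    have hwZ : w₁ ∉ center G := fun h => hwx (by rw [mk_eq_one_iff.2 h]; exact one_mem _)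
    set H := centralizer ({w₁} : Set G) with hH
    have hfmem : ∀ g ∈ H, π g ∈ centralizer ({π w₁} : Set (G ⧸ center G)) := fun g hg => by
      rw [mem_centralizer_singleton_iff, ← map_mul, ← map_mul, mem_centralizer_singleton_iff.1 hg]
    let f : H →* centralizer ({π w₁} : Set (G ⧸ center G)) :=
      (π.comp H.subtype).codRestrict _ fun g => hfmem g g.2
    have hex : ∀ g : G, π g ∈ centralizer ({π w₁} : Set (G ⧸ center G)) →
        ∃ z ∈ center G, g * w₁ * g⁻¹ = w₁ * z := fun g hg => exists_center_mul (by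
      rw [map_mul, map_mul, map_inv, mem_centralizer_singleton_iff.1 hg, mul_inv_cancel_right])
    by_cases hbad : Bad w₁
    · -- the centraliser covers the centraliser in the quotient
      have hf : Function.Surjective f := by
        rintro ⟨q, hq⟩
        obtain ⟨g, rfl⟩ := QuotientGroup.mk'_surjective (center G) q
        obtain ⟨z, hz, e⟩ := hex g hq
        have hgN : g ∈ normalizer ((H : Subgroup G) : Set G) := by
          rw [mem_normalizer_iff]
          intro u
          have e' : H = centralizer ({g * w₁ * g⁻¹} : Set G) := by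
            rw [e, centralizer_mul_center hz]
          conv_rhs => rw [e']
          rw [mem_centralizer_conj, show g⁻¹ * (g * u * g⁻¹) * g = u by group]
        rw [hH, hQ.toHyp.normalizer_centralizer hbad (not_normal_centralizer hQ hk hwZ)] at hgN
        exact ⟨⟨g, hgN⟩, rfl⟩
      have h8 : ¬ 8 ∣ Nat.card H := fun h =>
        not_eight_dvd hQ hk (h.trans (card_subgroup_dvd_card H))
      rcases three_local hCQ hSA (hQ.toHyp.sub_ca H hbad.centralizer_ne_top) h8 f hf with h | h | h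
      · refine Or.inr (Or.inr fun h27 => ?_)
        set C := centralizer ({π w₁} : Set (G ⧸ center G)) with hC
        have hxC : x ∈ C := mem_centralizer_singleton_iff.2 (hwc _ hw).symm
        have hxp : IsPGroup 3 (zpowers (⟨x, hxC⟩ : C)) := IsPGroup.of_card (n := 1) (by
          rw [Nat.card_zpowers, pow_one, ← Subgroup.orderOf_coe]; exact hx3')
        obtain ⟨P, hP⟩ := hxp.exists_le_sylow
        haveI := h P
        have hPx : (P : Subgroup C).map C.subtype ≤ centralizer {x} := by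
          rintro _ ⟨s, hs, rfl⟩
          exact mem_centralizer_singleton_iff.2 (congrArg (fun t : (P : Subgroup C) => ((t : C) : G ⧸ center G))
            (mul_comm' (⟨s, hs⟩ : (P : Subgroup C)) ⟨⟨x, hxC⟩, hP (mem_zpowers _)⟩))
        have hVx : V ≤ centralizer {x} := fun v hv =>
          mem_centralizer_singleton_iff.2 (hVW v hv x hxW)
        have hP27 : 27 ∣ Nat.card (P : Subgroup C) := by
          rw [Sylow.card_eq_multiplicity P, show (27 : ℕ) = 3 ^ 3 by norm_num]
          refine pow_dvd_pow 3 ?_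
          rw [← Nat.Prime.pow_dvd_iff_le_factorization Nat.prime_three Nat.card_pos.ne']
          norm_num
          exact h27
        have h108 : 27 * 4 ∣ Nat.card (centralizer ({x} : Set (G ⧸ center G))) := by
          refine Nat.Coprime.mul_dvd_of_dvd_of_dvd (by norm_num) ?_ (hV4 ▸ card_dvd_of_le hVx)
          refine hP27.trans ?_
          rw [← card_map_of_injective C.subtype_injective]
          exact card_dvd_of_le hPx
        have h36 : Nat.card (centralizer ({x} : Set (G ⧸ center G))) ≤ 3 * (4 * 3) := by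
          have hmem : ∀ p : Fin 3 × V × W,
              c ^ (p.1 : ℕ) * (p.2.1 : G ⧸ center G) * (p.2.2 : G ⧸ center G) ∈
                centralizer ({x} : Set (G ⧸ center G)) := fun p => by
            refine mul_mem (mul_mem (pow_mem (mem_centralizer_singleton_iff.2 hcx) _) (hVx p.2.1.2)) ?_
            exact mem_centralizer_singleton_iff.2 (hWc _ p.2.2.2 _ hxW)
          refine le_trans (Nat.card_le_card_of_surjective
            (fun p : Fin 3 × V × W => (⟨_, hmem p⟩ : centralizer ({x} : Set (G ⧸ center G)))) ?_) ?_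
          · rintro ⟨q, hq⟩
            obtain ⟨g, rfl⟩ := QuotientGroup.mk'_surjective (center G) q
            obtain ⟨i, hi, v, hv, u, hu, e⟩ := hcov g (mem_centralizer_singleton_iff.1 hq)
            exact ⟨(⟨i, hi⟩, ⟨v, hv⟩, ⟨u, hu⟩), Subtype.ext e.symm⟩
          · rw [Nat.card_prod, Nat.card_prod, Nat.card_fin, hV4, hW3card]
        have := Nat.le_of_dvd Nat.card_pos h108
        omega
      · exact Or.inl h
      · exact Or.inr (Or.inl h)
    · -- an abelian centraliser contains all cubes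
      refine Or.inr (Or.inl (hasNormalPComplement_of_cube f.range ?_ ?_))
      · rintro _ ⟨u, rfl⟩ _ ⟨v, rfl⟩
        rw [← map_mul, ← map_mul]
        refine congrArg f (Subtype.ext ?_)
        by_contra h
        exact hbad ⟨hwZ, u, v, mem_centralizer_singleton_iff.1 u.2,
          mem_centralizer_singleton_iff.1 v.2, h⟩
      · rintro ⟨q, hq⟩
        obtain ⟨g, rfl⟩ := QuotientGroup.mk'_surjective (center G) q
        obtain ⟨z, hz, e⟩ := hex g hq
        have hw3Z : w₁ ^ 3 ∈ center G := mk_eq_one_iff.1 (by rw [map_pow]; exact hw3)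
        have hwz : Commute w₁ z := mem_center_iff.1 hz w₁
        have hz3 : z ^ 3 = 1 := by
          have h1 : w₁ ^ 3 * z ^ 3 = w₁ ^ 3 := by
            rw [← hwz.mul_pow, ← e, conj_pow, mem_center_iff.1 hw3Z g, mul_inv_cancel_right]
          exact mul_eq_left.1 h1
        have hgz : g * z = z * g := mem_center_iff.1 hz g
        have step : ∀ t : G, Commute g t → g * (w₁ * t) * g⁻¹ = w₁ * (z * t) := fun t ht => by
          calc g * (w₁ * t) * g⁻¹ = g * w₁ * g⁻¹ * (g * t * g⁻¹) := by group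
            _ = w₁ * (z * t) := by rw [e, ht.eq, mul_inv_cancel_right, mul_assoc]
        have h3 : g ^ 3 * w₁ * (g ^ 3)⁻¹ = w₁ := by
          calc g ^ 3 * w₁ * (g ^ 3)⁻¹ = g * (g * (g * (w₁ * 1) * g⁻¹) * g⁻¹) * g⁻¹ := by
                simp [pow_succ, mul_assoc]
            _ = w₁ * z ^ 3 := by
                rw [step 1 (Commute.one_right g), mul_one, step z hgz,
                  step (z * z) ((show Commute g z from hgz).mul_right hgz), pow_succ, pow_two,
                  ← mul_assoc z z z]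
            _ = w₁ := by rw [hz3, mul_one]
        refine ⟨⟨g ^ 3, mem_centralizer_singleton_iff.2 ?_⟩, Subtype.ext ?_⟩; swap
        · exact map_pow π g 3
        calc g ^ 3 * w₁ = g ^ 3 * w₁ * (g ^ 3)⁻¹ * g ^ 3 := by group
          _ = w₁ * g ^ 3 := by rw [h3]

end FixAux

end Cfsg.Agent.Lib.MinNonCA34
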