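import Mathlib
import Cfsg.Agent.Lib.MinNonCA34.FixCentralFive
import Cfsg.Agent.Lib.MinNonCA34.FixCentralThree

/-!
# The Klein configuration: nothing outside the centre of `O` is fixed by `b`
-/

set_option autoImplicit false

namespace Cfsg.Agent.Lib.MinNonCA34

open Subgroup

universe u

namespace FixAux

variable {G : Type u} [Group G] [Finite G]

/-- A noncentral element has a noncentral power of prime power order. -/
theorem exists_prime_part {z : G} (hz : z ∉ center G) :
    ∃ (p : ℕ) (i k : ℕ), p.Prime ∧ p ∣ orderOf z ∧ z ^ i ∉ center G ∧ orderOf (z ^ i) = p ^ k := by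
  induction hn : orderOf z using Nat.strong_induction_on generalizing z with
  | _ n ih =>
    subst hn
    have h1 : orderOf z ≠ 1 := fun e => hz (by rw [orderOf_eq_one_iff.1 e]; exact one_mem _)
    obtain ⟨p, hp, hpn⟩ := Nat.exists_prime_and_dvd h1
    obtain ⟨k, m, hm, e⟩ := Nat.exists_eq_pow_mul_and_not_dvd (orderOf_pos z).ne' p hp.ne_one
    have hm0 : m ≠ 0 := fun h => hm (h ▸ dvd_zero p)
    by_cases hzm : z ^ m ∈ center G
    · have hk : k ≠ 0 := fun h => hm (by rw [h, pow_zero, one_mul] at e; exact e ▸ hpn)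
      have hzp : z ^ p ^ k ∉ center G := fun h => hz (by
        have hg := (Nat.Coprime.pow_left k (hp.coprime_iff_not_dvd.2 hm)).gcd_eq_one
        have := Nat.gcd_eq_gcd_ab (p ^ k) m
        rw [hg] at this
        rw [← zpow_one z, show (1 : ℤ) = ((1 : ℕ) : ℤ) from rfl, this, zpow_add, zpow_mul, zpow_mul]
        exact mul_mem (zpow_mem (by rwa [zpow_natCast]) _) (zpow_mem (by rwa [zpow_natCast]) _))
      have ho : orderOf (z ^ p ^ k) = m := by
        rw [orderOf_pow' _ (pow_ne_zero k hp.ne_zero), e, Nat.gcd_eq_right (dvd_mul_right _ m),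
          Nat.mul_div_cancel_left _ (pow_pos hp.pos k)]
      have hlt : m < orderOf z := by
        rw [e]; exact lt_mul_of_one_lt_left (Nat.pos_of_ne_zero hm0) (Nat.one_lt_pow hk hp.one_lt)
      obtain ⟨q, i, l, hq, hqm, hi, hio⟩ := ih m hlt hzp ho
      refine ⟨q, p ^ k * i, l, hq, ?_, by rwa [pow_mul], by rw [pow_mul]; exact hio⟩
      rw [e]; exact Dvd.dvd.mul_left hqm _
    · refine ⟨p, m, k, hp, hpn, hzm, ?_⟩
      rw [orderOf_pow' _ hm0, e, Nat.gcd_eq_right (dvd_mul_left m _),
        Nat.mul_div_cancel _ (Nat.pos_of_ne_zero hm0)]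

end FixAux

theorem fixCentral (hCQ : CAQuotBrick.{u}) (hTr : TransferBrick.{u}) (hChar : CharBrick.{u})
    (hThree : ThreeBrick.{u}) (hSA : SylowAbelianBrick.{u}) : FixCentralBrick.{u} := by
  intro G _ _ hQ hodd a b n O hk y hy hyb
  by_contra hyZ
  -- every noncentral element of `O ⊓ C(b)` has a noncentral part for the prime three only
  have key : ∀ z ∈ O, z * b = b * z → z ∉ center G →
      ∃ i k : ℕ, 3 ∣ orderOf z ∧ z ^ i ∉ center G ∧ orderOf (z ^ i) = 3 ^ k := by
    intro z hz hzb hzZ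
    obtain ⟨p, i, k, hp, hpz, hiZ, hio⟩ := FixAux.exists_prime_part hzZ
    have hz' : z ^ i ∈ O := pow_mem hz i
    have hzb' : z ^ i * b = b * z ^ i := (show Commute z b from hzb).pow_left i
    by_cases h5 : 5 ≤ p
    · exact absurd (FixAux.no_five hTr hChar hQ hk hp h5 hz' hzb' hiZ hio) id
    · have hodd' := FixAux.odd_orderOf_of_mem_O hQ hk hz
      have h2 : p ≠ 2 := by rintro rfl; obtain ⟨j, hj⟩ := hodd'; omega
      have h3 : p = 3 := by
        have := hp.two_le
        interval_cases p <;> first | rfl | omega | norm_num at hp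
      subst h3
      exact ⟨i, k, hpz, hiZ, hio⟩
  obtain ⟨i, k, -, hiZ, hio⟩ := key y hy hyb hyZ
  refine FixAux.no_three hCQ hThree hSA hTr hQ hodd hk (pow_mem hy i)
    ((show Commute y b from hyb).pow_left i) hiZ hio ?_
  intro z hz hzb h3
  by_contra hzZ
  obtain ⟨-, -, h, -, -⟩ := key z hz hzb hzZ
  exact h3 h

end Cfsg.Agent.Lib.MinNonCA34
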