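import Cfsg.Agent.Lib.MinNonCA34.Spec
import Cfsg.Agent.Lib.Coprime.Generation
import Cfsg.Agent.Lib.SL2.Centralizer
import Cfsg.Agent.S2202
import Cfsg.Agent.S0205
import Cfsg.Agent.S0949

/-!
# Minimal non-CA groups with centre of odd order: a bad involution and the Klein four configuration
-/

set_option autoImplicit false

namespace Cfsg.Agent.Lib.MinNonCA34

open Subgroup
open scoped commutatorElement

universe u

namespace OddLocalAux

variable {G : Type u} [Group G] [Finite G]

/-- A perfect group generated by a normal subgroup and its centre is that subgroup. -/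
theorem eq_top_of_sup_center (hperf : commutator G = ⊤) {N : Subgroup G} [N.Normal]
    (h : N ⊔ center G = ⊤) : N = ⊤ := by
  rw [eq_top_iff, ← hperf, _root_.commutator_def, Subgroup.commutator_le]
  intro x _ y _
  have hx : x ∈ N ⊔ center G := h ▸ mem_top x
  obtain ⟨n, hn, z, hz, rfl⟩ := mem_sup_of_normal_right.1 hx
  have e : ⁅n * z, y⁆ = n * (y * n⁻¹ * y⁻¹) := by
    rw [commutatorElement_def, mul_assoc n z y, ← mem_center_iff.1 hz y]
    group
  rw [e]
  exact N.mul_mem hn (Normal.conj_mem inferInstance _ (N.inv_mem hn) y)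

/-- A normal subgroup of a quasisimple group is central or everything. -/
theorem normal_cases (hQ : QS G) (N : Subgroup G) [N.Normal] : N ≤ center G ∨ N = ⊤ := by
  haveI := hQ.simple
  haveI hn : (N.map (QuotientGroup.mk' (center G))).Normal :=
    Normal.map inferInstance _ (QuotientGroup.mk'_surjective _)
  rcases hn.eq_bot_or_eq_top with e | e
  · rw [Subgroup.map_eq_bot_iff, QuotientGroup.ker_mk'] at e
    exact Or.inl e
  · refine Or.inr (eq_top_of_sup_center hQ.perfect ?_)
    rw [← QuotientGroup.ker_mk' (center G), ← Subgroup.comap_map_eq, e, comap_top]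

theorem not_commutative (hQ : QS G) : ¬ ∀ x y : G, x * y = y * x := fun hc =>
  hQ.not_solvable (Group.isSolvable_of_comm hc)

theorem sylow_not_normal (hQ : QS G) (hodd : Odd (Nat.card (center G))) (heven : Even (Nat.card G))
    (P : Sylow 2 G) : ¬ (P : Subgroup G).Normal := by
  intro hn
  rcases normal_cases hQ (P : Subgroup G) with hle | htop
  · have hdvd : 2 ∣ Nat.card P := P.dvd_card_of_dvd_card heven.two_dvd
    exact Nat.not_even_iff_odd.2 hodd (even_iff_two_dvd.2 (hdvd.trans (card_dvd_of_le hle)))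
  · haveI : Group.IsNilpotent (P : Subgroup G) := P.2.isNilpotent
    haveI : Group.IsSolvable (P : Subgroup G) := inferInstance
    exact hQ.not_solvable (Group.isSolvable_of_surjective
      (f := (P : Subgroup G).subtype) fun g => ⟨⟨g, htop ▸ mem_top g⟩, rfl⟩)

/-- A two-element in a group of odd order is trivial. -/
theorem eq_one_of_two_pow {K : Subgroup G} (hK : Odd (Nat.card K)) {z : G} (hz : z ∈ K) {k : ℕ}
    (h : z ^ 2 ^ k = 1) : z = 1 := by
  have h1 : z ^ Nat.card K = 1 := congrArg Subtype.val (pow_card_eq_one' (x := (⟨z, hz⟩ : K)))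
  have := pow_gcd_eq_one.2 ⟨h, h1⟩
  rwa [Nat.Coprime.gcd_eq_one (Nat.Coprime.pow_left k (Nat.coprime_two_left.2 hK)), pow_one] at this

end OddLocalAux

open OddLocalAux

/-- In the odd branch some involution is bad. -/
theorem oddBad (hTr : TransferBrick.{u}) : OddBadBrick.{u} := by
  intro G _ _ hQ hodd
  by_contra hno
  push Not at hno
  have heven : Even (Nat.card G) := by
    rcases Nat.even_or_odd (Nat.card G) with h | h
    · exact h
    · exact absurd (S0205.result h) hQ.not_solvable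
  have hab : ∀ t : G, orderOf t = 2 → IsMulCommutative (centralizer ({t} : Set G)) := by
    intro t ht
    have hz : t ∉ center G := fun hc => by
      have := eq_one_of_two_pow hodd hc (k := 1) (by rw [pow_one, ← ht, pow_orderOf_eq_one])
      rw [this, orderOf_one] at ht
      omega
    refine ⟨⟨fun a b => Subtype.ext (by_contra fun hne => hno t ht ⟨hz, a, b, ?_, ?_, hne⟩)⟩⟩
    · exact mem_centralizer_singleton_iff.1 a.2
    · exact mem_centralizer_singleton_iff.1 b.2
  rcases S2202.result heven hab with hcyc | hnorm | ⟨F, _, _, A, _, _, hF, -, ⟨e⟩⟩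
  · obtain ⟨P⟩ : Nonempty (Sylow 2 G) := inferInstance
    haveI := hcyc P
    haveI : IsMulCommutative P := IsCyclic.isMulCommutative
    have hle := IsCyclic.normalizer_le_centralizer
      ((Nat.minFac_eq_two_iff _).2 heven.two_dvd) (hcyc P)
    have h1 : (P : Subgroup G) = ⊥ := (eq_bot_iff_forall _).2 fun y hy =>
      hTr G hQ.perfect 2 P inferInstance y hy fun g hg => ((mem_centralizer_iff.1 (hle hg)) y hy).symm
    have hdvd : 2 ∣ Nat.card P := P.dvd_card_of_dvd_card heven.two_dvd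
    rw [Subgroup.card_eq_one.2 h1] at hdvd
    norm_num at hdvd
  · obtain ⟨P⟩ : Nonempty (Sylow 2 G) := inferInstance
    exact sylow_not_normal hQ hodd heven P (hnorm P)
  · let f : G →* A := (MonoidHom.snd _ _).comp e.toMonoidHom
    have hf : ∀ g, (e g).2 = 1 := fun g => by
      have hg : g ∈ commutator G := hQ.perfect ▸ mem_top g
      exact MonoidHom.mem_ker.1 (Abelianization.commutator_subset_ker f hg)
    refine hQ.not_ca (IsCA.of_injective (fun x hx a b ha hb => ?_)
      ((MonoidHom.fst _ _).comp e.toMonoidHom)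
      fun g g' hgg => e.injective (Prod.ext hgg ((hf g).trans (hf g').symm)))
    exact SL2.centralizer_comm hx (mem_centralizer_singleton_iff.2 ha)
      (mem_centralizer_singleton_iff.2 hb)

namespace OddLocalAux

variable {G : Type u} [Group G] [Finite G]

/-- An abelian group of exponent dividing `2 ^ k` with at most four square roots of one. -/
theorem card_torsion_le (S : Subgroup G) (hS : ∀ x ∈ S, ∀ y ∈ S, x * y = y * x)
    (h4 : Nat.card {x : G // x ∈ S ∧ x * x = 1} ≤ 4) :
    ∀ k : ℕ, Nat.card {x : G // x ∈ S ∧ x ^ 2 ^ k = 1} ≤ 4 ^ k := by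
  intro k
  induction k with
  | zero =>
    show _ ≤ 1
    rw [Finite.card_le_one_iff_subsingleton]
    exact ⟨fun x y => Subtype.ext (by have := x.2.2; have := y.2.2; simp_all)⟩
  | succ k ih =>
    let T : ℕ → Subgroup G := fun k =>
      { carrier := {x | x ∈ S ∧ x ^ 2 ^ k = 1}
        one_mem' := ⟨S.one_mem, one_pow _⟩
        mul_mem' := fun {x y} hx hy =>
          ⟨S.mul_mem hx.1 hy.1, by rw [Commute.mul_pow (hS x hx.1 y hy.1), hx.2, hy.2, one_mul]⟩
        inv_mem' := fun {x} hx => ⟨S.inv_mem hx.1, by rw [inv_pow, hx.2, inv_one]⟩ }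
    let f : T (k + 1) →* T k := MonoidHom.mk'
      (fun x => ⟨(x : G) ^ 2, S.pow_mem x.2.1 2, by rw [← pow_mul, ← pow_succ']; exact x.2.2⟩)
      fun x y => Subtype.ext (Commute.mul_pow (hS _ x.2.1 _ y.2.1) 2)
    have hker : Nat.card f.ker ≤ 4 := by
      refine le_trans (Nat.card_le_card_of_injective
        (fun x : f.ker => (⟨((x : T (k + 1)) : G), x.1.2.1, by
          have := congrArg Subtype.val (MonoidHom.mem_ker.1 x.2)
          rw [← pow_two]; exact this⟩ : {x : G // x ∈ S ∧ x * x = 1})) ?_) h4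
      intro x y hxy
      exact Subtype.ext (Subtype.ext (congrArg (fun z : {x : G // x ∈ S ∧ x * x = 1} => (z : G)) hxy))
    have hr : Nat.card f.range ≤ 4 ^ k := (Subgroup.card_le_card_group _).trans ih
    calc Nat.card (T (k + 1)) = Nat.card f.ker * Nat.card f.range := by
          rw [← Subgroup.index_ker, Subgroup.card_mul_index]
      _ ≤ 4 * 4 ^ k := Nat.mul_le_mul hker hr
      _ = 4 ^ (k + 1) := by rw [pow_succ']

/-- An abelian two-group with two independent values of the highest power map and at most four square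
roots of one is homocyclic of rank two. -/
theorem homocyclic {S : Subgroup G} (hS : ∀ x ∈ S, ∀ y ∈ S, x * y = y * x)
    (h4 : Nat.card {x : G // x ∈ S ∧ x * x = 1} ≤ 4) {e : ℕ} (he : ∀ x ∈ S, x ^ 2 ^ (e + 1) = 1)
    {x y : G} (hx : x ∈ S) (hy : y ∈ S) (hx1 : x ^ 2 ^ e ≠ 1) (hy1 : y ^ 2 ^ e ≠ 1)
    (hxy : x ^ 2 ^ e ≠ y ^ 2 ^ e) :
    Nonempty (S ≃* Multiplicative (ZMod (2 ^ (e + 1)) × ZMod (2 ^ (e + 1)))) := by
  set n := 2 ^ (e + 1) with hn
  haveI : NeZero n := ⟨(by positivity : (2 : ℕ) ^ (e + 1) ≠ 0)⟩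
  have hadd : ∀ z ∈ S, ∀ i j : ZMod n, z ^ (i + j).val = z ^ i.val * z ^ j.val := fun z hz i j => by
    rw [← pow_add]
    refine pow_eq_pow_of_modEq ?_ (he z hz)
    rw [ZMod.val_add]
    exact Nat.mod_modEq _ _
  let f : Multiplicative (ZMod n × ZMod n) →* S := MonoidHom.mk'
    (fun v => ⟨x ^ v.toAdd.1.val * y ^ v.toAdd.2.val, S.mul_mem (S.pow_mem hx _) (S.pow_mem hy _)⟩)
    fun v v' => Subtype.ext (by
      show x ^ (v.toAdd + v'.toAdd).1.val * y ^ (v.toAdd + v'.toAdd).2.val = _
      rw [Prod.fst_add, Prod.snd_add, hadd x hx, hadd y hy]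
      exact Commute.mul_mul_mul_comm ((hS _ (S.pow_mem hx _) _ (S.pow_mem hy _))) _ _)
  have hinj : Function.Injective f := by
    rw [← MonoidHom.ker_eq_bot_iff]
    by_contra hne
    have hp : IsPGroup 2 f.ker := (IsPGroup.of_card (G := Multiplicative (ZMod n × ZMod n))
      (n := (e + 1) + (e + 1)) (by simp [hn, pow_add])).to_subgroup _
    haveI : Nontrivial f.ker := (nontrivial_iff_ne_bot _).2 hne
    haveI : Fact (Nat.Prime 2) := ⟨Nat.prime_two⟩
    obtain ⟨z, hz⟩ := exists_prime_orderOf_dvd_card' (G := f.ker) 2 (by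
      obtain ⟨m, hm⟩ := IsPGroup.exists_card_eq hp
      have h1 : 1 < Nat.card f.ker := Finite.one_lt_card
      rw [hm] at h1 ⊢
      exact dvd_pow_self 2 (by rintro rfl; simp at h1))
    have hz2 : (z : Multiplicative (ZMod n × ZMod n)).toAdd + (z : Multiplicative (ZMod n × ZMod n)).toAdd = 0 := by
      have : z * z = 1 := by rw [← pow_two, ← hz, pow_orderOf_eq_one]
      exact congrArg (fun w : f.ker => (w : Multiplicative (ZMod n × ZMod n)).toAdd) this
    set v := (z : Multiplicative (ZMod n × ZMod n)).toAdd with hv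
    have half : ∀ i : ZMod n, i + i = 0 → i.val = 0 ∨ i.val = 2 ^ e := by
      intro i hi
      have h0 := congrArg ZMod.val hi
      rw [ZMod.val_add, ZMod.val_zero] at h0
      have hlt : i.val < 2 ^ e * 2 := (ZMod.val_lt i).trans_eq (pow_succ 2 e)
      obtain ⟨m, hm⟩ : 2 ^ e * 2 ∣ i.val + i.val :=
        (dvd_of_eq (pow_succ 2 e).symm).trans (Nat.dvd_of_mod_eq_zero h0)
      rcases Nat.lt_or_ge m 1 with h | h
      · left; interval_cases m; omega
      rcases Nat.lt_or_ge m 2 with h' | h'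
      · right; interval_cases m; omega
      · exfalso
        have : 2 ^ e * 2 * 2 ≤ 2 ^ e * 2 * m := Nat.mul_le_mul_left _ h'
        omega
    have hk : x ^ v.1.val * y ^ v.2.val = 1 := congrArg Subtype.val (MonoidHom.mem_ker.1 z.2)
    rcases half v.1 (congrArg Prod.fst hz2) with h1 | h1 <;>
      rcases half v.2 (congrArg Prod.snd hz2) with h2 | h2 <;> rw [h1, h2] at hk
    · have hv0 : v = 0 := Prod.ext ((ZMod.val_eq_zero _).1 h1) ((ZMod.val_eq_zero _).1 h2)
      have : z = 1 := Subtype.ext hv0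
      rw [this, orderOf_one] at hz
      omega
    · rw [pow_zero, one_mul] at hk; exact hy1 hk
    · rw [pow_zero, mul_one] at hk; exact hx1 hk
    · refine hxy ?_
      rw [eq_inv_of_mul_eq_one_left hk, inv_eq_of_mul_eq_one_right]
      rw [← pow_add, ← two_mul, ← pow_succ']
      exact he y hy
  have hcard : Nat.card S ≤ 4 ^ (e + 1) := le_trans (Nat.card_le_card_of_injective
    (fun s : S => (⟨s, s.2, he s s.2⟩ : {x : G // x ∈ S ∧ x ^ 2 ^ (e + 1) = 1}))
    fun s t h => Subtype.ext (congrArg (fun w : {x : G // x ∈ S ∧ x ^ 2 ^ (e + 1) = 1} => (w : G)) h))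
    (card_torsion_le S hS h4 (e + 1))
  have hdom : Nat.card (Multiplicative (ZMod n × ZMod n)) = 4 ^ (e + 1) := by
    simp [hn, ← mul_pow]
  have := Nat.card_le_card_of_injective f hinj
  exact ⟨(MulEquiv.ofBijective f ((Nat.bijective_iff_injective_and_card f).2
    ⟨hinj, by omega⟩)).symm⟩

end OddLocalAux

set_option maxHeartbeats 1600000 in
/-- A bad involution gives the Klein four configuration. -/
theorem klein (hTr : TransferBrick.{u}) (hCS : CenterSylowBrick.{u}) : KleinBrick.{u} := by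
  intro G _ _ hQ hodd a ha hbad
  classical
  haveI : Fact (Nat.Prime 2) := ⟨Nat.prime_two⟩
  have h : Hyp G := hQ.toHyp
  have ha1 : a ≠ 1 := fun e => by rw [e, orderOf_one] at ha; omega
  have haa : a * a = 1 := by rw [← pow_two, ← ha, pow_orderOf_eq_one]
  have heven : Even (Nat.card G) := even_iff_two_dvd.2 (ha ▸ orderOf_dvd_natCard a)
  set C : Subgroup G := centralizer ({a} : Set G) with hCdef
  have hCne : C ≠ ⊤ := hbad.centralizer_ne_top
  have hCnn : ¬ C.Normal := by
    intro hn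
    rcases normal_cases hQ C with hle | htop
    · obtain ⟨x, y, hx, -, hxy⟩ := hbad.2
      exact hxy (mem_center_iff.1 (hle (mem_centralizer_singleton_iff.2 hx)) y).symm
    · exact hCne htop
  have hNC : ∀ g : G, (∀ c ∈ C, g * c * g⁻¹ ∈ C) → g ∈ C := fun g hg => by
    rw [hCdef, ← h.normalizer_centralizer hbad hCnn, ← hCdef]
    refine mem_normalizer_iff.2 fun c => ⟨hg c, fun hc => ?_⟩
    obtain ⟨d, hd⟩ := ((MulAut.conj g).toMonoidHom.comp C.subtype).range.mem_carrier.1 (by
      have hsub : ((MulAut.conj g).toMonoidHom.comp C.subtype).range = C := by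
        refine Subgroup.eq_of_le_of_card_ge ?_ ?_
        · rintro _ ⟨d, rfl⟩
          exact hg d d.2
        · exact le_of_eq (Nat.card_congr (MonoidHom.ofInjective (f :=
            (MulAut.conj g).toMonoidHom.comp C.subtype) ((MulAut.conj g).injective.comp
              Subtype.coe_injective)).toEquiv)
      rw [hsub]; exact hc)
    rw [← (MulAut.conj g).injective (show MulAut.conj g (d : G) = MulAut.conj g c by
      simpa using hd)]
    exact d.2
  -- a Sylow two-subgroup through `a`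
  have hzp : IsPGroup 2 (zpowers a) := IsPGroup.of_card (n := 1) (by rw [Nat.card_zpowers, ha]; norm_num)
  obtain ⟨S, hS⟩ := hzp.exists_le_sylow
  have haS : a ∈ (S : Subgroup G) := hS (mem_zpowers a)
  have hpow : ∀ x ∈ (S : Subgroup G), ∃ k : ℕ, x ^ 2 ^ k = 1 := fun x hx => by
    obtain ⟨k, hk⟩ := S.2 ⟨x, hx⟩
    exact ⟨k, congrArg Subtype.val hk⟩
  haveI hnontriv : Nontrivial (S : Subgroup G) :=
    ⟨⟨⟨a, haS⟩, 1, fun e => ha1 (congrArg Subtype.val e)⟩⟩
  have hSab : IsMulCommutative (S : Subgroup G) := by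
    by_contra hna
    have hzn := S.2.center_nontrivial
    obtain ⟨z, hz1⟩ := exists_ne (1 : center (S : Subgroup G))
    obtain ⟨k, hk⟩ := hpow _ (z : (S : Subgroup G)).2
    have hzc := hCS G hQ S hna _ (z : (S : Subgroup G)).2
      fun s hs => congrArg Subtype.val (mem_center_iff.1 z.2 ⟨s, hs⟩)
    exact hz1 (Subtype.ext (Subtype.ext (eq_one_of_two_pow hodd hzc hk)))
  have hcomm : ∀ x ∈ (S : Subgroup G), ∀ y ∈ (S : Subgroup G), x * y = y * x := fun x hx y hy =>
    congrArg Subtype.val (hSab.is_comm.comm ⟨x, hx⟩ ⟨y, hy⟩)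
  have hSC : (S : Subgroup G) ≤ C := fun x hx => mem_centralizer_singleton_iff.2 (hcomm x hx a haS)
  have hfix : ∀ y ∈ (S : Subgroup G),
      (∀ g ∈ normalizer ((S : Subgroup G) : Set G), g * y = y * g) → y = 1 :=
    hTr G hQ.perfect 2 S hSab
  have hNne : normalizer ((S : Subgroup G) : Set G) ≠ ⊤ := fun e =>
    sylow_not_normal hQ hodd heven S (normalizer_eq_top_iff.1 e)
  obtain ⟨g₀, hg₀, hg₀C⟩ : ∃ g ∈ normalizer ((S : Subgroup G) : Set G), g ∉ C := by
    by_contra hno
    push Not at hno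
    exact ha1 (hfix a haS fun g hg => mem_centralizer_singleton_iff.1 (hno g hg))
  have hconjS : ∀ g ∈ normalizer ((S : Subgroup G) : Set G), ∀ x ∈ (S : Subgroup G),
      g * x * g⁻¹ ∈ (S : Subgroup G) := fun g hg x hx => (mem_normalizer_iff.1 hg x).1 hx
  -- the normaliser of the Sylow subgroup in `C` is abelian, so it has a complement
  have hSN : (S : Subgroup G) ≤ normalizer ((S : Subgroup G) : Set G) := le_normalizer
  have hNCab : ∀ x ∈ C, x ∈ normalizer ((S : Subgroup G) : Set G) → ∀ s ∈ (S : Subgroup G), x * s = s * x := by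
    intro x hxC hxN s hs
    by_contra hne
    refine ha1 (hfix a haS fun g hg => ?_)
    exact h.central_of_commutes hNne (hSN haS) hxN (hSN hs) (mem_centralizer_singleton_iff.1 hxC)
      (hcomm s hs a haS) hne g hg
  set P' : Sylow 2 C := S.subtype hSC with hP'def
  have hPmem : ∀ x : C, x ∈ (P' : Subgroup C) ↔ (x : G) ∈ (S : Subgroup G) := fun x => by
    rw [hP'def, Sylow.coe_subtype, mem_subgroupOf]
  have hP' : normalizer ((P' : Subgroup C) : Set C) ≤ centralizer ((P' : Subgroup C) : Set C) := by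
    intro x hx
    refine mem_centralizer_iff.2 fun s hs => Subtype.ext (hNCab x x.2 ?_ s ((hPmem s).1 hs)).symm
    refine mem_normalizer_iff.2 fun y => ⟨fun hy => ?_, fun hy => ?_⟩
    · exact (hPmem (x * ⟨y, hSC hy⟩ * x⁻¹)).1
        ((mem_normalizer_iff.1 hx ⟨y, hSC hy⟩).1 ((hPmem _).2 hy))
    · have hyC : y ∈ C := by
        have := C.mul_mem (C.mul_mem (C.inv_mem x.2) (hSC hy)) x.2
        simpa [mul_assoc] using this
      exact (hPmem ⟨y, hyC⟩).1 ((mem_normalizer_iff.1 hx ⟨y, hyC⟩).2 ((hPmem _).2 hy))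
  obtain ⟨N₀, hN₀, hN₀odd, hN₀c⟩ : ∃ N₀ : Subgroup C, N₀.Normal ∧ ¬ 2 ∣ Nat.card N₀ ∧
      N₀.IsComplement' (P' : Subgroup C) :=
    ⟨_, MonoidHom.normal_ker _, MonoidHom.not_dvd_card_ker_transferSylow P' hP',
      MonoidHom.ker_transferSylow_isComplement' P' hP'⟩
  set O : Subgroup G := N₀.map C.subtype with hO
  have hOC : O ≤ C := map_subtype_le _
  have hOodd : Odd (Nat.card O) := by
    rw [hO, card_map_of_injective C.subtype_injective, Nat.odd_iff]
    omega
  have hOn : ∀ c ∈ C, ∀ o ∈ O, c * o * c⁻¹ ∈ O := by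
    rintro c hc _ ⟨o, ho, rfl⟩
    exact ⟨⟨c, hc⟩ * o * ⟨c, hc⟩⁻¹, hN₀.conj_mem o ho _, rfl⟩
  have hdec : ∀ g ∈ C, ∃ o ∈ O, ∃ s ∈ (S : Subgroup G), g = o * s := by
    intro g hg
    have htop := hN₀c.sup_eq_top
    obtain ⟨o, ho, s, hs, he⟩ :=
      mem_sup_of_normal_left.1 (htop ▸ mem_top (⟨g, hg⟩ : C))
    exact ⟨o, ⟨o, ho, rfl⟩, s, (hPmem s).1 hs, (congrArg Subtype.val he).symm⟩
  -- the centre of `C`
  set X : Subgroup G := C ⊓ centralizer (C : Set G) with hXdef
  have hXc : ∀ x ∈ X, ∀ c ∈ C, c * x = x * c := fun x hx c hc => mem_centralizer_iff.1 hx.2 c hc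
  have hXeq : ∀ x ∈ X, x ∉ center G → centralizer ({x} : Set G) = C := fun x hx hxz =>
    (h.centralizer_eq_of_central hbad hxz fun c hc =>
      mem_centralizer_singleton_iff.2 (hXc x hx c hc)).1
  have hX0 : ∀ y ∈ (S : Subgroup G), y ∈ X → ∀ g : G, g ∉ C → g * y * g⁻¹ ∈ X → y = 1 := by
    intro y hy hyX g hg hgy
    by_contra hy1
    obtain ⟨k, hk⟩ := hpow y hy
    have hyz : y ∉ center G := fun hc => hy1 (eq_one_of_two_pow hodd hc hk)
    have hgyz : g * y * g⁻¹ ∉ center G := fun hc => hyz (by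
      rw [show y = g⁻¹ * (g * y * g⁻¹) * g by group, mem_center_iff.1 hc g⁻¹, inv_mul_cancel_right]
      exact hc)
    refine hg (hNC g fun c hc => ?_)
    rw [← hXeq _ hgy hgyz]
    refine mem_centralizer_singleton_iff.2 ?_
    calc g * c * g⁻¹ * (g * y * g⁻¹) = g * (c * y) * g⁻¹ := by group
      _ = g * (y * c) * g⁻¹ := by rw [hXc y hyX c hc]
      _ = g * y * g⁻¹ * (g * c * g⁻¹) := by group
  have hSX : ¬ (S : Subgroup G) ≤ X := by
    intro hle
    refine hg₀C (hNC g₀ fun c hc => mem_centralizer_singleton_iff.2 ?_)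
    have hy : g₀⁻¹ * a * g₀ ∈ (S : Subgroup G) := by
      have := hconjS _ ((normalizer ((S : Subgroup G) : Set G)).inv_mem hg₀) a haS
      rwa [inv_inv] at this
    calc g₀ * c * g₀⁻¹ * a = g₀ * (c * (g₀⁻¹ * a * g₀)) * g₀⁻¹ := by group
      _ = g₀ * ((g₀⁻¹ * a * g₀) * c) * g₀⁻¹ := by rw [hXc _ (hle hy) c hc]
      _ = a * (g₀ * c * g₀⁻¹) := by group
  -- modulo the centre of `C` there is at most one involution in the Sylow subgroup
  have hclaim : ∀ s ∈ (S : Subgroup G), ∀ t ∈ (S : Subgroup G), s * s ∈ X → t * t ∈ X →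
      s ∉ X → t ∉ X → s * t ∈ X := by
    intro s hs t ht hss htt hsX htX
    by_contra hst
    haveI : (X.subgroupOf C).Normal := ⟨fun x hx c => by
      have e : c * x * c⁻¹ = x := Subtype.ext (by
        show (c : G) * x * (c : G)⁻¹ = x
        rw [hXc (x : G) hx c c.2, mul_inv_cancel_right])
      rwa [e]⟩
    let π := QuotientGroup.mk' (X.subgroupOf C)
    have hπ : ∀ x : C, π x = 1 ↔ (x : G) ∈ X := fun x => by
      rw [QuotientGroup.mk'_apply, QuotientGroup.eq_one_iff, mem_subgroupOf]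
    let U : Subgroup C :=
      { carrier := {x | (x : G) ∈ (S : Subgroup G) ∧ (x : G) * x ∈ X}
        one_mem' := ⟨(S : Subgroup G).one_mem, by simpa using X.one_mem⟩
        mul_mem' := fun {x y} hx hy => ⟨(S : Subgroup G).mul_mem hx.1 hy.1, by
          rw [Subgroup.coe_mul, Commute.mul_mul_mul_comm (hcomm _ hy.1 _ hx.1)]
          exact X.mul_mem hx.2 hy.2⟩
        inv_mem' := fun {x} hx => ⟨(S : Subgroup G).inv_mem hx.1, by
          rw [Subgroup.coe_inv, ← _root_.mul_inv_rev]
          exact X.inv_mem hx.2⟩ }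
    let sC : C := ⟨s, hSC hs⟩
    let tC : C := ⟨t, hSC ht⟩
    have hsU : sC ∈ U := ⟨hs, hss⟩
    have htU : tC ∈ U := ⟨ht, htt⟩
    have hcl : closure {π sC, π tC} ≤ U.map π := by
      rw [closure_le]
      rintro _ (rfl | rfl)
      · exact mem_map_of_mem π hsU
      · exact mem_map_of_mem π htU
    let K := (O.subgroupOf C).map π
    let L := (O.subgroupOf C ⊓ centralizer ((S : Subgroup G).subgroupOf C : Set C)).map π
    have hKcard : (2 : ℕ).Coprime (Nat.card K) := by
      refine Nat.coprime_two_left.2 (Odd.of_dvd_nat hOodd ?_)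
      rw [← Nat.card_congr (subgroupOfEquivOfLe hOC).toEquiv]
      exact card_map_dvd _ _
    have hKn : closure {π sC, π tC} ≤ normalizer (K : Set (C ⧸ X.subgroupOf C)) := by
      haveI : (O.subgroupOf C).Normal := ⟨fun o ho c => hOn c c.2 o ho⟩
      haveI : K.Normal := Normal.map inferInstance π (QuotientGroup.mk'_surjective _)
      rw [normalizer_eq_top]
      exact le_top
    have hsq : ∀ x : C, (x : G) * x ∈ X → π x ^ 2 = 1 := fun x hx => by
      rw [← map_pow, hπ, pow_two, Subgroup.coe_mul]; exact hx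
    have hb1 : π tC ≠ 1 := fun e => htX ((hπ tC).1 e)
    have hnot : π sC ∉ zpowers (π tC) := by
      intro hmem
      obtain ⟨i, hi⟩ := mem_zpowers_iff.1 hmem
      rcases Int.even_or_odd' i with ⟨j, rfl | rfl⟩
      · rw [zpow_mul, zpow_ofNat, hsq tC htt, one_zpow] at hi
        exact hsX ((hπ sC).1 hi.symm)
      · rw [zpow_add, zpow_mul, zpow_ofNat, hsq tC htt, one_zpow, one_mul, zpow_one] at hi
        have h1 : π (sC * tC) = 1 := by
          rw [map_mul, ← hi, ← pow_two]
          exact hsq tC htt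
        exact hst ((hπ _).1 h1)
    have hKL : K ≤ L := by
      refine Coprime.le_of_pair Nat.prime_two hKcard hKn ?_ (hsq sC hss) (hsq tC htt) hb1 hnot ?_
      · show π sC * π tC = π tC * π sC
        rw [← map_mul, ← map_mul]
        exact congrArg π (Subtype.ext (hcomm s hs t ht))
      intro ξ hξ hξ1 z hz
      obtain ⟨u, hu, rfl⟩ := hcl hξ
      obtain ⟨⟨k, hk, rfl⟩, hzc⟩ := hz
      refine ⟨k, ⟨hk, ?_⟩, rfl⟩
      have huX : (u : G) ∉ X := fun hx => hξ1 ((hπ u).2 hx)
      set w : C := u * k * u⁻¹ * k⁻¹ with hw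
      have hwX : (w : G) ∈ X := by
        rw [← hπ, hw]
        simp only [map_mul, map_inv, ← mem_centralizer_singleton_iff.1 hzc]
        group
      have hwO : (w : G) ∈ O := O.mul_mem (hOn u u.2 k hk) (O.inv_mem hk)
      have hw1 : (w : G) = 1 := by
        refine eq_one_of_two_pow hOodd hwO (k := 1) ?_
        have e1 : (u : G) * k * (u : G)⁻¹ = (w : G) * k := by
          rw [hw]; simp only [Subgroup.coe_mul, Subgroup.coe_inv]; group
        have e2 : (u : G) * u * k * ((u : G) * u)⁻¹ = k := by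
          rw [← hXc _ hu.2 k k.2, mul_inv_cancel_right]
        have e3 : (u : G) * u * k * ((u : G) * u)⁻¹ = (w : G) * w * k := by
          calc (u : G) * u * k * ((u : G) * u)⁻¹
              = (u : G) * ((u : G) * k * (u : G)⁻¹) * (u : G)⁻¹ := by group
            _ = ((u : G) * w * (u : G)⁻¹) * ((u : G) * k * (u : G)⁻¹) := by
              conv_lhs => rw [e1]
              group
            _ = (w : G) * w * k := by
              rw [hXc _ hwX u u.2, mul_inv_cancel_right, e1, mul_assoc]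
        rw [e2] at e3
        rw [pow_one, pow_two]
        exact mul_eq_right.1 e3.symm
      have huk : (k : G) * u = u * k := by
        have e : (u : G) * k * (u : G)⁻¹ * (k : G)⁻¹ = 1 := by
          rw [← hw1, hw]; simp only [Subgroup.coe_mul, Subgroup.coe_inv]
        rw [mul_inv_eq_one, mul_inv_eq_iff_eq_mul] at e
        exact e.symm
      refine mem_centralizer_iff.2 fun v hv => Subtype.ext ?_
      obtain ⟨y, hy, hyu⟩ : ∃ y ∈ C, y * u ≠ u * y := by
        by_contra hno
        push Not at hno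
        exact huX ⟨u.2, mem_centralizer_iff.2 fun y hy => hno y hy⟩
      exact (h.comm_of_mem hCne u.2 hy hyu k.2 (hSC hv) huk (hcomm _ hv _ hu.1)).symm
    refine hsX ⟨hSC hs, mem_centralizer_iff.2 fun c hc => ?_⟩
    obtain ⟨o, ho, s', hs', rfl⟩ := hdec c hc
    obtain ⟨l, hl, hle⟩ := hKL (mem_map_of_mem π (show (⟨o, hOC ho⟩ : C) ∈ O.subgroupOf C from ho))
    have hlx : π (l⁻¹ * ⟨o, hOC ho⟩) = 1 := by rw [map_mul, map_inv, hle, inv_mul_cancel]
    have hx := hXc _ ((hπ _).1 hlx) s (hSC hs)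
    have hls : (l : G) * s = s * l :=
      (congrArg Subtype.val (mem_centralizer_iff.1 hl.2 ⟨s, hSC hs⟩ hs)).symm
    simp only [Subgroup.coe_mul, Subgroup.coe_inv] at hx
    have hos : o * s = s * o := by
      calc o * s = (l : G) * ((l : G)⁻¹ * o * s) := by group
        _ = (l : G) * s * ((l : G)⁻¹ * o) := by rw [← hx]; group
        _ = s * o := by rw [hls]; group
    rw [mul_assoc, hcomm s' hs' s hs, ← mul_assoc, hos, mul_assoc]
  -- at most four square roots of one
  set T1 := {x : G | x ∈ (S : Subgroup G) ∧ x * x = 1} with hT1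
  have hinv1 : ∀ x ∈ T1, ∀ y ∈ T1, x ∈ X → y ∈ X → x ≠ 1 → y ≠ 1 → x = y := by
    intro x hx y hy hxX hyX hx1 hy1
    have hg1 := hconjS g₀ hg₀ x hx.1
    have hg2 := hconjS g₀ hg₀ y hy.1
    have nX : ∀ z ∈ T1, z ∈ X → z ≠ 1 → g₀ * z * g₀⁻¹ ∉ X := fun z hz hzX hz1 hc =>
      hz1 (hX0 z hz.1 hzX g₀ hg₀C hc)
    have sqX : ∀ z ∈ T1, g₀ * z * g₀⁻¹ * (g₀ * z * g₀⁻¹) ∈ X := fun z hz => by
      rw [show g₀ * z * g₀⁻¹ * (g₀ * z * g₀⁻¹) = g₀ * (z * z) * g₀⁻¹ by group, hz.2, mul_one, mul_inv_cancel]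
      exact X.one_mem
    have hp := hclaim _ hg1 _ hg2 (sqX x hx) (sqX y hy) (nX x hx hxX hx1) (nX y hy hyX hy1)
    rw [show g₀ * x * g₀⁻¹ * (g₀ * y * g₀⁻¹) = g₀ * (x * y) * g₀⁻¹ by group] at hp
    have h1 := hX0 (x * y) ((S : Subgroup G).mul_mem hx.1 hy.1) (X.mul_mem hxX hyX) g₀ hg₀C hp
    calc x = x * y * y⁻¹ := by group
      _ = y := by rw [h1, one_mul, inv_eq_of_mul_eq_one_right hy.2]
  have haT : a ∈ T1 := ⟨haS, haa⟩
  have haX : a ∈ X := ⟨mem_centralizer_singleton_iff.2 rfl,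
    mem_centralizer_iff.2 fun c hc => mem_centralizer_singleton_iff.1 hc⟩
  set b := g₀ * a * g₀⁻¹ with hb
  have hbS : b ∈ (S : Subgroup G) := hconjS g₀ hg₀ a haS
  have hbb : b * b = 1 := by
    rw [hb, show g₀ * a * g₀⁻¹ * (g₀ * a * g₀⁻¹) = g₀ * (a * a) * g₀⁻¹ by group, haa, mul_one, mul_inv_cancel]
  have hbX : b ∉ X := fun hc => ha1 (hX0 a haS haX g₀ hg₀C hc)
  have hb1 : b ≠ 1 := fun e => hbX (e ▸ X.one_mem)
  have hab : a ≠ b := fun e => hbX (e ▸ haX)
  have hT4 : ∀ x ∈ T1, x = 1 ∨ x = a ∨ x = b ∨ x = a * b := by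
    intro x hx
    by_cases hx1 : x = 1
    · exact Or.inl hx1
    by_cases hxX : x ∈ X
    · exact Or.inr (Or.inl (hinv1 x hx a haT hxX haX hx1 ha1))
    have hp := hclaim x hx.1 b hbS (by rw [hx.2]; exact X.one_mem) (by rw [hbb]; exact X.one_mem) hxX hbX
    have hxb : x * b ∈ T1 := ⟨(S : Subgroup G).mul_mem hx.1 hbS, by
      rw [Commute.mul_mul_mul_comm (hcomm _ hbS _ hx.1), hx.2, hbb, mul_one]⟩
    by_cases h1 : x * b = 1
    · refine Or.inr (Or.inr (Or.inl ?_))
      rw [eq_inv_of_mul_eq_one_left h1, inv_eq_of_mul_eq_one_right hbb]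
    · refine Or.inr (Or.inr (Or.inr ?_))
      rw [← hinv1 _ hxb a haT hp haX h1 ha1, mul_assoc, hbb, mul_one]
  have hT1card : Nat.card {x : G // x ∈ (S : Subgroup G) ∧ x * x = 1} ≤ 4 := by
    refine le_trans (Nat.card_le_card_of_injective
      (fun x => (⟨x.1, by simpa using hT4 x.1 x.2⟩ : ({1, a, b, a * b} : Finset G)))
      fun x y hxy => Subtype.ext (congrArg (fun z : ({1, a, b, a * b} : Finset G) => (z : G)) hxy)) ?_
    rw [Nat.card_eq_fintype_card, Fintype.card_coe]
    exact Finset.card_le_four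
  -- the exponent is two
  have hexp : ∀ x ∈ (S : Subgroup G), x * x = 1 := by
    have hall : ∃ e : ℕ, ∀ x ∈ (S : Subgroup G), x ^ 2 ^ e = 1 := by
      obtain ⟨k, hk⟩ := S.2.exists_card_eq
      exact ⟨k, fun x hx => congrArg Subtype.val (hk ▸ pow_card_eq_one' (x := (⟨x, hx⟩ : (S : Subgroup G))))⟩
    obtain ⟨hle, hmin⟩ : (∀ x ∈ (S : Subgroup G), x ^ 2 ^ Nat.find hall = 1) ∧
        ∀ m < Nat.find hall, ¬ ∀ x ∈ (S : Subgroup G), x ^ 2 ^ m = 1 :=
      ⟨Nat.find_spec hall, fun m hm => Nat.find_min hall hm⟩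
    obtain ⟨e, he⟩ : ∃ e, Nat.find hall = e := ⟨_, rfl⟩
    rw [he] at hle hmin
    rcases e with _ | _ | e
    · intro x hx
      have := hle x hx
      rw [pow_zero, pow_one] at this
      rw [this, one_mul]
    · intro x hx
      have := hle x hx
      rwa [zero_add, pow_one, pow_two] at this
    exfalso
    have hval : ∀ x ∈ (S : Subgroup G), x ^ 2 ^ (e + 1) ∈ T1 := fun x hx =>
      ⟨pow_mem hx _, by rw [← pow_add, ← two_mul, ← pow_succ']; exact hle x hx⟩
    obtain ⟨x, hx, hx1⟩ : ∃ x ∈ (S : Subgroup G), x ^ 2 ^ (e + 1) ≠ 1 := by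
      have := hmin (e + 1) (by omega)
      push Not at this
      exact this
    obtain ⟨y, hy, hy1, hxy⟩ : ∃ y ∈ (S : Subgroup G), y ^ 2 ^ (e + 1) ≠ 1 ∧
        x ^ 2 ^ (e + 1) ≠ y ^ 2 ^ (e + 1) := by
      by_contra hno
      push Not at hno
      refine hx1 (hfix _ (pow_mem hx _) fun g hg => ?_)
      have h1 := hno (g * x * g⁻¹) (hconjS g hg x hx) (by
        rw [conj_pow]; exact fun e' => hx1 (conj_eq_one_iff.1 e'))
      rw [conj_pow] at h1
      rw [eq_mul_inv_iff_mul_eq] at h1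
      exact h1.symm
    obtain ⟨φ⟩ := OddLocalAux.homocyclic hcomm hT1card (e := e + 1) hle hx hy hx1 hy1 hxy
    -- pass to the simple quotient
    haveI := hQ.simple
    let π := QuotientGroup.mk' (center G)
    have hπs : Function.Surjective π := QuotientGroup.mk'_surjective _
    let PL : Sylow 2 (G ⧸ center G) := S.mapSurjective hπs
    have hinjS : Function.Injective (π.subgroupMap (S : Subgroup G)) := by
      rw [← MonoidHom.ker_eq_bot_iff, eq_bot_iff_forall]
      rintro ⟨z, hz⟩ hzk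
      obtain ⟨k, hk⟩ := hpow z hz
      have : z ∈ center G := by
        have e : π z = 1 := congrArg Subtype.val (MonoidHom.mem_ker.1 hzk)
        exact (QuotientGroup.eq_one_iff z).1 e
      exact Subtype.ext (eq_one_of_two_pow hodd this hk)
    let ψ : (S : Subgroup G) ≃* (S : Subgroup G).map π :=
      MulEquiv.ofBijective _ ⟨hinjS, MonoidHom.subgroupMap_surjective _ _⟩
    have haL : π a ≠ 1 := fun hc => hbad.1 ((QuotientGroup.eq_one_iff a).1 hc)
    have hO' : ∀ N : Subgroup (G ⧸ center G), N.Normal → Odd (Nat.card N) → N = ⊥ := by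
      intro N hN hNodd
      rcases hN.eq_bot_or_eq_top with hb' | ht
      · exact hb'
      · exfalso
        rw [ht, card_top] at hNodd
        have h2 : orderOf (π a) = 2 := orderOf_eq_prime (by rw [← map_pow, pow_two, haa, map_one]) haL
        exact Nat.not_even_iff_odd.2 hNodd (even_iff_two_dvd.2 (h2 ▸ orderOf_dvd_natCard (π a)))
    obtain ⟨hPn, -, -⟩ := S0949.result PL (e + 1 + 1) (by omega)
      ((MulEquiv.subgroupCongr (Sylow.coe_mapSurjective hπs S)).trans (ψ.symm.trans φ)) hO'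
    rcases hPn.eq_bot_or_eq_top with hb' | ht
    · rw [Sylow.coe_mapSurjective] at hb'
      exact haL (mem_bot.1 (hb' ▸ mem_map_of_mem π haS))
    · rw [Sylow.coe_mapSurjective] at ht
      have hcomL : ∀ z w : G ⧸ center G, z * w = w * z := fun z w => by
        obtain ⟨z', hz', rfl⟩ := (ht ▸ mem_top z : z ∈ (S : Subgroup G).map π)
        obtain ⟨w', hw', rfl⟩ := (ht ▸ mem_top w : w ∈ (S : Subgroup G).map π)
        rw [← map_mul, ← map_mul, hcomm z' hz' w' hw']
      have hcen : center G = ⊤ := by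
        rw [eq_top_iff, ← hQ.perfect, _root_.commutator_def, Subgroup.commutator_le]
        intro z _ w _
        rw [← QuotientGroup.eq_one_iff, ← QuotientGroup.mk'_apply, map_commutatorElement,
          commutatorElement_eq_one_iff_mul_comm]
        exact hcomL _ _
      exact hbad.1 (hcen ▸ mem_top a)
  have hSmem : ∀ x ∈ (S : Subgroup G), x = 1 ∨ x = a ∨ x = b ∨ x = a * b :=
    fun x hx => hT4 x ⟨hx, hexp x hx⟩
  have habab : a * b ≠ a := fun e => hb1 (mul_eq_left.1 e)
  have habb : a * b ≠ b := fun e => ha1 (mul_eq_right.1 e)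
  have hab1 : a * b ≠ 1 := fun e => hab (by rw [eq_inv_of_mul_eq_one_left e, inv_eq_of_mul_eq_one_right hbb])
  have hS4 : Nat.card (S : Subgroup G) = 4 := by
    have e : ((S : Subgroup G) : Set G) = ({1, a, b, a * b} : Finset G) := by
      ext x
      simp only [SetLike.mem_coe, Finset.coe_insert, Finset.coe_singleton, Set.mem_insert_iff, Set.mem_singleton_iff]
      refine ⟨hSmem x, ?_⟩
      rintro (rfl | rfl | rfl | rfl)
      exacts [one_mem _, haS, hbS, mul_mem haS hbS]
    show Nat.card ((S : Subgroup G) : Set G) = 4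
    rw [e, Nat.card_coe_set_eq, Set.ncard_coe_finset, Finset.card_insert_of_notMem,
      Finset.card_insert_of_notMem, Finset.card_insert_of_notMem, Finset.card_singleton] <;>
      simp [ha1.symm, hb1.symm, hab1.symm, hab, habab.symm, habb.symm]
  -- the normaliser permutes the three involutions cyclically
  have hgb : g₀ * b * g₀⁻¹ = a * b := by
    rcases hSmem _ (hconjS g₀ hg₀ b hbS) with e | e | e | e
    · exact absurd (conj_eq_one_iff.1 e) hb1
    · exfalso
      obtain ⟨i, m, hm, hord⟩ :=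
        Nat.exists_eq_pow_mul_and_not_dvd (orderOf_pos g₀).ne' 2 (by norm_num)
      have hodd' : ∀ j : ℕ, g₀ ^ (2 * j + 1) * a * (g₀ ^ (2 * j + 1))⁻¹ = b := by
        intro j
        induction j with
        | zero => rw [mul_zero, zero_add, pow_one, hb]
        | succ j ih =>
          rw [show 2 * (j + 1) + 1 = 2 + (2 * j + 1) by ring, pow_add, pow_two,
            show g₀ * g₀ * g₀ ^ (2 * j + 1) * a * (g₀ * g₀ * g₀ ^ (2 * j + 1))⁻¹ =
              g₀ * (g₀ * (g₀ ^ (2 * j + 1) * a * (g₀ ^ (2 * j + 1))⁻¹) * g₀⁻¹) * g₀⁻¹ by group, ih, e, hb]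
      obtain ⟨j, hj⟩ : ∃ j, m = 2 * j + 1 := ⟨m / 2, by omega⟩
      have hh : g₀ ^ m ∈ (S : Subgroup G) := by
        have hhp : IsPGroup 2 (zpowers (g₀ ^ m)) := by
          have h1 : (g₀ ^ m) ^ 2 ^ i = 1 := by rw [← pow_mul, mul_comm, ← hord, pow_orderOf_eq_one]
          obtain ⟨i', -, hi'⟩ := (Nat.dvd_prime_pow Nat.prime_two).1 (orderOf_dvd_of_pow_eq_one h1)
          exact IsPGroup.of_card (n := i') (by rw [Nat.card_zpowers, hi'])
        have hsup := hhp.to_sup_of_normal_right' S.2 (zpowers_le.2 (pow_mem hg₀ m))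
        exact (S.is_maximal' hsup le_sup_right) ▸ (le_sup_left (b := (S : Subgroup G)) (mem_zpowers _))
      have := hodd' j
      rw [← hj, hcomm _ hh a haS, mul_inv_cancel_right] at this
      exact hab this
    · exact absurd (mul_left_cancel (mul_right_cancel (e.trans hb))) hab.symm
    · exact e
  refine ⟨b, g₀, O, ha, orderOf_eq_prime (by rw [pow_two, hbb]) hb1, hcomm a haS b hbS, hab, hbad,
    fun P => (Nat.card_congr (P.equiv S).toEquiv).trans hS4, rfl, hgb, hOodd, hOC,
    fun c hc => ?_, fun g hg => ?_⟩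
  · refine mem_normalizer_iff.2 fun o => ⟨hOn c hc o, fun ho => ?_⟩
    have := hOn c⁻¹ (C.inv_mem hc) _ ho
    simpa [mul_assoc] using this
  · obtain ⟨o, ho, s, hs, rfl⟩ := hdec g (mem_centralizer_singleton_iff.2 hg)
    refine ⟨o, ho, ?_⟩
    rcases hSmem s hs with rfl | rfl | rfl | rfl
    exacts [Or.inl (mul_one o), Or.inr (Or.inl rfl), Or.inr (Or.inr (Or.inl rfl)), Or.inr (Or.inr (Or.inr rfl))]

end Cfsg.Agent.Lib.MinNonCA34
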