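import Cfsg.Agent.Lib.MinNonCA34.Spec
import Cfsg.Agent.Lib.SL2.Dickson
import Cfsg.Agent.S0556

/-!
# Minimal non-CA groups: central extensions of `PSL₂` (bricks `pslKill`, `sylowAbelian`, `multiplier`)

In `PSL₂(q)` an element of odd prime order has abelian centraliser, so a bad element of that order
gives an abelian maximal subgroup of a simple group.  The Sylow subgroup for an odd prime lifts to
an abelian group unless `q = 9`: it is cyclic, or the commutator pairing on the unipotent group is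
invariant under the squares, which forces it to vanish.
-/

set_option autoImplicit false

namespace Cfsg.Agent.Lib.MinNonCA34

open Subgroup

universe u

namespace PSLAux

open Cfsg.Agent.Lib.SL2

variable {F : Type*} [Field F] [Fintype F]

/-- Centralisers of elements that are not involutions are abelian in `PSL₂`. -/
theorem comm_of_commute {x y z : PSLtwo F} (hx2 : x * x ≠ 1) (hy : y * x = x * y)
    (hz : z * x = x * z) : y * z = z * y := by
  have hx1 : x ≠ 1 := fun e => hx2 (by rw [e, one_mul])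
  rcases semi_or_unip x with h | h
  · exact torus_comm hx1 (mem_torus_of_commute_semi h hx2 hy) (mem_torus_of_commute_semi h hx2 hz)
  · exact torus_comm hx1 (mem_torus_of_commute_unip h hy) (mem_torus_of_commute_unip h hz)

/-- An odd `p`-subgroup for `p` different from the characteristic is cyclic. -/
theorem isCyclic_of_isPGroup {r : ℕ} [Fact r.Prime] [CharP F r] {p : ℕ} [Fact p.Prime]
    (hp2 : p ≠ 2) (hpr : p ≠ r) (Q : Subgroup (PSLtwo F)) (hQ : IsPGroup p Q) : IsCyclic Q := by
  rcases subsingleton_or_nontrivial Q with h | h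
  · exact isCyclic_of_subsingleton
  have := hQ.center_nontrivial
  obtain ⟨⟨⟨x, hxQ⟩, hxc⟩, hne⟩ := exists_ne (1 : center Q)
  have hx1 : x ≠ 1 := fun e => hne (Subtype.ext (Subtype.ext e))
  obtain ⟨k, hk⟩ := hQ ⟨x, hxQ⟩
  have hk' : x ^ p ^ k = 1 := congrArg Subtype.val hk
  have hord : orderOf x ∣ p ^ k := orderOf_dvd_of_pow_eq_one hk'
  obtain ⟨i, -, hi⟩ := (Nat.dvd_prime_pow (Fact.out : p.Prime)).1 hord
  have hi0 : i ≠ 0 := by
    rintro rfl
    exact hx1 (orderOf_eq_one_iff.1 hi)
  have hx2 : x * x ≠ 1 := by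
    intro e
    have h2 : orderOf x ∣ 2 := orderOf_dvd_of_pow_eq_one (by rw [pow_two, e])
    rw [hi] at h2
    exact hp2 ((Nat.prime_dvd_prime_iff_eq Fact.out Nat.prime_two).1
      ((dvd_pow_self p hi0).trans h2))
  have hsemi : IsSemi x := by
    rcases semi_or_unip x with h' | h'
    · exact h'
    · exfalso
      have h2 := orderOf_dvd_of_unip r h'
      rw [hi] at h2
      exact hpr ((Nat.prime_dvd_prime_iff_eq Fact.out Fact.out).1 ((dvd_pow_self p hi0).trans h2))
  have hle : Q ≤ torus x := fun y hy => mem_torus_of_commute_semi hsemi hx2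
    (congrArg Subtype.val (mem_center_iff.1 hxc ⟨y, hy⟩))
  have := isCyclic_torus_semi hsemi
  exact isCyclic_of_injective (inclusion hle) (inclusion_injective hle)

/-- Two squares at distance one with `s² + s + 1 ≠ 0`. -/
theorem exists_squares (h2 : (2 : F) ≠ 0) (hq : 13 < Fintype.card F) :
    ∃ a b : F, a ≠ 0 ∧ b ≠ 0 ∧ b ^ 2 = a ^ 2 + 1 ∧ (a ^ 2) ^ 2 + a ^ 2 + 1 ≠ 0 := by
  classical
  let P : Polynomial F := Polynomial.X * (Polynomial.X ^ 4 - 1) *
    ((1 - Polynomial.X ^ 2) ^ 4 + 4 * Polynomial.X ^ 2 * (1 - Polynomial.X ^ 2) ^ 2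
      + 16 * Polynomial.X ^ 4)
  have hdeg : P.natDegree ≤ 13 := by
    simp only [P]
    compute_degree
  have h0 : P ≠ 0 := by
    intro e
    have h := congrArg (fun Q => Polynomial.coeff Q 1) e
    have hc : P.coeff 1 = -1 := by
      show Polynomial.coeff (Polynomial.X * (Polynomial.X ^ 4 - 1) * _) (0 + 1) = _
      rw [mul_assoc, Polynomial.coeff_X_mul, Polynomial.coeff_zero_eq_eval_zero]
      simp
    simp only [hc, Polynomial.coeff_zero] at h
    exact one_ne_zero (neg_eq_zero.1 h)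
  obtain ⟨t, ht⟩ : ∃ t : F, P.eval t ≠ 0 := by
    by_contra hall
    push Not at hall
    exact h0 (Polynomial.eq_zero_of_natDegree_lt_card_of_eval_eq_zero P
      (f := fun t : F => t) Function.injective_id hall (by omega))
  simp only [P, Polynomial.eval_mul, Polynomial.eval_X, Polynomial.eval_sub, Polynomial.eval_pow,
    Polynomial.eval_one, Polynomial.eval_add, Polynomial.eval_ofNat] at ht
  have htt : t ≠ 0 := fun e => ht (by rw [e]; ring)
  have h4 : t ^ 4 - 1 ≠ 0 := fun e => ht (by rw [e]; ring)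
  have hR := (mul_ne_zero_iff.1 ht).2
  have h2t : 2 * t ≠ 0 := mul_ne_zero h2 htt
  refine ⟨(1 - t ^ 2) / (2 * t), (1 + t ^ 2) / (2 * t), ?_, ?_, ?_, ?_⟩
  · exact div_ne_zero (fun e => h4 (by linear_combination (-(1 + t ^ 2)) * e)) h2t
  · exact div_ne_zero (fun e => h4 (by linear_combination (t ^ 2 - 1) * e)) h2t
  · field_simp
    ring
  · intro e
    refine hR ?_
    field_simp at e
    linear_combination e

section Unipotent

variable {G : Type u} [Group G] (φ : G →* PSLtwo F) (hφ : Function.Surjective φ)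
  (hker : φ.ker ≤ center G)

/-- A preimage of `upper u`. -/
noncomputable def sec (v : F) : G := Function.surjInv hφ (proj (upper v))

theorem map_sec (v : F) : φ (sec φ hφ v) = proj (upper v) := Function.surjInv_eq hφ _

include hker in
theorem commutator_congr {a a' b b' : G} (ha : φ a = φ a') (hb : φ b = φ b') :
    a * b * a⁻¹ * b⁻¹ = a' * b' * a'⁻¹ * b'⁻¹ := by
  obtain ⟨z, hz, rfl⟩ : ∃ z ∈ center G, a = a' * z := ⟨a'⁻¹ * a,
    hker (by rw [MonoidHom.mem_ker, map_mul, map_inv, ha, inv_mul_cancel]), by group⟩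
  obtain ⟨w, hw, rfl⟩ : ∃ w ∈ center G, b = b' * w := ⟨b'⁻¹ * b,
    hker (by rw [MonoidHom.mem_ker, map_mul, map_inv, hb, inv_mul_cancel]), by group⟩
  have hz' : ∀ g : G, g * z = z * g := fun g => mem_center_iff.1 hz g
  have hw' : ∀ g : G, g * w = w * g := fun g => mem_center_iff.1 hw g
  rw [mul_inv_rev, mul_inv_rev]
  calc a' * z * (b' * w) * (z⁻¹ * a'⁻¹) * (w⁻¹ * b'⁻¹)
      = a' * (z * (b' * w)) * z⁻¹ * a'⁻¹ * (w⁻¹ * b'⁻¹) := by group
    _ = a' * ((b' * w) * z) * z⁻¹ * a'⁻¹ * (w⁻¹ * b'⁻¹) := by rw [← hz' (b' * w)]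
    _ = a' * b' * (w * a'⁻¹) * w⁻¹ * b'⁻¹ := by group
    _ = a' * b' * (a'⁻¹ * w) * w⁻¹ * b'⁻¹ := by rw [← hw' a'⁻¹]
    _ = a' * b' * a'⁻¹ * b'⁻¹ := by group

theorem center_mul_comm (x y : center G) : x * y = y * x :=
  Subtype.ext (mem_center_iff.1 y.2 x)

/-- The commutator pairing. -/
noncomputable def pairing (v w : F) : center G :=
  ⟨sec φ hφ v * sec φ hφ w * (sec φ hφ v)⁻¹ * (sec φ hφ w)⁻¹, hker (by
    rw [MonoidHom.mem_ker]
    simp only [map_mul, map_inv, map_sec]
    rw [← map_mul, upper_mul, add_comm, ← upper_mul, map_mul, mul_inv_cancel_right,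
      mul_inv_cancel])⟩

theorem pairing_eq {v w : F} {a b : G} (ha : φ a = proj (upper v)) (hb : φ b = proj (upper w)) :
    (pairing φ hφ hker v w : G) = a * b * a⁻¹ * b⁻¹ :=
  commutator_congr φ hker ((map_sec φ hφ v).trans ha.symm) ((map_sec φ hφ w).trans hb.symm)

theorem pairing_add_left (v v' w : F) :
    pairing φ hφ hker (v + v') w = pairing φ hφ hker v w * pairing φ hφ hker v' w := by
  refine Subtype.ext ?_
  set a := sec φ hφ v
  set a' := sec φ hφ v'
  set b := sec φ hφ w
  have ha : φ (a * a') = proj (upper (v + v')) := by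
    rw [map_mul, map_sec, map_sec, ← map_mul, upper_mul]
  rw [pairing_eq φ hφ hker ha (map_sec φ hφ w), Subgroup.coe_mul]
  have hc : ∀ g : G, g * (pairing φ hφ hker v' w : G) = (pairing φ hφ hker v' w : G) * g :=
    fun g => mem_center_iff.1 (pairing φ hφ hker v' w).2 g
  calc a * a' * b * (a * a')⁻¹ * b⁻¹
      = a * (pairing φ hφ hker v' w : G) * (b * a⁻¹ * b⁻¹) := by
        show _ = a * (a' * b * a'⁻¹ * b⁻¹) * _
        group
    _ = (pairing φ hφ hker v' w : G) * (pairing φ hφ hker v w : G) := by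
        rw [hc a]
        show _ = _ * (a * b * a⁻¹ * b⁻¹)
        group
    _ = _ := (hc _).symm

theorem pairing_swap (v w : F) : pairing φ hφ hker v w = (pairing φ hφ hker w v)⁻¹ := by
  refine Subtype.ext ?_
  rw [Subgroup.coe_inv]
  show _ = (sec φ hφ w * sec φ hφ v * (sec φ hφ w)⁻¹ * (sec φ hφ v)⁻¹)⁻¹
  show sec φ hφ v * sec φ hφ w * (sec φ hφ v)⁻¹ * (sec φ hφ w)⁻¹ = _
  group

theorem pairing_add_right (v w w' : F) :
    pairing φ hφ hker v (w + w') = pairing φ hφ hker v w * pairing φ hφ hker v w' := by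
  rw [pairing_swap, pairing_add_left, mul_inv_rev, ← pairing_swap, ← pairing_swap, center_mul_comm]

theorem pairing_square (t : Fˣ) (v w : F) :
    pairing φ hφ hker ((t : F) ^ 2 * v) ((t : F) ^ 2 * w) = pairing φ hφ hker v w := by
  refine Subtype.ext ?_
  obtain ⟨d, hd⟩ := hφ (proj (diag t))
  have h : ∀ x : F, φ (d * sec φ hφ x * d⁻¹) = proj (upper ((t : F) ^ 2 * x)) := fun x => by
    rw [map_mul, map_mul, map_inv, hd, map_sec, ← map_inv, ← map_mul, ← map_mul, diag_conj_upper]
  rw [pairing_eq φ hφ hker (h v) (h w)]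
  have hc : d * (pairing φ hφ hker v w : G) = (pairing φ hφ hker v w : G) * d :=
    mem_center_iff.1 (pairing φ hφ hker v w).2 d
  calc d * sec φ hφ v * d⁻¹ * (d * sec φ hφ w * d⁻¹) * (d * sec φ hφ v * d⁻¹)⁻¹ *
        (d * sec φ hφ w * d⁻¹)⁻¹
      = d * (pairing φ hφ hker v w : G) * d⁻¹ := by
        show _ = d * (sec φ hφ v * sec φ hφ w * (sec φ hφ v)⁻¹ * (sec φ hφ w)⁻¹) * d⁻¹
        group
    _ = _ := by rw [hc, mul_inv_cancel_right]

theorem pairing_trivial {p : ℕ} [Fact p.Prime] [CharP F p] (hp2 : p ≠ 2)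
    (h9 : Fintype.card F ≠ 9) (v w : F) : pairing φ hφ hker v w = 1 := by
  obtain ⟨n, hp, hn⟩ := FiniteField.card F p
  by_cases hn1 : (n : ℕ) = 1
  · rw [hn1, pow_one] at hn
    have hbij := (Fintype.bijective_iff_injective_and_card _).2
      ⟨ZMod.castHom_injective (R := F) (n := p) , by rw [ZMod.card, hn]⟩
    obtain ⟨i, hi⟩ := hbij.2 v
    obtain ⟨j, hj⟩ := hbij.2 w
    rw [ZMod.castHom_apply, ← ZMod.natCast_val] at hi hj
    obtain ⟨a, ha⟩ := hφ (proj (upper (1 : F)))
    have h : ∀ k : ℕ, φ (a ^ k) = proj (upper (k : F)) := fun k => by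
      rw [map_pow, ha, ← map_pow, upper_pow, mul_one]
    refine Subtype.ext ?_
    rw [← hi, ← hj, pairing_eq φ hφ hker (h i.val) (h j.val), (Commute.pow_pow_self a i.val j.val).eq,
      mul_inv_cancel_right, mul_inv_cancel, Subgroup.coe_one]
  · have hp3 : 3 ≤ p := by have := hp.two_le; omega
    have h13 : 13 < Fintype.card F := by
      rw [hn] at h9 ⊢
      by_cases h : p = 3
      · subst h
        have : 3 ≤ (n : ℕ) := by
          rcases Nat.lt_or_ge (n : ℕ) 3 with h' | h'
          · exfalso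
            have h2 : (n : ℕ) = 2 := by have := n.pos; omega
            exact h9 (by rw [h2]; norm_num)
          · exact h'
        calc 13 < 3 ^ 3 := by norm_num
          _ ≤ _ := Nat.pow_le_pow_right (by norm_num) this
      · have h5 : 4 ≤ p := by omega
        calc 13 < 4 ^ 2 := by norm_num
          _ ≤ p ^ 2 := Nat.pow_le_pow_left h5 2
          _ ≤ _ := Nat.pow_le_pow_right (by omega) (by have := n.pos; omega)
    obtain ⟨a, b, ha, hb, hab, hne⟩ := exists_squares (F := F) (Ring.two_ne_zero (by rwa [ringChar.eq F p])) h13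
    set s := a ^ 2 with hs
    have hs0 : s ≠ 0 := pow_ne_zero 2 ha
    have hsq : ∀ v w : F, pairing φ hφ hker (s * v) w = pairing φ hφ hker v (s⁻¹ * w) := fun v w => by
      have := pairing_square φ hφ hker (Units.mk0 a ha) v (s⁻¹ * w)
      rwa [Units.val_mk0, ← hs, mul_inv_cancel_left₀ hs0] at this
    have key : ∀ v w : F, pairing φ hφ hker v ((s + s⁻¹ + 1) * w) = 1 := fun v w => by
      have h1 := pairing_square φ hφ hker (Units.mk0 b hb) v w
      have h2 := pairing_square φ hφ hker (Units.mk0 a ha) v w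
      rw [Units.val_mk0] at h1 h2
      rw [hab, add_mul, add_mul, one_mul, one_mul, pairing_add_left, pairing_add_right,
        pairing_add_right, h2] at h1
      rw [add_mul, add_mul, one_mul, pairing_add_right, pairing_add_right, ← hsq]
      generalize pairing φ hφ hker (s * v) w = x at h1 ⊢
      generalize pairing φ hφ hker v (s * w) = y at h1 ⊢
      generalize pairing φ hφ hker v w = c at h1 ⊢
      rw [mul_assoc, mul_eq_left] at h1
      calc y * x * c = x * (y * c) := by rw [center_mul_comm y x, mul_assoc]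
        _ = 1 := h1
    have hc : s + s⁻¹ + 1 ≠ 0 := by
      intro e
      refine hne ?_
      field_simp at e
      linear_combination e
    have := key v ((s + s⁻¹ + 1)⁻¹ * w)
    rwa [mul_inv_cancel_left₀ hc] at this

end Unipotent

/-- The unipotent preimage is abelian. -/
theorem comm_of_map_unip {G : Type u} [Group G] (φ : G →* PSLtwo F) (hφ : Function.Surjective φ)
    (hker : φ.ker ≤ center G) {p : ℕ} [Fact p.Prime] [CharP F p] (hp2 : p ≠ 2)
    (h9 : Fintype.card F ≠ 9) {a b : G} (ha : φ a ∈ torus (proj (upper (1 : F))))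
    (hb : φ b ∈ torus (proj (upper (1 : F)))) : a * b = b * a := by
  have hel : ∀ y ∈ torus (proj (upper (1 : F))), ∃ v : F, y = proj (upper v) := fun y hy => by
    obtain ⟨h, rfl⟩ := proj_surjective y
    obtain ⟨h10, h00⟩ := (centralizer_upper_iff one_ne_zero).1 (proj_mem_torus_iff.1 hy)
    have hd := det_entries h
    rw [h10, mul_zero, sub_zero, ← h00] at hd
    rcases mul_self_eq_one_iff.1 hd with e | e
    · refine ⟨h 0 1, congrArg proj (ext_entries ?_ ?_ ?_ ?_)⟩
      · rw [upper_00]; exact e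
      · rw [upper_01]
      · rw [upper_10]; exact h10
      · rw [upper_11, ← h00]; exact e
    · refine ⟨-h 0 1, ?_⟩
      rw [← proj_neg h]
      refine congrArg proj (ext_entries ?_ ?_ ?_ ?_)
      · simp [e]
      · simp
      · simp [h10]
      · simp [← h00, e]
  obtain ⟨v, hv⟩ := hel _ ha
  obtain ⟨w, hw⟩ := hel _ hb
  have h := pairing_eq φ hφ hker hv hw
  rw [pairing_trivial φ hφ hker hp2 h9, Subgroup.coe_one] at h
  exact mul_inv_eq_iff_eq_mul.1 (eq_mul_inv_iff_mul_eq.1 h |>.symm.trans (one_mul _))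

theorem quot_not_comm {G : Type u} [Group G] (hperf : commutator G = ⊤)
    (hns : ¬ Group.IsSolvable G) : ¬ ∀ a b : G ⧸ center G, a * b = b * a := by
  intro h
  have hle : commutator G ≤ center G := by
    rw [commutator_eq_closure, Subgroup.closure_le]
    rintro _ ⟨a, b, rfl⟩
    rw [SetLike.mem_coe, ← QuotientGroup.eq_one_iff, commutatorElement_def]
    simp only [QuotientGroup.mk_mul, QuotientGroup.mk_inv]
    rw [h (a : G ⧸ center G) b, mul_inv_cancel_right, mul_inv_cancel]
  exact hns (Group.isSolvable_of_comm fun a b =>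
    mem_center_iff.1 (hle (hperf ▸ mem_top b)) a)

end PSLAux

open PSLAux in
/-- If `G / Z(G)` is `PSL₂(q)`, no bad element has odd prime power order. -/
theorem pslKill : PSLKillBrick.{u} := by
  rintro G _ _ hQ ⟨F, _, _, -, ⟨e⟩⟩ x p k hp hp2 hx hbad
  classical
  have hex : ∃ n : ℕ, x ^ p ^ n ∈ center G := ⟨k, by rw [← hx, pow_orderOf_eq_one]; exact one_mem _⟩
  obtain ⟨j, hj⟩ : ∃ j, Nat.find hex = j + 1 := Nat.exists_eq_succ_of_ne_zero fun h0 => hbad.1 (by
    have := Nat.find_spec hex
    rwa [h0, pow_zero, pow_one] at this)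
  have hy : x ^ p ^ j ∉ center G := Nat.find_min hex (by omega)
  have hyp : (x ^ p ^ j) ^ p ∈ center G := by
    rw [← pow_mul, ← pow_succ, ← hj]
    exact Nat.find_spec hex
  obtain ⟨-, hby⟩ := hQ.toHyp.bad_pow hbad hy
  set y := x ^ p ^ j
  let π : G →* G ⧸ center G := QuotientGroup.mk' _
  have hπ : Function.Surjective π := QuotientGroup.mk'_surjective _
  have h1 : π y ≠ 1 := fun h => hy ((QuotientGroup.eq_one_iff y).1 h)
  have hpow : π y ^ p = 1 := by rw [← map_pow]; exact (QuotientGroup.eq_one_iff _).2 hyp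
  have hord : orderOf (π y) = p := have := Fact.mk hp; orderOf_eq_prime hpow h1
  have h2 : e (π y) * e (π y) ≠ 1 := fun h => by
    rw [← map_mul, e.map_eq_one_iff, ← pow_two] at h
    have := orderOf_dvd_of_pow_eq_one h
    rw [hord] at this
    exact hp2 ((Nat.prime_dvd_prime_iff_eq hp Nat.prime_two).1 this)
  set M := centralizer ({π y} : Set (G ⧸ center G))
  have hcomm : ∀ a ∈ M, ∀ b ∈ M, a * b = b * a := fun a ha b hb => e.injective (by
    rw [map_mul, map_mul]
    exact comm_of_commute h2 (by rw [← map_mul, mem_centralizer_singleton_iff.1 ha, map_mul])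
      (by rw [← map_mul, mem_centralizer_singleton_iff.1 hb, map_mul]))
  have hne : M ≠ ⊤ := fun h => quot_not_comm hQ.perfect hQ.not_solvable fun a b =>
    hcomm a (h ▸ mem_top a) b (h ▸ mem_top b)
  have hle : centralizer ({y} : Set G) ≤ M.comap π := fun g hg => mem_comap.2
    (mem_centralizer_singleton_iff.2 (by
      rw [← map_mul, mem_centralizer_singleton_iff.1 hg, map_mul]))
  have hinj := comap_injective (f := π) hπ
  have heq : centralizer ({y} : Set G) = M.comap π := by
    rcases eq_or_lt_of_le hle with h | h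
    · exact h
    · exact absurd (hinj (((hQ.toHyp.isCoatom_centralizer hby).2 _ h).trans (comap_top π).symm)) hne
  have hM : IsCoatom M := ⟨hne, fun N hN => hinj (by
    rw [comap_top]
    refine (hQ.toHyp.isCoatom_centralizer hby).2 _ ?_
    rw [heq]
    exact lt_of_le_of_ne (comap_mono hN.le) fun h => hN.ne (hinj h))⟩
  have : IsMulCommutative M := ⟨⟨fun a b => Subtype.ext (hcomm a a.2 b b.2)⟩⟩
  have := hQ.simple
  have : Group.IsSolvable (G ⧸ center G) := ⟨3, Cfsg.Agent.S0556.result M hM⟩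
  exact quot_not_comm hQ.perfect hQ.not_solvable
    (IsSimpleGroup.comm_iff_isSolvable.2 inferInstance)

open PSLAux Cfsg.Agent.Lib.SL2 in
/-- Odd Sylow subgroups of central extensions of `PSL₂(q)`, `q ≠ 9`, are abelian. -/
theorem sylowAbelian : SylowAbelianBrick.{u} := by
  rintro G _ _ ⟨F, _, _, ⟨-, h9⟩, ⟨e⟩⟩ p _ hp2 P
  obtain ⟨r, hr⟩ := CharP.exists F
  have : Fact r.Prime := ⟨CharP.char_is_prime F r⟩
  let φ : G →* PSLtwo F := e.toMonoidHom.comp (QuotientGroup.mk' (center G))
  have hφ : Function.Surjective φ := e.surjective.comp (QuotientGroup.mk'_surjective _)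
  have hker : φ.ker ≤ center G := fun g hg => by
    rw [MonoidHom.mem_ker] at hg
    exact (QuotientGroup.eq_one_iff g).1 (e.map_eq_one_iff.1 hg)
  have hQ : IsPGroup p ((P : Subgroup G).map φ) := P.isPGroup'.map φ
  by_cases hpr : p = r
  · subst hpr
    have hx1 : proj (upper (1 : F)) ≠ 1 := fun h => by
      have h' := ((mem_center_iff_entries _).1 (proj_eq_one_iff.1 h))
      rw [upper_01] at h'
      exact one_ne_zero h'.1
    have hu : IsUnip (proj (upper (1 : F))) := ⟨upper 1, rfl, by simp [tr]; norm_num⟩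
    obtain ⟨S, hS⟩ := hQ.exists_le_sylow
    obtain ⟨g, hg⟩ := MulAction.exists_smul_eq (PSLtwo F) (torusSylow p hu hx1) S
    obtain ⟨h, hh⟩ := hφ g
    have hmem : ∀ a ∈ (P : Subgroup G), φ (h⁻¹ * a * h) ∈ torus (proj (upper (1 : F))) := by
      intro a ha
      have h' : φ a ∈ (S : Subgroup (PSLtwo F)) := hS (mem_map_of_mem φ ha)
      rw [← hg, Sylow.coe_subgroup_smul, Subgroup.mem_pointwise_smul_iff_inv_smul_mem] at h'
      rw [map_mul, map_mul, map_inv, hh]
      simpa [MulAut.conj, MulAut.smul_def, torusSylow] using h'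
    refine ⟨⟨fun a b => Subtype.ext ?_⟩⟩
    have := comm_of_map_unip φ hφ hker hp2 h9 (hmem a a.2) (hmem b b.2)
    calc (a : G) * b = h * ((h⁻¹ * a * h) * (h⁻¹ * b * h)) * h⁻¹ := by group
      _ = h * ((h⁻¹ * b * h) * (h⁻¹ * a * h)) * h⁻¹ := by rw [this]
      _ = b * a := by group
  · have := isCyclic_of_isPGroup (F := F) (r := r) hp2 hpr _ hQ
    have hk : (φ.subgroupMap (P : Subgroup G)).ker ≤ center (P : Subgroup G) := fun a ha =>
      mem_center_iff.2 fun b => Subtype.ext
        (mem_center_iff.1 (hker (congrArg Subtype.val ha)) b)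
    exact MonoidHom.isMulCommutative_of_isCyclic_of_ker_le_center (φ.subgroupMap (P : Subgroup G)) hk

/-- The multiplier of `PSL₂(q)` has no odd part when `q ≡ 3, 5 (mod 8)`. -/
theorem multiplier (hT : TransferBrick.{u}) : MultiplierBrick.{u} := by
  rintro G _ _ hperf hodd ⟨F, _, _, ⟨h5, h8⟩, e⟩
  by_contra hne
  obtain ⟨s, hs, hdvd⟩ := Nat.exists_prime_and_dvd
    (fun h => hne (eq_bot_of_card_eq _ h) : Nat.card (center G) ≠ 1)
  have := Fact.mk hs
  have hs2 : s ≠ 2 := fun h => by
    subst h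
    exact Nat.not_even_iff_odd.2 hodd (even_iff_two_dvd.2 hdvd)
  obtain ⟨z, hz⟩ := exists_prime_orderOf_dvd_card' s hdvd
  obtain ⟨P⟩ : Nonempty (Sylow s G) := inferInstance
  have hzP : (z : G) ∈ (P : Subgroup G) := by
    have hzp : IsPGroup s (zpowers (z : G)) := IsPGroup.of_card (n := 1) (by
      rw [Nat.card_zpowers, Subgroup.orderOf_coe, hz, pow_one])
    have : (zpowers (z : G)).Normal := ⟨fun n hn g => by
      rw [mem_center_iff.1 ((zpowers_le.2 z.2 : zpowers (z : G) ≤ center G) hn) g,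
        mul_inv_cancel_right]
      exact hn⟩
    obtain ⟨Q, hQ⟩ := hzp.exists_le_sylow
    obtain ⟨g, hg⟩ := MulAction.exists_smul_eq G Q P
    rw [← hg, Sylow.coe_subgroup_smul, Subgroup.mem_pointwise_smul_iff_inv_smul_mem]
    refine hQ ?_
    simp [MulAut.conj, MulAut.smul_def, (mem_center_iff.1 z.2 g⁻¹)]
  have hP := sylowAbelian G ⟨F, _, _, ⟨by omega, by omega⟩, e⟩ s hs2 P
  have h1 := hT G hperf s P hP z hzP fun g _ => mem_center_iff.1 z.2 g
  rw [← Subgroup.orderOf_coe, h1, orderOf_one] at hz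
  exact hs.ne_one hz.symm

end Cfsg.Agent.Lib.MinNonCA34
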