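import Cfsg.Agent.Lib.SL2.ToriExist
import Cfsg.Agent.Lib.LinGroup.Simple

/-!
# Minimal non-CA groups: the facts about `PSL₂(q)` used by the perfectness brick

Automorphisms fixing a unipotent torus pointwise are inner, and an automorphism whose fixed
subgroup is closed under tori is strongly restricted.
-/

set_option autoImplicit false

namespace Cfsg.Agent.Lib.MinNonCA34.PerfectAux

open Subgroup Cfsg.Agent.Lib.SL2

/-- An automorphism of a simple group that fixes every coset of a proper subgroup is trivial. -/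
theorem aut_eq_one_of_coset_fixed {P : Type*} [Group P] [IsSimpleGroup P] {L : Subgroup P}
    (hL : L ≠ ⊤) (β : MulAut P) (h : ∀ g : P, g⁻¹ * β g ∈ L) : β = 1 := by
  refine MulEquiv.ext fun g => ?_
  have hcore : L.normalCore = ⊥ := by
    rcases L.normalCore_normal.eq_bot_or_eq_top with e | e
    · exact e
    · exact absurd (top_le_iff.1 (e.symm.le.trans L.normalCore_le)) hL
  have hmem : g⁻¹ * β g ∈ L.normalCore := by
    intro k
    have h1 := L.mul_mem (h (g * k⁻¹)) (L.inv_mem (h k⁻¹))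
    have e : k * (g⁻¹ * β g) * k⁻¹ = (g * k⁻¹)⁻¹ * β (g * k⁻¹) * ((k⁻¹)⁻¹ * β k⁻¹)⁻¹ := by
      simp [mul_assoc]
    rw [e]
    exact h1
  rw [hcore, mem_bot] at hmem
  simpa using (inv_mul_eq_one.1 hmem).symm

variable {F : Type*} [Field F]

/-- The unipotent torus through `upper 1`. -/
noncomputable abbrev U₀ : Subgroup (PSLtwo F) := torus (proj (upper (1 : F)))

theorem mem_U₀_iff {g : SLtwo F} : proj g ∈ (U₀ : Subgroup (PSLtwo F)) ↔ g 1 0 = 0 ∧ g 0 0 = g 1 1 := by
  rw [proj_mem_torus_iff, centralizer_upper_iff one_ne_zero]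

theorem proj_upper_mem (a : F) : proj (upper a) ∈ (U₀ : Subgroup (PSLtwo F)) := by
  rw [mem_U₀_iff]; simp

theorem exists_upper_of_mem {g : SLtwo F} (h : proj g ∈ (U₀ : Subgroup (PSLtwo F))) :
    ∃ a, proj g = proj (upper a) := by
  obtain ⟨h10, h00⟩ := mem_U₀_iff.1 h
  have hd := det_entries g
  rw [h10, mul_zero, sub_zero, ← h00] at hd
  rcases mul_self_eq_one_iff.1 hd with e | e
  · exact ⟨g 0 1, by
      congr 1
      apply ext_entries <;> simp [h10, ← h00, e]⟩
  · refine ⟨-g 0 1, ?_⟩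
    rw [← proj_neg]
    congr 1
    apply ext_entries <;> simp [h10, ← h00, e]

theorem mem_B₀_iff {n : SLtwo F} :
    proj n ∈ normalizer ((U₀ : Subgroup (PSLtwo F)) : Set (PSLtwo F)) ↔ n 1 0 = 0 := by
  rw [mem_normalizer_torus_iff proj_upper_one_ne, ← map_inv, ← map_mul, ← map_mul,
    proj_mem_torus_iff, normalizer_upper_iff one_ne_zero]

theorem weyl_notMem_B₀ : proj weyl ∉ normalizer ((U₀ : Subgroup (PSLtwo F)) : Set (PSLtwo F)) := by
  rw [mem_B₀_iff]
  simp [weyl, ofEntries]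

/-- The two double cosets of the Borel subgroup. -/
theorem bruhat (g : PSLtwo F) :
    g ∈ normalizer ((U₀ : Subgroup (PSLtwo F)) : Set (PSLtwo F)) ∨
      ∃ a ∈ (U₀ : Subgroup (PSLtwo F)), ∃ m ∈ normalizer ((U₀ : Subgroup (PSLtwo F)) : Set (PSLtwo F)),
        g = a * proj weyl * m := by
  obtain ⟨n, rfl⟩ := proj_surjective g
  by_cases h : n 1 0 = 0
  · exact Or.inl (mem_B₀_iff.2 h)
  refine Or.inr ⟨proj (upper (n 0 0 / n 1 0)), proj_upper_mem _,
    proj (weyl⁻¹ * ((upper (n 0 0 / n 1 0))⁻¹ * n)), mem_B₀_iff.2 ?_, ?_⟩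
  · simp only [mul_10, mul_00, inv_00, inv_01, inv_10, inv_11, upper_00, upper_01, upper_10,
      upper_11]
    simp [weyl, ofEntries]
    field_simp
    ring
  · rw [← map_mul, ← map_mul]
    congr 1
    group

theorem inner_of_fix_U₀ [IsSimpleGroup (PSLtwo F)] [Fintype F] (β : MulAut (PSLtwo F))
    (hfix : ∀ y ∈ (U₀ : Subgroup (PSLtwo F)), β y = y) :
    ∃ v, β = MulAut.conj v := by
  set B := normalizer ((U₀ : Subgroup (PSLtwo F)) : Set (PSLtwo F)) with hB
  set w : PSLtwo F := proj weyl with hw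
  have hBβ : ∀ g ∈ B, β g ∈ B := by
    intro g hg
    rw [hB, mem_normalizer_torus_iff proj_upper_one_ne]
    have h1 : g * proj (upper (1 : F)) * g⁻¹ ∈ (U₀ : Subgroup (PSLtwo F)) :=
      (mem_normalizer_torus_iff proj_upper_one_ne).1 hg
    have h2 := hfix _ h1
    rw [map_mul, map_mul, map_inv, hfix _ (mem_torus_self _)] at h2
    rw [h2]; exact h1
  have hβw : β w ∉ B := by
    intro hmem
    refine weyl_notMem_B₀ (F := F) ((mem_normalizer_torus_iff proj_upper_one_ne).2 ?_)
    have h1 : β w * proj (upper (1 : F)) * (β w)⁻¹ ∈ (U₀ (F := F)) :=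
      (mem_normalizer_torus_iff proj_upper_one_ne).1 hmem
    have h2 : β (w * proj (upper (1 : F)) * w⁻¹) =
        β w * proj (upper (1 : F)) * (β w)⁻¹ := by
      rw [map_mul, map_mul, map_inv, hfix _ (mem_torus_self _)]
    have h3 := hfix _ h1
    rw [← h2] at h3 h1
    rw [← β.injective h3]
    exact h1
  obtain ⟨v, hv, m, hm, hvm⟩ := (bruhat (β w)).resolve_left hβw
  refine ⟨v, ?_⟩
  set β₁ : MulAut (PSLtwo F) := (MulAut.conj v)⁻¹ * β with hβ₁
  have happ : ∀ g, β₁ g = v⁻¹ * β g * v := fun g => by simp [hβ₁, MulAut.mul_apply]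
  have hone : β₁ = 1 := by
    have hBtop : B ≠ ⊤ := fun e => weyl_notMem_B₀ (e ▸ mem_top w)
    refine aut_eq_one_of_coset_fixed hBtop β₁ fun g => ?_
    have hfix₁ : ∀ y ∈ (U₀ : Subgroup (PSLtwo F)), β₁ y = y := fun y hy => by
      rw [happ, hfix y hy, mul_assoc, torus_comm proj_upper_one_ne hy hv, inv_mul_cancel_left]
    have hvB : v ∈ B := Subgroup.le_normalizer hv
    have hB₁ : ∀ g ∈ B, β₁ g ∈ B := fun g hg => by
      rw [happ]; exact B.mul_mem (B.mul_mem (B.inv_mem hvB) (hBβ g hg)) hvB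
    rcases bruhat g with hg | ⟨a, ha, b, hb, rfl⟩
    · exact B.mul_mem (B.inv_mem hg) (hB₁ g hg)
    · have e1 : β₁ w = w * (m * v) := by rw [happ, hvm]; simp only [← hw]; group
      have e2 : β₁ (a * w * b) = a * w * (m * v) * β₁ b := by
        rw [map_mul, map_mul, hfix₁ a ha, e1]; group
      rw [e2, show (a * w * b)⁻¹ * (a * w * (m * v) * β₁ b) = b⁻¹ * (m * v) * β₁ b by group]
      exact B.mul_mem (B.mul_mem (B.inv_mem hb) (B.mul_mem hm hvB)) (hB₁ b hb)
  rw [hβ₁, inv_mul_eq_one] at hone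
  exact hone.symm

theorem conj_upper_data {x : PSLtwo F} (hx : IsUnip x) (hx1 : x ≠ 1) :
    ∃ (k : PSLtwo F) (c : F), c ≠ 0 ∧ k * x * k⁻¹ = proj (upper c) ∧
      ∀ y, y ∈ torus x ↔ k * y * k⁻¹ ∈ (U₀ : Subgroup (PSLtwo F)) := by
  obtain ⟨g, rfl, ht⟩ := hx
  obtain ⟨k, c, hk⟩ := exists_conj_upper ht
  have hkx : proj k * proj g * (proj k)⁻¹ = proj (upper c) := by
    rw [← map_inv, ← map_mul, ← map_mul, hk]
  have hne : proj (upper c) ≠ 1 := hkx ▸ fun e => hx1 (conj_eq_one_iff.1 e)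
  have hc : c ≠ 0 := by rintro rfl; exact hne (by rw [upper_zero, map_one])
  refine ⟨proj k, c, hc, hkx, fun y => ?_⟩
  show _ ↔ _ ∈ torus (proj (upper (1 : F)))
  rw [← torus_eq_of_mem proj_upper_one_ne (proj_upper_mem c) hne, ← hkx, conj_mem_torus_conj_iff]

/-- An automorphism fixing a unipotent torus pointwise is inner. -/
theorem inner_of_fix_unip [IsSimpleGroup (PSLtwo F)] [Fintype F] (β : MulAut (PSLtwo F))
    {x : PSLtwo F} (hx : IsUnip x) (hx1 : x ≠ 1) (hfix : ∀ y ∈ torus x, β y = y) :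
    ∃ v, β = MulAut.conj v := by
  obtain ⟨k, c, -, -, hk⟩ := conj_upper_data hx hx1
  obtain ⟨v, hv⟩ := inner_of_fix_U₀ (MulAut.conj k * β * (MulAut.conj k)⁻¹) fun y hy => by
    have h1 : k⁻¹ * y * k ∈ torus x := by
      rw [hk]; simpa [mul_assoc] using hy
    have h2 := hfix _ h1
    simp only [MulAut.mul_apply, MulAut.conj_apply, MulAut.conj_inv_apply, h2]
    group
  refine ⟨k⁻¹ * v * k, ?_⟩
  have h3 := congrArg (fun γ => (MulAut.conj k)⁻¹ * γ * MulAut.conj k) hv
  simp only [mul_assoc, inv_mul_cancel_left, inv_mul_cancel, mul_one] at h3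
  rw [h3, map_mul, map_mul, map_inv, mul_assoc]

/-- Elements commuting with a unipotent element lie in its torus. -/
theorem mem_torus_of_comm_unip {x m : PSLtwo F} (hx : IsUnip x) (h : m * x = x * m) :
    m ∈ torus x := by
  obtain ⟨g, rfl, ht⟩ := hx
  obtain ⟨a, rfl⟩ := proj_surjective m
  rw [proj_mem_torus_iff, Subgroup.mem_centralizer_singleton_iff]
  have e : proj (a * g * a⁻¹) = proj g := by
    rw [map_mul, map_mul, map_inv, h, mul_inv_cancel_right]
  rcases proj_eq_proj_iff.1 e with h' | h'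
  · exact (mul_inv_eq_iff_eq_mul.1 h'.symm)
  · have htr := congrArg tr h'
    rw [tr_neg, tr_conj, ht] at htr
    have h20 : (2 : F) + 2 = 0 := by linear_combination htr
    have h2 : (2 : F) = 0 := by
      rcases eq_or_ne (2 : F) 0 with e2 | e2
      · exact e2
      · exact (mul_self_eq_zero (M₀ := F)).1 (by linear_combination h20)
    have hneg : -(a * g * a⁻¹) = a * g * a⁻¹ := by
      rw [show -(a * g * a⁻¹) = -1 * (a * g * a⁻¹) by simp, neg_one_eq_one h2, one_mul]
    rw [hneg] at h'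
    exact mul_inv_eq_iff_eq_mul.1 h'.symm

/-- Elements commuting with a semisimple element: in the torus, or inverting it. -/
theorem comm_semi_cases {x m : PSLtwo F} (hx : IsSemi x) (h : m * x = x * m) :
    m ∈ torus x ∨
      (m ∉ torus x ∧ x * x = 1 ∧ m * m = 1 ∧ ∀ y ∈ torus x, m * y * m⁻¹ = y⁻¹) := by
  have hc : m * x * m⁻¹ = x := by rw [h, mul_inv_cancel_right]
  rcases normalizer_torus_semi hx (show m * x * m⁻¹ ∈ torus x by rw [hc]; exact mem_torus_self x) with e | ⟨e0, e1, e2⟩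
  · exact Or.inl e
  · refine Or.inr ⟨e0, ?_, e1, e2⟩
    have h' := (hc.symm.trans (e2 x (mem_torus_self x)))
    exact mul_eq_one_iff_eq_inv.2 h'

variable [Fintype F]

theorem exists_sq_ne_one (hq : 4 ≤ Fintype.card F) : ∃ t : Fˣ, (t : F) ^ 2 ≠ 1 := by
  classical
  by_contra h
  push Not at h
  have hsub : (Finset.univ : Finset F) ⊆ {0, 1, -1} := by
    intro a _
    rcases eq_or_ne a 0 with ha | ha
    · simp [ha]
    · rcases sq_eq_one_iff.1 (h (Units.mk0 a ha)) with e | e
      · simp at e; simp [e]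
      · simp at e; simp [e]
  have := (Finset.card_le_card hsub).trans Finset.card_le_three
  rw [Finset.card_univ] at this
  omega

/-- A unipotent torus is properly normalised. -/
theorem exists_normalizer_unip (hq : 4 ≤ Fintype.card F) {x : PSLtwo F} (hx : IsUnip x)
    (hx1 : x ≠ 1) : ∃ n, n * x * n⁻¹ ∈ torus x ∧ n ∉ torus x := by
  obtain ⟨k, c, hc, hkx, hk⟩ := conj_upper_data hx hx1
  obtain ⟨t, ht⟩ := exists_sq_ne_one hq
  refine ⟨k⁻¹ * proj (diag t) * k, ?_, ?_⟩
  · rw [hk, show k * (k⁻¹ * proj (diag t) * k * x * (k⁻¹ * proj (diag t) * k)⁻¹) * k⁻¹ =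
      proj (diag t) * (k * x * k⁻¹) * (proj (diag t))⁻¹ by group, hkx, ← map_inv, ← map_mul,
      ← map_mul, diag_conj_upper]
    exact proj_upper_mem _
  · rw [hk, show k * (k⁻¹ * proj (diag t) * k) * k⁻¹ = proj (diag t) by group, mem_U₀_iff]
    rintro ⟨-, h⟩
    simp [diag, ofEntries] at h
    exact ht (by rw [sq]; nth_rw 2 [h]; simp)

/-- A torus-closed subgroup meeting a unipotent torus, with a further element normalising it,
contains that torus. -/
theorem unip_spread (H : Subgroup (PSLtwo F)) (hH : ∀ y ∈ H, IsSemi y → torus y ≤ H)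
    {x n : PSLtwo F} (hx : IsUnip x) (hx1 : x ≠ 1) (hxH : x ∈ H) (hn : n ∈ H)
    (hnx : n * x * n⁻¹ ∈ torus x) (hnT : n ∉ torus x) : torus x ≤ H := by
  obtain ⟨k, c, hc, hkx, hk⟩ := conj_upper_data hx hx1
  -- move to the standard position
  set H' : Subgroup (PSLtwo F) := H.comap (MulAut.conj k⁻¹).toMonoidHom with hH'
  have hmem : ∀ y, y ∈ H' ↔ k⁻¹ * y * k ∈ H := fun y => by simp [hH', mem_comap]
  have hcl : ∀ y ∈ H', IsSemi y → torus y ≤ H' := by
    intro y hy hys z hz
    rw [hmem] at hy ⊢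
    refine hH _ hy ?_ ?_
    · simpa using isSemi_conj hys k⁻¹
    · have := (conj_mem_torus_conj_iff (n := k⁻¹)).2 hz
      simpa using this
  obtain ⟨g, hg⟩ := proj_surjective (k * n * k⁻¹)
  have hg10 : g 1 0 = 0 := by
    rw [← mem_B₀_iff, hg, mem_normalizer_torus_iff proj_upper_one_ne]
    have h1 : k * (n * x * n⁻¹) * k⁻¹ ∈ (U₀ : Subgroup (PSLtwo F)) := (hk _).1 hnx
    have h2 : k * (n * x * n⁻¹) * k⁻¹ =
        k * n * k⁻¹ * proj (upper c) * (k * n * k⁻¹)⁻¹ := by rw [← hkx]; group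
    rw [h2] at h1
    have hne : proj (upper c) ≠ 1 := hkx ▸ fun e => hx1 (conj_eq_one_iff.1 e)
    have := mem_normalizer_torus_iff hne (n := k * n * k⁻¹)
    rw [torus_eq_of_mem proj_upper_one_ne (proj_upper_mem c) hne] at this
    exact (mem_normalizer_torus_iff proj_upper_one_ne).1 (this.2 h1)
  have hg00 : g 0 0 ≠ g 1 1 := fun e => hnT ((hk n).2 (hg ▸ mem_U₀_iff.2 ⟨hg10, e⟩))
  have hd := det_entries g
  rw [hg10, mul_zero, sub_zero] at hd
  have hgs : IsSemi (proj g) := ⟨g, rfl, Or.inr ⟨g 0 0,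
    by simp only [tr]; linear_combination -hd, fun e => hg00 (by
      have h0 : g 0 0 ≠ 0 := left_ne_zero_of_mul_eq_one hd
      exact mul_left_cancel₀ h0 (by linear_combination e - hd))⟩⟩
  have hgH : proj g ∈ H' := by rw [hmem, hg]; simpa [mul_assoc] using hn
  have hcH : proj (upper c) ∈ H' := by rw [hmem, ← hkx]; simpa [mul_assoc] using hxH
  have hsq : ∀ t : Fˣ, proj (upper ((t : F) ^ 2 * c)) ∈ H' := by
    intro t
    have hsub : g 0 0 - g 1 1 ≠ 0 := sub_ne_zero.2 hg00
    set m : SLtwo F := ofEntries (t : F) (((t : F) - ((t⁻¹ : Fˣ) : F)) * g 0 1 / (g 0 0 - g 1 1))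
      0 ((t⁻¹ : Fˣ) : F) (by simp) with hm
    have hmg : proj m ∈ torus (proj g) := by
      rw [proj_mem_torus_iff, Subgroup.mem_centralizer_singleton_iff]
      apply ext_entries <;>
        simp only [hm, mul_00, mul_01, mul_10, mul_11, hg10] <;> simp [ofEntries, hg10] <;>
        field_simp <;> ring
    have hmH := hcl _ hgH hgs hmg
    have he : m * upper c * m⁻¹ = upper ((t : F) ^ 2 * c) := by
      apply ext_entries <;>
        simp only [hm, mul_00, mul_01, mul_10, mul_11, inv_00, inv_01, inv_10, inv_11, upper_00,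
          upper_01, upper_10, upper_11] <;> simp [ofEntries] <;> ring
    rw [← he, map_mul, map_mul, map_inv]
    exact H'.mul_mem (H'.mul_mem hmH hcH) (H'.inv_mem hmH)
  have hadd : ∀ a b : F, proj (upper a) ∈ H' → proj (upper b) ∈ H' → proj (upper (a - b)) ∈ H' := by
    intro a b ha hb
    rw [sub_eq_add_neg, ← upper_mul, ← upper_inv, map_mul, map_inv]
    exact H'.mul_mem ha (H'.inv_mem hb)
  have hsq' : ∀ t : F, proj (upper (t ^ 2 * c)) ∈ H' := by
    intro t
    rcases eq_or_ne t 0 with rfl | ht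
    · simp [upper_zero]
    · exact hsq (Units.mk0 t ht)
  have hall : ∀ a : F, proj (upper a) ∈ H' := by
    intro a
    by_cases h2 : (2 : F) = 0
    · haveI : CharP F 2 := CharTwo.of_one_ne_zero_of_two_eq_zero one_ne_zero h2
      obtain ⟨t, ht⟩ := FiniteField.isSquare_of_char_two (ringChar.eq F 2) (a / c)
      have := hsq' t
      rwa [sq, ← ht, div_mul_cancel₀ a hc] at this
    · have := hadd _ _ (hsq' ((a / c + 1) / 2)) (hsq' ((a / c - 1) / 2))
      convert this using 3
      field_simp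
      ring
  intro y hy
  obtain ⟨s, hs⟩ := proj_surjective (k * y * k⁻¹)
  obtain ⟨a, ha⟩ := exists_upper_of_mem (hs.symm ▸ (hk y).1 hy)
  have := hall a
  rw [← ha, hs, hmem] at this
  simpa [mul_assoc] using this

theorem card_torus_eq_two (hq : 4 ≤ Fintype.card F) {x : PSLtwo F} (hx : IsSemi x)
    (h : Nat.card (torus x) = 2) : Fintype.card F = 5 := by
  have hd : Nat.gcd 2 (Fintype.card F - 1) = 1 ∨ Nat.gcd 2 (Fintype.card F - 1) = 2 :=
    (Nat.dvd_prime Nat.prime_two).1 (Nat.gcd_dvd_left _ _)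
  have hdd := Nat.gcd_dvd_right 2 (Fintype.card F - 1)
  rcases card_torus_semi hx with e | e <;> rcases hd with e' | e' <;>
    rw [e'] at e hdd <;> omega

/-- In `PSL₂(5)` the centraliser of an involution is its torus normaliser, of order four, and
it is not self-normalising. -/
theorem normalizer_ne_self_of_card_four [IsSimpleGroup (PSLtwo F)] (h5 : Fintype.card F = 5)
    (V : Subgroup (PSLtwo F)) (hV : Nat.card V = 4) :
    normalizer (V : Set (PSLtwo F)) ≠ V := by
  intro hN
  haveI : Fact (Nat.Prime 2) := ⟨Nat.prime_two⟩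
  have h60 : Nat.card (PSLtwo F) = 60 := by rw [card_PSL, h5]; norm_num
  have hfac : Nat.card V = 2 ^ (Nat.card (PSLtwo F)).factorization 2 := by
    rw [hV, h60]
    have : (60 : ℕ).factorization 2 = 2 := by
      rw [show (60 : ℕ) = 2 ^ 2 * 15 by norm_num, Nat.factorization_mul (by norm_num) (by norm_num),
        Nat.Prime.factorization_pow Nat.prime_two]
      simp [Nat.factorization_eq_zero_of_not_dvd]
    rw [this]
    norm_num
  let S : Sylow 2 (PSLtwo F) := Sylow.ofCard V hfac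
  haveI : IsMulCommutative V := by
    haveI : Fact (Nat.card V = 2 ^ 2) := ⟨by rw [hV]; norm_num⟩
    exact ⟨⟨IsPGroup.commutative_of_card_eq_prime_sq (p := 2) (by rw [hV]; norm_num)⟩⟩
  have hle : normalizer ((S : Subgroup (PSLtwo F)) : Set (PSLtwo F)) ≤
      centralizer ((S : Subgroup (PSLtwo F)) : Set (PSLtwo F)) := by
    show normalizer (V : Set (PSLtwo F)) ≤ centralizer (V : Set (PSLtwo F))
    rw [hN]
    exact Subgroup.le_centralizer V
  have hc := MonoidHom.ker_transferSylow_isComplement' S hle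
  have hcard := hc.card_mul
  change Nat.card (MonoidHom.transferSylow S hle).ker * Nat.card V = _ at hcard
  rw [hV, h60] at hcard
  rcases (MonoidHom.transferSylow S hle).normal_ker.eq_bot_or_eq_top with e | e
  · rw [e, card_bot] at hcard; omega
  · rw [e, card_top, h60] at hcard; omega

end Cfsg.Agent.Lib.MinNonCA34.PerfectAux
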