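import Cfsg.Agent.Lib.MinNonCA34.Spec
import Cfsg.Agent.Lib.MinNonCA34.PerfectPSL
import Cfsg.Agent.Lib.Coprime.ThompsonFull

/-!
# Minimal non-CA groups are perfect

Otherwise the last derived term `K` is a proper perfect CA-group with `K / Z(K) ≅ PSL₂(q)`, `G`
acts faithfully on `K / Z(K)` modulo its centre, and the fixed subgroup of a bad element is a
proper nontrivial self-normalising subgroup of `PSL₂(q)` containing the torus of each of its
semisimple elements.  The class equation of the partition leaves `q = 5` only, where the bad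
element would fix every coset of that subgroup.
-/

set_option autoImplicit false

namespace Cfsg.Agent.Lib.MinNonCA34

open Subgroup Cfsg.Agent.Lib.SL2

universe u

namespace PerfectAux

/-- An automorphism descends to the central quotient. -/
noncomputable def centQAut {X : Type*} [Group X] : MulAut X →* MulAut (X ⧸ center X) where
  toFun e := QuotientGroup.congr (center X) (center X) e
    (Subgroup.characteristic_iff_map_eq.1 inferInstance e)
  map_one' := by
    refine MulEquiv.ext fun x => ?_
    induction x using QuotientGroup.induction_on with | H z => rfl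
  map_mul' a b := by
    refine MulEquiv.ext fun x => ?_
    induction x using QuotientGroup.induction_on with | H z => rfl

theorem centQAut_mk {X : Type*} [Group X] (e : MulAut X) (x : X) :
    centQAut e (x : X ⧸ center X) = ((e x : X) : X ⧸ center X) := rfl

/-- A non-commutative simple group is not nilpotent. -/
theorem not_nilpotent_of_simple {P : Type*} [Group P] [IsSimpleGroup P]
    (hP : ∃ a b : P, a * b ≠ b * a) : ¬ Group.IsNilpotent P := by
  intro h
  haveI := h
  obtain ⟨a, b, hab⟩ := hP
  exact hab (IsSimpleGroup.comm_iff_isSolvable.2 inferInstance a b)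

/-- The data: `K` perfect, normal, proper, with central quotient `PSL₂(F)`. -/
structure Setup {G : Type u} [Group G] (K : Subgroup G) (F : Type) [Field F] [Fintype F] where
  hyp : Hyp G
  normal : K.Normal
  perf : commutator K = ⊤
  ne_top : K ≠ ⊤
  four_le : 4 ≤ Fintype.card F
  e : (K ⧸ center K) ≃* PSLtwo F

variable {G : Type u} [Group G] [Finite G] {K : Subgroup G} {F : Type} [Field F] [Fintype F]

/-- The projection `K → PSL₂(F)`. -/
noncomputable def Setup.pr (S : Setup K F) : K →* PSLtwo F :=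
  S.e.toMonoidHom.comp (QuotientGroup.mk' (center K))

theorem Setup.pr_surj (S : Setup K F) : Function.Surjective S.pr :=
  S.e.surjective.comp (QuotientGroup.mk'_surjective _)

theorem Setup.pr_eq_one (S : Setup K F) {k : K} : S.pr k = 1 ↔ k ∈ center K := by
  simp [Setup.pr]

theorem Setup.simple (S : Setup K F) : IsSimpleGroup (PSLtwo F) :=
  Cfsg.Agent.Lib.LinGroup.isSimpleGroup_PSL_fin le_rfl fun _ => by
    rw [Nat.card_eq_fintype_card]; exact S.four_le

theorem Setup.perfP (S : Setup K F) : commutator (PSLtwo F) = ⊤ := by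
  have h : (commutator K).map S.pr = ⊤ := by
    rw [S.perf]; exact map_top_of_surjective _ S.pr_surj
  rw [commutator_def, map_commutator, map_top_of_surjective _ S.pr_surj] at h
  rw [commutator_def]; exact h

theorem Setup.noncomm (S : Setup K F) : ∃ a b : PSLtwo F, a * b ≠ b * a := by
  by_contra h
  push Not at h
  haveI := S.simple
  have h1 : commutator (PSLtwo F) = ⊥ := by
    rw [commutator_def, Subgroup.commutator_eq_bot_iff_le_centralizer]
    exact fun a _ => mem_centralizer_iff.2 fun b _ => h b a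
  rw [S.perfP] at h1
  exact top_ne_bot h1

/-- `g` with `[g, K]` central centralises `K`. -/
theorem Setup.comm_of_central (S : Setup K F) {g : G}
    (hg : ∀ k ∈ K, g * k * g⁻¹ * k⁻¹ ∈ center G) : ∀ k ∈ K, g * k = k * g := by
  set f : K →* center G := MonoidHom.mk' (fun k => ⟨g * k * g⁻¹ * (k : G)⁻¹, hg k k.2⟩) (by
    intro a b
    refine Subtype.ext ?_
    have hc := mem_center_iff.1 (hg b b.2) (a : G)⁻¹
    show g * ((a : G) * b) * g⁻¹ * ((a : G) * b)⁻¹ =
      g * a * g⁻¹ * (a : G)⁻¹ * (g * b * g⁻¹ * (b : G)⁻¹)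
    calc g * ((a : G) * b) * g⁻¹ * ((a : G) * b)⁻¹
        = g * a * g⁻¹ * ((g * b * g⁻¹ * (b : G)⁻¹) * (a : G)⁻¹) := by group
      _ = g * a * g⁻¹ * ((a : G)⁻¹ * (g * b * g⁻¹ * (b : G)⁻¹)) := by rw [hc]
      _ = _ := by group) with hf
  have hker : commutator K ≤ f.ker := by
    rw [commutator_def, Subgroup.commutator_le]
    intro a _ b _
    rw [MonoidHom.mem_ker, map_commutatorElement, commutatorElement_eq_one_iff_mul_comm]
    exact Subtype.ext (mem_center_iff.1 (f b).2 _)
  intro k hk
  have h1 : f ⟨k, hk⟩ = 1 := hker (S.perf ▸ mem_top _)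
  have h2 : g * k * g⁻¹ * k⁻¹ = 1 := congrArg Subtype.val h1
  exact mul_inv_eq_iff_eq_mul.1 (mul_inv_eq_one.1 h2)

/-- What centralises `K` is central. -/
theorem Setup.mem_center_of_comm (S : Setup K F) {c : G} (hc : ∀ k ∈ K, c * k = k * c) :
    c ∈ center G := by
  haveI := S.normal
  haveI := S.simple
  have hne : Nat.card (K ⧸ center K) ≠ 1 := by
    rw [Nat.card_congr S.e.toEquiv]
    exact (Finite.one_lt_card_iff_nontrivial.2 inferInstance).ne'
  obtain ⟨s, hs, hsd⟩ := Nat.exists_prime_and_dvd hne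
  haveI : Fact s.Prime := ⟨hs⟩
  obtain ⟨P⟩ : Nonempty (Sylow s K) := inferInstance
  have hPZ : ¬ (P : Subgroup K) ≤ center K := fun hle =>
    P.not_dvd_index (hsd.trans (Subgroup.index_dvd_of_le hle))
  set PG : Subgroup G := (P : Subgroup K).map K.subtype with hPG
  set H := normalizer (PG : Set G) with hH
  have hHtop : H ≠ ⊤ := by
    intro htop
    haveI : PG.Normal := normalizer_eq_top_iff.1 htop
    have hPn : (P : Subgroup K).Normal := by
      have h := (inferInstance : PG.Normal).comap K.subtype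
      rwa [hPG, comap_map_eq_self_of_injective K.subtype_injective] at h
    rcases (hPn.map S.pr S.pr_surj).eq_bot_or_eq_top with e | e
    · exact hPZ fun k hk => S.pr_eq_one.1 (mem_bot.1 (e ▸ mem_map_of_mem S.pr hk))
    · have hp : IsPGroup s (PSLtwo F) := by
        have h1 : IsPGroup s ((P : Subgroup K).map S.pr) := P.isPGroup'.map S.pr
        rw [e] at h1
        exact h1.of_equiv Subgroup.topEquiv
      exact not_nilpotent_of_simple S.noncomm hp.isNilpotent
  have hnab : ∃ a ∈ normalizer ((P : Subgroup K) : Set K), ∃ b ∈ normalizer ((P : Subgroup K) : Set K),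
      a * b ≠ b * a := by
    by_contra hh
    push Not at hh
    have hle : normalizer ((P : Subgroup K) : Set K) ≤ centralizer ((P : Subgroup K) : Set K) :=
      fun a ha => mem_centralizer_iff.2 fun b hb => (hh a ha b (le_normalizer hb)).symm
    have hcompl := MonoidHom.ker_transferSylow_isComplement' P hle
    have htop : (MonoidHom.transferSylow P hle).ker = ⊤ := by
      rw [eq_top_iff, ← S.perf, commutator_def, Subgroup.commutator_le]
      intro a _ b _
      rw [MonoidHom.mem_ker, map_commutatorElement, commutatorElement_eq_one_iff_mul_comm]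
      exact Subtype.ext (mem_centralizer_iff.1
        (hle (le_normalizer (MonoidHom.transferSylow P hle a).2)) _
        (MonoidHom.transferSylow P hle b).2).symm
    rw [htop] at hcompl
    exact hPZ ((Subgroup.isComplement'_top_left.1 hcompl).le.trans bot_le)
  obtain ⟨a, ha, b, hb, hab⟩ := hnab
  have hmem : ∀ y : K, y ∈ normalizer ((P : Subgroup K) : Set K) → (y : G) ∈ H := fun y hy =>
    le_normalizer_map K.subtype (mem_map_of_mem K.subtype hy)
  have hPK : ∀ y ∈ PG, y ∈ K := fun y hy => by
    obtain ⟨z, -, rfl⟩ := hy; exact z.2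
  have hcH : c ∈ H := by
    rw [hH, mem_normalizer_iff]
    intro y
    constructor
    · intro hy
      rwa [hc y (hPK y hy), mul_inv_cancel_right]
    · intro hy
      have hy' : c * y * c⁻¹ = y := by
        have h := hc _ (hPK _ hy)
        exact mul_left_cancel (h.trans (inv_mul_cancel_right _ _))
      rwa [hy'] at hy
  have key := S.hyp.central_of_commutes hHtop hcH (hmem a ha) (hmem b hb)
    (hc a a.2).symm (hc b b.2).symm (fun e => hab (Subtype.ext e))
  have hle : H ⊔ K ≤ centralizer ({c} : Set G) :=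
    sup_le (fun y hy => Subgroup.mem_centralizer_singleton_iff.2 (key y hy))
      fun y hy => Subgroup.mem_centralizer_singleton_iff.2 (hc y hy).symm
  rw [Sylow.normalizer_sup_eq_top P] at hle
  exact mem_center_iff.2 fun y => Subgroup.mem_centralizer_singleton_iff.1 (hle (mem_top y))

theorem Setup.center_mem_iff (S : Setup K F) {k : K} : k ∈ center K ↔ (k : G) ∈ center G := by
  constructor
  · intro hk
    exact S.mem_center_of_comm fun y hy =>
      (congrArg Subtype.val (mem_center_iff.1 hk ⟨y, hy⟩)).symm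
  · intro hk
    exact mem_center_iff.2 fun y => Subtype.ext (mem_center_iff.1 hk y)

theorem Setup.pr_eq_one' (S : Setup K F) {k : K} : S.pr k = 1 ↔ (k : G) ∈ center G :=
  S.pr_eq_one.trans S.center_mem_iff

/-- The action of `G` on `PSL₂(F)`. -/
noncomputable def Setup.act (S : Setup K F) : G →* MulAut (PSLtwo F) :=
  haveI := S.normal
  (MulAut.congr S.e).toMonoidHom.comp (centQAut.comp MulAut.conjNormal)

theorem Setup.act_pr (S : Setup K F) (g : G) (k : K) (h : g * k * g⁻¹ ∈ K) :
    S.act g (S.pr k) = S.pr ⟨g * k * g⁻¹, h⟩ := by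
  haveI := S.normal
  simp only [Setup.act, Setup.pr, MonoidHom.comp_apply, MulEquiv.coe_toMonoidHom,
    QuotientGroup.mk'_apply, MulAut.congr_apply, MulEquiv.trans_apply, MulEquiv.symm_apply_apply,
    centQAut_mk]
  congr 2

theorem Setup.conj_mem (S : Setup K F) (g : G) {k : G} (hk : k ∈ K) : g * k * g⁻¹ ∈ K :=
  S.normal.conj_mem k hk g

theorem Setup.act_eq_one (S : Setup K F) {g : G} (h : S.act g = 1) : g ∈ center G := by
  refine S.mem_center_of_comm (S.comm_of_central fun k hk => ?_)
  have h1 := S.act_pr g ⟨k, hk⟩ (S.conj_mem g hk)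
  rw [h, MulAut.one_apply] at h1
  have h2 : S.pr (⟨g * k * g⁻¹, S.conj_mem g hk⟩ * (⟨k, hk⟩ : K)⁻¹) = 1 := by
    rw [map_mul, map_inv, ← h1, mul_inv_cancel]
  exact S.pr_eq_one'.1 h2

theorem Setup.act_of_center (S : Setup K F) {g : G} (h : g ∈ center G) : S.act g = 1 := by
  refine MulEquiv.ext fun y => ?_
  obtain ⟨k, rfl⟩ := S.pr_surj y
  rw [S.act_pr g k (S.conj_mem g k.2), MulAut.one_apply]
  congr 1
  exact Subtype.ext (show g * k * g⁻¹ = k by rw [← mem_center_iff.1 h k, mul_inv_cancel_right])

theorem Setup.act_coe (S : Setup K F) (k : K) : S.act (k : G) = MulAut.conj (S.pr k) := by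
  refine MulEquiv.ext fun y => ?_
  obtain ⟨m, rfl⟩ := S.pr_surj y
  rw [S.act_pr _ m (S.conj_mem _ m.2), MulAut.conj_apply, ← map_inv, ← map_mul, ← map_mul]
  congr 1

/-- The fixed subgroup of an automorphism. -/
def fixSub (β : MulAut (PSLtwo F)) : Subgroup (PSLtwo F) where
  carrier := {y | β y = y}
  mul_mem' := fun {a b} ha hb => by
    simp only [Set.mem_setOf_eq] at ha hb ⊢
    rw [map_mul, ha, hb]
  one_mem' := map_one β
  inv_mem' := fun {a} ha => by
    simp only [Set.mem_setOf_eq] at ha ⊢
    rw [map_inv, ha]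

theorem mem_fixSub {β : MulAut (PSLtwo F)} {y : PSLtwo F} : y ∈ fixSub β ↔ β y = y := Iff.rfl

/-- The centraliser of a bad element is not normal. -/
theorem Setup.not_normal (S : Setup K F) {x : G} (hx : Bad x) :
    ¬ (centralizer ({x} : Set G)).Normal := by
  intro hN
  haveI := S.normal
  haveI := S.simple
  set C := centralizer ({x} : Set G) with hC
  have hn : ((C ⊓ K).comap K.subtype).Normal :=
    (Subgroup.normal_inf_normal C K).comap K.subtype
  rcases (hn.map S.pr S.pr_surj).eq_bot_or_eq_top with e | e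
  · -- then `C` centralises `K`
    have hCZ : C ≤ center G := fun c hc => S.mem_center_of_comm (S.comm_of_central fun k hk => by
      have hmem : c * k * c⁻¹ * k⁻¹ ∈ C ⊓ K := by
        refine ⟨?_, K.mul_mem (S.conj_mem c hk) (K.inv_mem hk)⟩
        rw [show c * k * c⁻¹ * k⁻¹ = c * (k * c⁻¹ * k⁻¹) by group]
        exact C.mul_mem hc (hN.conj_mem _ (C.inv_mem hc) k)
      exact S.pr_eq_one'.1 (mem_bot.1 (e ▸ mem_map_of_mem S.pr
        (show (⟨_, hmem.2⟩ : K) ∈ (C ⊓ K).comap K.subtype from hmem))))
    obtain ⟨a, b, ha, -, hab⟩ := hx.2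
    exact hab (mem_center_iff.1 (hCZ (Subgroup.mem_centralizer_singleton_iff.2 ha)) b).symm
  · refine hx.1 (S.mem_center_of_comm (S.comm_of_central fun k hk => ?_))
    obtain ⟨d, hd, hdk⟩ : S.pr ⟨k, hk⟩ ∈ ((C ⊓ K).comap K.subtype).map S.pr := e ▸ mem_top _
    have hz : (d⁻¹ * ⟨k, hk⟩ : K) ∈ center K := by
      rw [← S.pr_eq_one, map_mul, map_inv, hdk, inv_mul_cancel]
    have hzG : (d : G)⁻¹ * k ∈ center G := S.center_mem_iff.1 hz
    have hdC : (d : G) * x = x * d := Subgroup.mem_centralizer_singleton_iff.1 hd.1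
    have hkx : k * x = x * k := by
      rw [show k = (d : G) * ((d : G)⁻¹ * k) by group]
      rw [mul_assoc, ← mem_center_iff.1 hzG x, ← mul_assoc, hdC, mul_assoc]
    rw [← hkx, mul_inv_cancel_right, mul_inv_cancel]
    exact one_mem _

theorem Setup.normalizer_centralizer (S : Setup K F) {x : G} (hx : Bad x) :
    normalizer ((centralizer ({x} : Set G) : Subgroup G) : Set G) = centralizer ({x} : Set G) :=
  ((S.hyp.isCoatom_centralizer hx).le_iff.1 le_normalizer).resolve_left
    fun e => S.not_normal hx (normalizer_eq_top_iff.1 e)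

/-- The fixed subgroup of a bad element is the image of its centraliser in `K`. -/
theorem Setup.mem_fix_iff (S : Setup K F) {x : G} (hx : Bad x) {k : K} :
    S.pr k ∈ fixSub (S.act x) ↔ (k : G) * x = x * k := by
  rw [mem_fixSub, S.act_pr x k (S.conj_mem x k.2)]
  constructor
  · intro h
    have h2 : S.pr (k⁻¹ * ⟨x * k * x⁻¹, S.conj_mem x k.2⟩) = 1 := by
      rw [map_mul, map_inv, h, inv_mul_cancel]
    have hz : (k : G)⁻¹ * (x * k * x⁻¹) ∈ center G := S.pr_eq_one'.1 h2
    have hCeq : ∀ g : G, g * ((k : G)⁻¹ * x * k) = (k : G)⁻¹ * x * k * g ↔ g * x = x * g := by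
      intro g
      have e1 : (k : G)⁻¹ * x * k = ((k : G)⁻¹ * (x * k * x⁻¹)) * x := by group
      rw [e1, ← mul_assoc, mem_center_iff.1 hz g, mul_assoc, mul_assoc _ x g, mul_left_cancel_iff]
    have hk : (k : G) ∈ normalizer ((centralizer ({x} : Set G) : Subgroup G) : Set G) := by
      rw [mem_normalizer_iff]
      intro g
      rw [Subgroup.mem_centralizer_singleton_iff, Subgroup.mem_centralizer_singleton_iff, ← hCeq g]
      constructor <;> intro e
      · calc (k : G) * g * (k : G)⁻¹ * x = (k : G) * (g * ((k : G)⁻¹ * x * k)) * (k : G)⁻¹ := by group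
          _ = (k : G) * ((k : G)⁻¹ * x * k * g) * (k : G)⁻¹ := by rw [e]
          _ = x * ((k : G) * g * (k : G)⁻¹) := by group
      · calc g * ((k : G)⁻¹ * x * k) = (k : G)⁻¹ * ((k : G) * g * (k : G)⁻¹ * x) * k := by group
          _ = (k : G)⁻¹ * (x * ((k : G) * g * (k : G)⁻¹)) * k := by rw [e]
          _ = (k : G)⁻¹ * x * k * g := by group
    rw [S.normalizer_centralizer hx] at hk
    exact Subgroup.mem_centralizer_singleton_iff.1 hk
  · intro h
    congr 1
    exact Subtype.ext (show x * k * x⁻¹ = k by rw [← h, mul_inv_cancel_right])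

/-- A nontrivial fixed subgroup of a bad element is self-normalising. -/
theorem Setup.fix_normalizer (S : Setup K F) {x : G} (hx : Bad x)
    (hne : fixSub (S.act x) ≠ ⊥) (hnt : fixSub (S.act x) ≠ ⊤) :
    normalizer (fixSub (S.act x) : Set (PSLtwo F)) = fixSub (S.act x) := by
  haveI := S.normal
  haveI := S.simple
  refine le_antisymm (fun n hn => ?_) le_normalizer
  obtain ⟨k, rfl⟩ := S.pr_surj n
  set C := centralizer ({x} : Set G) with hC
  have hmem : ∀ (g : G) (hg : g ∈ K), g ∈ C ↔ S.pr ⟨g, hg⟩ ∈ fixSub (S.act x) := fun g hg => by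
    rw [S.mem_fix_iff hx, hC]
    exact Subgroup.mem_centralizer_singleton_iff
  have hkN : (k : G) ∈ normalizer ((C ⊓ K : Subgroup G) : Set G) := by
    rw [mem_normalizer_iff]
    intro g
    constructor
    · rintro ⟨hgC, hgK⟩
      have hgK' : (k : G) * g * (k : G)⁻¹ ∈ K := S.conj_mem _ hgK
      refine ⟨(hmem _ hgK').2 ?_, hgK'⟩
      have h1 := (mem_normalizer_iff.1 hn _).1 ((hmem g hgK).1 hgC)
      rw [← map_inv, ← map_mul, ← map_mul] at h1
      exact h1
    · rintro ⟨hgC, hgK⟩
      have hgK' : g ∈ K := by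
        have := S.conj_mem (k : G)⁻¹ hgK
        simpa [mul_assoc] using this
      refine ⟨(hmem _ hgK').2 ((mem_normalizer_iff.1 hn _).2 ?_), hgK'⟩
      have h1 := (hmem _ hgK).1 hgC
      rw [← map_inv, ← map_mul, ← map_mul]
      exact h1
  have hle : C ≤ normalizer ((C ⊓ K : Subgroup G) : Set G) := by
    intro c hc
    rw [mem_normalizer_iff]
    intro g
    constructor
    · rintro ⟨h1, h2⟩
      exact ⟨C.mul_mem (C.mul_mem hc h1) (C.inv_mem hc), S.conj_mem c h2⟩
    · rintro ⟨h1, h2⟩
      refine ⟨?_, ?_⟩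
      · have := C.mul_mem (C.mul_mem (C.inv_mem hc) h1) hc
        simpa [mul_assoc] using this
      · have := S.conj_mem c⁻¹ h2
        simpa [mul_assoc] using this
  rcases (S.hyp.isCoatom_centralizer hx).le_iff.1 hle with e | e
  · exfalso
    haveI : (C ⊓ K).Normal := normalizer_eq_top_iff.1 e
    rcases (((inferInstance : (C ⊓ K).Normal).comap K.subtype).map S.pr
        S.pr_surj).eq_bot_or_eq_top with e' | e'
    · refine hne ((Subgroup.eq_bot_iff_forall _).2 fun y hy => ?_)
      obtain ⟨m, rfl⟩ := S.pr_surj y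
      exact mem_bot.1 (e' ▸ mem_map_of_mem S.pr
        (show m ∈ (C ⊓ K).comap K.subtype from ⟨(hmem m m.2).2 hy, m.2⟩))
    · refine hnt (eq_top_iff.2 fun y _ => ?_)
      obtain ⟨m, hm, rfl⟩ : y ∈ ((C ⊓ K).comap K.subtype).map S.pr := e' ▸ mem_top _
      exact (hmem m m.2).1 hm.1
  · rw [e] at hkN
    exact (hmem k k.2).1 hkN

/-- No abelian centraliser in `PSL₂(q)` is self-normalising. -/
theorem abelian_centralizer_not_selfNormalising [IsSimpleGroup (PSLtwo F)]
    (hq : 4 ≤ Fintype.card F) {y : PSLtwo F} (hy : y ≠ 1)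
    (hab : ∀ a b : PSLtwo F, a * y = y * a → b * y = y * b → a * b = b * a) :
    normalizer ((centralizer ({y} : Set (PSLtwo F)) : Subgroup (PSLtwo F)) : Set (PSLtwo F)) ≠
      centralizer ({y} : Set (PSLtwo F)) := by
  intro hN
  rcases semi_or_unip y with hs | hu
  · have hT : ∀ m ∈ torus y, m * y = y * m := fun m hm => torus_comm hy hm (mem_torus_self y)
    obtain ⟨n, hn, hn'⟩ := exists_inverter hs
    by_cases hC : ∀ m, m * y = y * m → m ∈ torus y
    · have e : centralizer ({y} : Set (PSLtwo F)) = torus y :=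
        le_antisymm (fun m hm => hC m (Subgroup.mem_centralizer_singleton_iff.1 hm))
          fun m hm => Subgroup.mem_centralizer_singleton_iff.2 (hT m hm)
      rw [e] at hN
      rw [hN] at hn
      exact hn' hn
    · push Not at hC
      obtain ⟨m, hm, hmT⟩ := hC
      obtain ⟨-, -, -, hinv⟩ := (comm_semi_cases hs hm).resolve_left hmT
      have hsq : ∀ t ∈ torus y, t * t = 1 := fun t ht => by
        have e := hinv t ht
        rw [hab m t hm (hT t ht), mul_inv_cancel_right] at e
        exact mul_eq_one_iff_eq_inv.2 e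
      haveI := isCyclic_torus_semi hs
      obtain ⟨g, hg⟩ := IsCyclic.exists_ofOrder_eq_natCard (α := torus y)
      have h2 : Nat.card (torus y) = 2 := by
        have hle : orderOf g ∣ 2 :=
          orderOf_dvd_of_pow_eq_one (Subtype.ext (by simpa [sq] using hsq g g.2))
        rw [hg] at hle
        have := two_le_card_torus hs
        rcases (Nat.dvd_prime Nat.prime_two).1 hle with e | e <;> omega
      have h5 := card_torus_eq_two hq hs h2
      have e : centralizer ({y} : Set (PSLtwo F)) =
          normalizer ((torus y : Subgroup (PSLtwo F)) : Set (PSLtwo F)) := by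
        refine le_antisymm (fun m hm => ?_) fun n hn => ?_
        · rw [mem_normalizer_torus_iff hy, Subgroup.mem_centralizer_singleton_iff.1 hm, mul_inv_cancel_right]
          exact mem_torus_self y
        · rw [Subgroup.mem_centralizer_singleton_iff]
          have h1 : n * y * n⁻¹ ∈ torus y := (mem_normalizer_torus_iff hy).1 hn
          obtain ⟨z, -, hz⟩ := (Nat.card_eq_two_iff' (1 : torus y)).1 h2
          have e1 := hz ⟨n * y * n⁻¹, h1⟩ fun e =>
            hy (conj_eq_one_iff.1 (congrArg Subtype.val e))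
          have e2 := hz ⟨y, mem_torus_self y⟩ fun e => hy (congrArg Subtype.val e)
          exact mul_inv_eq_iff_eq_mul.1 (congrArg Subtype.val (e1.trans e2.symm))
      exact normalizer_ne_self_of_card_four h5 _ (by rw [e, normalizer_torus_card hs, h2]) hN
  · have e : centralizer ({y} : Set (PSLtwo F)) = torus y :=
      le_antisymm (fun m hm => mem_torus_of_comm_unip hu (Subgroup.mem_centralizer_singleton_iff.1 hm))
        fun m hm => Subgroup.mem_centralizer_singleton_iff.2 (torus_comm hy hm (mem_torus_self y))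
    obtain ⟨n, hn, hn'⟩ := exists_normalizer_unip hq hu hy
    rw [e] at hN
    exact hn' (hN ▸ (mem_normalizer_torus_iff hy).2 hn)

/-- Elements of `K` are good. -/
theorem Setup.not_bad_of_mem (S : Setup K F) (k : K) : ¬ Bad (k : G) := by
  intro hb
  haveI := S.simple
  have hy : S.pr k ≠ 1 := fun e => hb.1 (S.pr_eq_one'.1 e)
  have e : fixSub (S.act (k : G)) = centralizer ({S.pr k} : Set (PSLtwo F)) := by
    ext y
    rw [mem_fixSub, S.act_coe, MulAut.conj_apply, Subgroup.mem_centralizer_singleton_iff,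
      mul_inv_eq_iff_eq_mul, eq_comm]
  refine abelian_centralizer_not_selfNormalising S.four_le hy (fun a b ha hb' => ?_) ?_
  · obtain ⟨a, rfl⟩ := S.pr_surj a
    obtain ⟨b, rfl⟩ := S.pr_surj b
    have hka : (a : G) * k = k * a := (S.mem_fix_iff hb).1 (e ▸ Subgroup.mem_centralizer_singleton_iff.2 ha)
    have hkb : (b : G) * k = k * b := (S.mem_fix_iff hb).1 (e ▸ Subgroup.mem_centralizer_singleton_iff.2 hb')
    rw [← map_mul, ← map_mul, S.hyp.sub_ca K S.ne_top k
      (fun hc => hb.1 (S.center_mem_iff.1 hc)) a b (Subtype.ext hka) (Subtype.ext hkb)]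
  · rw [← e]
    refine S.fix_normalizer hb (fun h => hy ?_) fun h => ?_
    · have : S.pr k ∈ fixSub (S.act (k : G)) := (S.mem_fix_iff hb).2 rfl
      rwa [h, mem_bot] at this
    · refine hb.1 (S.act_eq_one (MulEquiv.ext fun y => ?_))
      exact mem_fixSub.1 (h ▸ mem_top y)

theorem torus_elems_of_card_two {y t : PSLtwo F} (hy : y ≠ 1) (h2 : Nat.card (torus y) = 2)
    (ht : t ∈ torus y) : t = 1 ∨ t = y := by
  rcases eq_or_ne t 1 with e | e
  · exact Or.inl e
  · obtain ⟨z, -, hz⟩ := (Nat.card_eq_two_iff' (1 : torus y)).1 h2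
    exact Or.inr (congrArg Subtype.val ((hz ⟨t, ht⟩ fun h => e (congrArg Subtype.val h)).trans
      (hz ⟨y, mem_torus_self y⟩ fun h => hy (congrArg Subtype.val h)).symm))

/-- In a unipotent torus containing an involution all squares are trivial. -/
theorem sq_eq_one_of_unip {y t : PSLtwo F} (hu : IsUnip y) (hy : y ≠ 1) (hy2 : y * y = 1)
    (ht : t ∈ torus y) : t * t = 1 := by
  obtain ⟨k, c, hc, hkc, hk⟩ := conj_upper_data hu hy
  have h2 : (2 : F) = 0 := by
    have e : proj (upper (c + c)) = 1 := by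
      rw [← upper_mul, map_mul, ← hkc, show k * y * k⁻¹ * (k * y * k⁻¹) = k * (y * y) * k⁻¹ by group,
        hy2, mul_one, mul_inv_cancel]
    have e' := ((mem_center_iff_entries _).1 (proj_eq_one_iff.1 e)).1
    simp at e'
    exact (mul_eq_zero.1 (show (2 : F) * c = 0 by linear_combination e')).resolve_right hc
  obtain ⟨s, hs⟩ := proj_surjective (k * t * k⁻¹)
  obtain ⟨a, ha⟩ := exists_upper_of_mem (hs.symm ▸ (hk t).1 ht)
  have e : k * t * k⁻¹ * (k * t * k⁻¹) = 1 := by
    rw [← hs, ha, ← map_mul, upper_mul, show a + a = 0 by linear_combination a * h2, upper_zero,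
      map_one]
  rw [show k * t * k⁻¹ * (k * t * k⁻¹) = k * (t * t) * k⁻¹ by group] at e
  exact conj_eq_one_iff.1 e

/-- A bad element whose `r`-th power is central is impossible. -/
theorem Setup.no_bad (S : Setup K F) {x : G} (hx : Bad x) {r : ℕ} (hr : r.Prime)
    (hxr : x ^ r ∈ center G) : False := by
  classical
  haveI := S.simple
  haveI := S.normal
  set β := S.act x with hβdef
  set H := fixSub β with hHdef
  have hxK : ∀ k : K, (k : G)⁻¹ * x ∉ center G := by
    intro k hz
    obtain ⟨a, b, ha, hb, hab⟩ := hx.2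
    have key : ∀ g : G, g * x = x * g → g * (k : G) = k * g := by
      intro g hg
      rw [show x = (k : G) * ((k : G)⁻¹ * x) by group, ← mul_assoc, mul_assoc (k : G) _ g,
        ← mem_center_iff.1 hz g, ← mul_assoc (k : G) g] at hg
      exact mul_right_cancel hg
    refine S.not_bad_of_mem k ⟨fun hk => hx.1 ?_, a, b, key a ha, key b hb, hab⟩
    rw [show x = (k : G) * ((k : G)⁻¹ * x) by group]
    exact mul_mem hk hz
  have hpow : β ^ r = 1 := by rw [hβdef, ← map_pow]; exact S.act_of_center hxr
  have hne : H ≠ ⊥ := fun h => not_nilpotent_of_simple S.noncomm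
    (Cfsg.Agent.Lib.Coprime.isNilpotent_of_fixedPointFree' β
      (fun g hg => by
        have : g ∈ H := hg
        rwa [h, mem_bot] at this) hr hpow)
  have hnt : H ≠ ⊤ := fun h =>
    hx.1 (S.act_eq_one (MulEquiv.ext fun y => mem_fixSub.1 (h ▸ mem_top y : y ∈ H)))
  have hself : normalizer (H : Set (PSLtwo F)) = H := S.fix_normalizer hx hne hnt
  -- elements commuting exactly with a fixed element are fixed
  have hcl : ∀ a b : K, S.pr b ∈ H → S.pr b ≠ 1 → (a : G) * b = b * a → S.pr a ∈ H := by
    intro a b hbH hb1 hab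
    by_contra ha
    refine S.not_bad_of_mem b ⟨fun hc => hb1 (S.pr_eq_one'.2 hc), a, x, hab,
      ((S.mem_fix_iff hx).1 hbH).symm, fun e => ha ((S.mem_fix_iff hx).2 e)⟩
  have htor : ∀ y ∈ H, IsSemi y → torus y ≤ H := by
    intro y hy hs z hz
    haveI := isCyclic_torus_semi hs
    obtain ⟨⟨g, hg⟩, hgen⟩ := IsCyclic.exists_generator (α := torus y)
    obtain ⟨g', rfl⟩ := S.pr_surj g
    obtain ⟨b, rfl⟩ := S.pr_surj y
    obtain ⟨a, rfl⟩ := S.pr_surj z
    refine hcl a b hy hs.ne_one (congrArg Subtype.val (?_ : a * b = b * a))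
    have key : ∀ c : K, S.pr c ∈ torus (S.pr b) → ∃ (i : ℤ) (w : K), w ∈ center K ∧ c = g' ^ i * w := by
      intro c hc
      obtain ⟨i, hi⟩ := mem_zpowers_iff.1 (hgen ⟨S.pr c, hc⟩)
      refine ⟨i, (g' ^ i)⁻¹ * c, ?_, by group⟩
      rw [← S.pr_eq_one, map_mul, map_inv, map_zpow]
      have hi' : S.pr g' ^ i = S.pr c := congrArg Subtype.val hi
      rw [hi', inv_mul_cancel]
    obtain ⟨i, w, hw, rfl⟩ := key a hz
    obtain ⟨j, v, hv, rfl⟩ := key b (mem_torus_self _)
    rw [mul_assoc (g' ^ i), ← mul_assoc w, ← mem_center_iff.1 hw (g' ^ j), mul_assoc (g' ^ j) w v,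
      mem_center_iff.1 hv w, ← mul_assoc, ← mul_assoc, ← zpow_add, mul_assoc (g' ^ j),
      ← mul_assoc v, ← mem_center_iff.1 hv (g' ^ i), ← mul_assoc, ← mul_assoc, ← zpow_add, add_comm,
      mul_assoc]
  have hnoU : ∀ y, IsUnip y → y ≠ 1 → ¬ torus y ≤ H := by
    intro y hu hy1 hle
    obtain ⟨v, hv⟩ := inner_of_fix_unip β hu hy1 fun z hz => mem_fixSub.1 (hle hz)
    obtain ⟨k, rfl⟩ := S.pr_surj v
    refine hxK k (S.act_eq_one ?_)
    rw [map_mul, map_inv, S.act_coe, ← hv, hβdef, inv_mul_cancel]
  -- the involution shift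
  have shift : ∀ b c : K, S.pr b ∈ H → S.pr b ≠ 1 → S.pr b * S.pr b = 1 → S.pr c * S.pr c = 1 →
      (β (S.pr c) = S.pr c ∨ β (S.pr c) = S.pr b * S.pr c) → S.pr c ∈ H := by
    intro b c hbH hb1 hb2 hc2 hd
    rcases hd with hd | hd
    · exact hd
    by_contra hcH
    have hβ2 : (β * β) (S.pr c) = S.pr c := by
      rw [MulAut.mul_apply, hd, map_mul, mem_fixSub.1 hbH, hd, ← mul_assoc, hb2, one_mul]
    rcases hr.eq_two_or_odd' with h2 | ⟨j, hj⟩
    · subst h2
      have hbx : (b : G) * x = x * b := (S.mem_fix_iff hx).1 hbH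
      have hd' : S.pr ⟨x * c * x⁻¹, S.conj_mem x c.2⟩ = S.pr (b * c) := by
        rw [← S.act_pr x c (S.conj_mem x c.2), ← hβdef, hd, map_mul]
      set z : K := (b * c)⁻¹ * ⟨x * c * x⁻¹, S.conj_mem x c.2⟩ with hzdef
      have hz : (z : G) ∈ center G := by
        rw [← S.pr_eq_one', hzdef, map_mul, map_inv, hd', inv_mul_cancel]
      have hc2' : (c : G) * c ∈ center G := S.pr_eq_one'.1 (show S.pr (c * c) = 1 by rw [map_mul, hc2])
      have hx2 : x * x ∈ center G := by rwa [sq] at hxr
      have hxc : x * c = (b : G) * c * z * x := by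
        have : (z : G) = ((b : G) * c)⁻¹ * (x * c * x⁻¹) := rfl
        rw [this]; group
      set w : G := (z : G) * (x * x) * ((c : G) * c) with hwdef
      have hw : w ∈ center G := mul_mem (mul_mem hz hx2) hc2'
      have hsq : x * c * (x * c) = (b : G) * w := by
        calc x * c * (x * c) = (b : G) * c * z * x * (x * c) := by rw [← hxc]
          _ = (b : G) * (c * (z : G)) * ((x * x) * c) := by group
          _ = (b : G) * ((z : G) * c) * ((c : G) * (x * x)) := by
            rw [mem_center_iff.1 hz c, ← mem_center_iff.1 hx2 c]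
          _ = (b : G) * ((z : G) * (((c : G) * c) * (x * x))) := by group
          _ = (b : G) * ((z : G) * ((x * x) * ((c : G) * c))) := by
            rw [mem_center_iff.1 hx2 ((c : G) * c)]
          _ = (b : G) * w := by rw [hwdef]; group
      have hbeq : (b : G) = x * c * (x * c) * w⁻¹ := by rw [hsq]; group
      have hcomm : (b : G) * (x * c) = x * c * b := by
        rw [hbeq]
        calc x * c * (x * c) * w⁻¹ * (x * c) = x * c * (x * c) * (w⁻¹ * (x * c)) := by group
          _ = x * c * (x * c) * ((x * c) * w⁻¹) := by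
            rw [mem_center_iff.1 (inv_mem hw) (x * c)]
          _ = x * c * (x * c * (x * c) * w⁻¹) := by group
      refine hcH (hcl c b hbH hb1 (mul_left_cancel (a := x) ?_))
      calc x * ((c : G) * b) = x * c * b := by group
        _ = (b : G) * (x * c) := hcomm.symm
        _ = (b : G) * x * c := by group
        _ = x * b * c := by rw [hbx]
        _ = x * ((b : G) * c) := by group
    · refine hcH (mem_fixSub.2 ?_)
      have hfix : ∀ i : ℕ, ((β * β) ^ i) (S.pr c) = S.pr c := by
        intro i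
        induction i with
        | zero => rfl
        | succ n ih => rw [pow_succ, MulAut.mul_apply, hβ2, ih]
      have : β ((((β * β) ^ j)) (S.pr c)) = S.pr c := by
        have he : β * (β * β) ^ j = 1 := by
          rw [← hpow, hj, pow_succ', pow_mul, sq]
        rw [← MulAut.mul_apply, he, MulAut.one_apply]
      rwa [hfix] at this
  -- members
  have hU : ∀ A, IsUnipMember H A → normIn H A = A ∧ 3 ≤ Nat.card A := by
    intro A hA
    obtain ⟨y, hy, hy1⟩ := hA.1.exists_ne_one
    have hu : IsUnip y := hA.2 y hy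
    have hyH : y ∈ H := hA.1.le hy
    have hAeq := hA.1.eq_of_mem hy hy1
    refine ⟨le_antisymm (fun n hn => ?_) (le_normIn hA.1), ?_⟩
    · obtain ⟨hnH, hnc⟩ := (mem_normIn_iff hA.1 hy hy1).1 hn
      by_contra hnA
      exact hnoU y hu hy1 (unip_spread H htor hu hy1 hyH hnH hnc fun e => hnA (hAeq ▸ ⟨e, hnH⟩))
    · by_contra hlt
      have h2 : Nat.card A = 2 := by have := hA.1.two_le_card; omega
      have htwo : ∀ t ∈ A, t = 1 ∨ t = y := by
        intro t ht
        rcases eq_or_ne t 1 with e | e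
        · exact Or.inl e
        · obtain ⟨z, -, hz⟩ := (Nat.card_eq_two_iff' (1 : A)).1 h2
          exact Or.inr (congrArg Subtype.val ((hz ⟨t, ht⟩ fun h => e (congrArg Subtype.val h)).trans
            (hz ⟨y, hy⟩ fun h => hy1 (congrArg Subtype.val h)).symm))
      have hyy : y * y = 1 := by
        rcases htwo _ (A.mul_mem hy hy) with e | e
        · exact e
        · exact absurd (mul_eq_left.1 e) hy1
      refine hnoU y hu hy1 fun t ht => ?_
      obtain ⟨b, rfl⟩ := S.pr_surj y
      obtain ⟨c, rfl⟩ := S.pr_surj t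
      refine shift b c hyH hy1 hyy (sq_eq_one_of_unip hu hy1 hyy ht) ?_
      set c' : K := ⟨x * c * x⁻¹, S.conj_mem x c.2⟩ with hc'
      have hβc : β (S.pr c) = S.pr c' := S.act_pr x c _
      have hbx : (b : G) * x = x * b := (S.mem_fix_iff hx).1 hyH
      have hbc : S.pr (c⁻¹ * b * c * b⁻¹) = 1 := by
        rw [map_mul, map_mul, map_mul, map_inv, map_inv, mul_assoc (S.pr c)⁻¹,
          ← torus_comm hy1 ht (mem_torus_self _), inv_mul_cancel_left, mul_inv_cancel]
      set ε : K := c⁻¹ * b * c * b⁻¹ with hεdef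
      have hε : (ε : G) ∈ center G := S.pr_eq_one'.1 hbc
      have hdb : ((c' * c⁻¹ : K) : G) * b = b * ((c' * c⁻¹ : K) : G) := by
        have e1 : (b : G) * c = c * ε * b := by
          have : (ε : G) = (c : G)⁻¹ * b * c * (b : G)⁻¹ := rfl
          rw [this]; group
        have e2 : (b : G) * (x * c * x⁻¹) = (x * c * x⁻¹) * ε * b := by
          calc (b : G) * (x * c * x⁻¹) = (b : G) * x * c * x⁻¹ := by group
            _ = x * ((b : G) * c) * x⁻¹ := by rw [hbx]; group
            _ = x * ((c : G) * ε) * ((b : G) * x⁻¹) := by rw [e1]; group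
            _ = x * ((c : G) * ε) * (x⁻¹ * b) := by
              congr 1
              exact eq_inv_mul_iff_mul_eq.2 (by rw [← mul_assoc, ← hbx, mul_inv_cancel_right])
            _ = (x * c) * ((ε : G) * x⁻¹) * b := by group
            _ = (x * c) * (x⁻¹ * ε) * b := by rw [mem_center_iff.1 hε x⁻¹]
            _ = _ := by group
        show x * c * x⁻¹ * (c : G)⁻¹ * b = b * (x * c * x⁻¹ * (c : G)⁻¹)
        have e3 : (c : G)⁻¹ * b = ε * b * (c : G)⁻¹ := by
          have : (ε : G) = (c : G)⁻¹ * b * c * (b : G)⁻¹ := rfl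
          rw [this]; group
        calc x * c * x⁻¹ * (c : G)⁻¹ * b = x * c * x⁻¹ * ((c : G)⁻¹ * b) := by group
          _ = x * c * x⁻¹ * ε * b * (c : G)⁻¹ := by rw [e3]; group
          _ = (b : G) * (x * c * x⁻¹) * (c : G)⁻¹ := by rw [e2]
          _ = _ := by group
      have hβT : S.pr c' ∈ torus (S.pr b) := by
        refine mem_torus_of_comm_unip hu ?_
        rw [← hβc]
        have e := congrArg β (torus_comm hy1 ht (mem_torus_self _))
        rwa [map_mul, map_mul, mem_fixSub.1 hyH] at e
      have hdA : S.pr (c' * c⁻¹) ∈ A := by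
        rw [hAeq]
        refine ⟨?_, hcl _ b hyH hy1 hdb⟩
        rw [map_mul, map_inv]
        exact (torus _).mul_mem hβT ((torus _).inv_mem ht)
      rw [hβc]
      rcases htwo _ hdA with e | e <;> rw [map_mul, map_inv, mul_inv_eq_iff_eq_mul] at e
      · exact Or.inl (by rw [e, one_mul])
      · exact Or.inr e
  have hS : ∀ A, IsSemiMember H A → ∃ y, IsSemi y ∧ y ∈ H ∧ A = torus y := by
    intro A hA
    obtain ⟨y, hy, hy1⟩ := hA.1.exists_ne_one
    refine ⟨y, hA.2 y hy hy1, hA.1.le hy, ?_⟩
    rw [hA.1.eq_of_mem hy hy1, inf_eq_left]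
    exact htor y (hA.1.le hy) (hA.2 y hy hy1)
  have hnotmember : ∀ A, IsMember H A → H ≠ A := by
    intro A hA e
    rcases semiMember_or_unipMember hA with hs | hu
    · obtain ⟨y, hys, -, hAy⟩ := hS A hs
      obtain ⟨n, hn, hn'⟩ := exists_inverter hys
      rw [e, hAy] at hself
      exact hn' (hself ▸ hn)
    · obtain ⟨y, hy, hy1⟩ := hA.exists_ne_one
      refine hnoU y (hu.2 y hy) hy1 fun t ht => ?_
      rw [← hself]
      refine mem_normalizer_iff.2 fun z => ?_
      have hHT : ∀ w ∈ H, w ∈ torus y := fun w hw => by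
        rw [e, hA.eq_of_mem hy hy1] at hw
        exact hw.1
      constructor
      · intro hz
        rwa [torus_comm hy1 ht (hHT z hz), mul_inv_cancel_right]
      · intro hz
        have h1 := torus_comm hy1 ht (hHT _ hz)
        have h2 : t * z * t⁻¹ = z := by
          exact mul_left_cancel (h1.trans (inv_mul_cancel_right _ _))
        rwa [h2] at hz
  obtain ⟨R, hR1, hR2, hR3, hR4⟩ := exists_classEquation H
  let f : Subgroup (PSLtwo F) → ℚ := fun A => ((Nat.card A : ℚ) - 1) / (Nat.card (normIn H A) : ℚ)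
  have hsum : ∑ A ∈ R, f A = 1 - 1 / (Nat.card H : ℚ) := hR4
  have hpos : (0 : ℚ) < 1 / (Nat.card H : ℚ) := by
    have : 0 < Nat.card H := Nat.card_pos
    positivity
  have hnA : ∀ A ∈ R, Nat.card (normIn H A) = Nat.card A ∨
      Nat.card (normIn H A) = 2 * Nat.card A := by
    intro A hA
    rcases semiMember_or_unipMember (hR1 A hA) with hs | hu
    · exact hs.card_normIn
    · exact Or.inl (by rw [(hU A hu).1])
  have hone : ∀ A ∈ R, Nat.card (normIn H A) = Nat.card A → 3 ≤ Nat.card A → (2 : ℚ) / 3 ≤ f A := by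
    intro A _ h1 h3
    have h3' : (3 : ℚ) ≤ Nat.card A := by exact_mod_cast h3
    simp only [f, h1]
    rw [le_div_iff₀ (by linarith)]
    linarith
  have hthird : ∀ A ∈ R, 3 ≤ Nat.card A → (1 : ℚ) / 3 ≤ f A := by
    intro A hA h3
    rcases hnA A hA with h1 | h1
    · linarith [hone A hA h1 h3]
    · have h3' : (3 : ℚ) ≤ Nat.card A := by exact_mod_cast h3
      simp only [f, h1]
      push_cast
      rw [le_div_iff₀ (by linarith)]
      linarith
  -- some member has order two
  obtain ⟨A₀, hA₀, h2⟩ : ∃ A ∈ R, Nat.card A = 2 := by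
    by_contra hall
    push Not at hall
    have h3 : ∀ A ∈ R, 3 ≤ Nat.card A := fun A hA => by
      have := (hR1 A hA).two_le_card
      have := hall A hA
      omega
    have hcard : R.card < 3 := by
      by_contra hge
      push Not at hge
      have h1 := Finset.card_nsmul_le_sum R f ((1 : ℚ) / 3) fun A hA => hthird A hA (h3 A hA)
      rw [nsmul_eq_mul, hsum] at h1
      have : (3 : ℚ) ≤ R.card := by exact_mod_cast hge
      nlinarith
    have hRne : R.Nonempty := by
      obtain ⟨y, hy, hy1⟩ := H.bot_or_exists_ne_one.resolve_left hne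
      obtain ⟨B, hB, -⟩ := hR2 _ (isMember_of_mem hy hy1)
      exact ⟨B, hB⟩
    have hn : ∀ A, Nat.card (normIn H A) = 2 * Nat.card A → 2 * (Nat.card A : ℚ) ≤ Nat.card H :=
      fun A h => by
        have := Subgroup.card_le_of_le (normIn_le H A)
        rw [h] at this
        exact_mod_cast this
    have he2 : ∀ A ∈ R, Nat.card (normIn H A) = 2 * Nat.card A →
        f A = 1 / 2 - 1 / (2 * (Nat.card A : ℚ)) := by
      intro A _ h
      have : (Nat.card A : ℚ) ≠ 0 := Nat.cast_ne_zero.2 Nat.card_pos.ne'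
      simp only [f, h]
      push_cast
      field_simp
    rcases Nat.lt_or_ge R.card 2 with hc | hc
    · obtain ⟨A, rfl⟩ := Finset.card_eq_one.1
        (show R.card = 1 by have := hRne.card_pos; omega)
      rw [Finset.sum_singleton] at hsum
      have hA : A ∈ ({A} : Finset (Subgroup (PSLtwo F))) := Finset.mem_singleton_self A
      rcases hnA A hA with h1 | h1
      · have hne' : (Nat.card A : ℚ) ≠ 0 := Nat.cast_ne_zero.2 Nat.card_pos.ne'
        have hHne : (Nat.card H : ℚ) ≠ 0 := Nat.cast_ne_zero.2 Nat.card_pos.ne'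
        simp only [f, h1] at hsum
        field_simp at hsum
        have : (Nat.card A : ℚ) = Nat.card H := by linarith
        exact hnotmember A (hR1 A hA)
          (Subgroup.eq_of_le_of_card_ge (hR1 A hA).le (by exact_mod_cast this.ge)).symm
      · rw [he2 A hA h1] at hsum
        have := hn A h1
        have hApos : (0 : ℚ) < 2 * Nat.card A := by
          have : 0 < Nat.card A := Nat.card_pos
          positivity
        have := one_div_le_one_div_of_le hApos this
        linarith
    · obtain ⟨A, B, hAB, rfl⟩ := Finset.card_eq_two.1 (show R.card = 2 by omega)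
      rw [Finset.sum_pair hAB] at hsum
      have hA : A ∈ ({A, B} : Finset (Subgroup (PSLtwo F))) := by simp
      have hB : B ∈ ({A, B} : Finset (Subgroup (PSLtwo F))) := by simp
      rcases hnA A hA with h1 | h1
      · have := hone A hA h1 (h3 A hA)
        have := hthird B hB (h3 B hB)
        linarith
      rcases hnA B hB with h1' | h1'
      · have := hone B hB h1' (h3 B hB)
        have := hthird A hA (h3 A hA)
        linarith
      rw [he2 A hA h1, he2 B hB h1'] at hsum
      have := hn A h1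
      have hApos : (0 : ℚ) < 2 * Nat.card A := by
        have : 0 < Nat.card A := Nat.card_pos
        positivity
      have := one_div_le_one_div_of_le hApos this
      have hBpos : (0 : ℚ) < 1 / (2 * (Nat.card B : ℚ)) := by
        have : 0 < Nat.card B := Nat.card_pos
        positivity
      linarith
  have hA₀s : IsSemiMember H A₀ := by
    rcases semiMember_or_unipMember (hR1 A₀ hA₀) with hs | hu
    · exact hs
    · have := (hU A₀ hu).2
      omega
  obtain ⟨y₀, hy₀s, hy₀H, hA₀eq⟩ := hS A₀ hA₀s
  have h5 : Fintype.card F = 5 := card_torus_eq_two S.four_le hy₀s (hA₀eq ▸ h2)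
  -- there are no unipotent fixed points
  have hnou : ∀ y ∈ H, y ≠ 1 → ¬ IsUnip y := by
    intro y hy hy1 hu
    obtain ⟨B, hB, g, hg, hBeq⟩ := hR2 _ (isMember_of_mem hy hy1)
    have hcardB : Nat.card B = Nat.card (torus y ⊓ H : Subgroup (PSLtwo F)) := by
      rw [hBeq, Subgroup.card_map_of_injective (MulEquiv.injective _)]
    have h5B : Nat.card B = 5 := by
      have hd : Nat.card (torus y ⊓ H : Subgroup (PSLtwo F)) ∣ 5 := by
        rw [← h5, ← card_torus_unip hu hy1]
        exact Subgroup.card_dvd_of_le inf_le_left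
      have := (isMember_of_mem hy hy1).two_le_card
      rw [hcardB]
      rcases (Nat.dvd_prime (by norm_num : Nat.Prime 5)).1 hd with e | e <;> omega
    have hBu : IsUnipMember H B := by
      rcases semiMember_or_unipMember (hR1 B hB) with hs | hu'
      · exfalso
        obtain ⟨z, hzs, -, rfl⟩ := hS B hs
        have hd : Nat.gcd 2 (Fintype.card F - 1) = 2 := by rw [h5]; rfl
        rcases card_torus_semi hzs with e | e <;> rw [h5B, h5] at e <;> norm_num at e
      · exact hu'
    have hfB : f B = 4 / 5 := by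
      simp only [f, (hU B hBu).1, h5B]
      norm_num
    have hfA : 1 / 4 ≤ f A₀ := by
      rcases hnA A₀ hA₀ with e | e <;> simp only [f, e, h2] <;> norm_num
    have hAB : A₀ ≠ B := fun e => by rw [e, h5B] at h2; omega
    have hle := Finset.sum_le_sum_of_subset_of_nonneg
      (show ({A₀, B} : Finset (Subgroup (PSLtwo F))) ⊆ R from
        Finset.insert_subset hA₀ (Finset.singleton_subset_iff.2 hB))
      (f := f) fun A hA _ => (by
        have := (hR1 A hA).two_le_card
        have : (2 : ℚ) ≤ Nat.card A := by exact_mod_cast this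
        exact div_nonneg (by linarith) (Nat.cast_nonneg _))
    rw [Finset.sum_pair hAB, hsum, hfB] at hle
    linarith
  have hcent : ∀ y ∈ H, y ≠ 1 → ∀ m, m * y = y * m → m ∈ H := by
    intro y hy hy1 m hm
    have hys : IsSemi y := (semi_or_unip y).resolve_right (hnou y hy hy1)
    rcases comm_semi_cases hys hm with hmT | ⟨hmT, hyy, hmm, -⟩
    · exact htor y hy hys hmT
    have hy2 : Nat.card (torus y) = 2 := by
      have hd : Nat.gcd 2 (Fintype.card F - 1) = 2 := by rw [h5]; rfl
      have hdvd : 2 ∣ Nat.card (torus y) := by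
        have h1 : orderOf y = 2 := orderOf_eq_prime (by rw [sq, hyy]) hy1
        have h2' := orderOf_dvd_natCard (⟨y, mem_torus_self y⟩ : torus y)
        rwa [Subgroup.orderOf_mk, h1] at h2'
      rcases card_torus_semi hys with e | e <;> rw [hd, h5] at e <;> omega
    obtain ⟨b, rfl⟩ := S.pr_surj y
    obtain ⟨c, rfl⟩ := S.pr_surj m
    refine shift b c hy hy1 hyy hmm ?_
    have hβm : β (S.pr c) * S.pr b = S.pr b * β (S.pr c) := by
      have e := congrArg β hm
      rwa [map_mul, map_mul, mem_fixSub.1 hy] at e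
    have hβmT : β (S.pr c) ∉ torus (S.pr b) := by
      intro hin
      refine hmT ?_
      have : β (β (S.pr c)) = β (S.pr c) := mem_fixSub.1 (htor _ hy hys hin)
      rw [β.injective this] at hin
      exact hin
    have hn1 : ∀ w, w * S.pr b = S.pr b * w → w * S.pr b * w⁻¹ ∈ torus (S.pr b) := fun w hw => by
      rw [hw, mul_inv_cancel_right]; exact mem_torus_self _
    have hprod := outside_mul_mem hys (hn1 _ hβm) (hn1 _ hm) hβmT hmT
    rcases torus_elems_of_card_two hy1 hy2 hprod with e | e
    · exact Or.inl ((mul_eq_one_iff_eq_inv.1 e).trans (eq_inv_of_mul_eq_one_left hmm).symm)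
    · exact Or.inr (by rw [← e, mul_assoc, hmm, mul_one])
  have h12 : 12 ≤ Nat.card H := by
    have hy1 := hy₀s.ne_one
    set V := normalizer ((torus y₀ : Subgroup (PSLtwo F)) : Set (PSLtwo F)) with hV
    have hVcard : Nat.card V = 4 := by rw [normalizer_torus_card hy₀s, ← hA₀eq, h2]
    have hVH : V ≤ H := fun n hn => by
      refine hcent y₀ hy₀H hy1 n (mul_inv_eq_iff_eq_mul.1 ?_)
      have h1 := (mem_normalizer_torus_iff hy1).1 hn
      rcases torus_elems_of_card_two hy1 (hA₀eq ▸ h2) h1 with e | e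
      · exact absurd (conj_eq_one_iff.1 e) hy1
      · exact e
    have h4 : 4 ∣ Nat.card H := hVcard ▸ Subgroup.card_dvd_of_le hVH
    have hne4 : Nat.card H ≠ 4 := fun e => normalizer_ne_self_of_card_four h5 H e hself
    have h60 : Nat.card H ∣ 60 := by
      have h := H.card_subgroup_dvd_card
      rwa [show Nat.card (PSLtwo F) = 60 by rw [card_PSL, h5]; norm_num] at h
    have hne8 : Nat.card H ≠ 8 := fun e => by rw [e] at h60; norm_num at h60
    have : 0 < Nat.card H := Nat.card_pos
    omega
  refine hx.1 (S.act_eq_one (aut_eq_one_of_coset_fixed hnt β fun g => ?_))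
  obtain ⟨l, hlH, hgl, hl1⟩ : ∃ l ∈ H, g * l * g⁻¹ ∈ H ∧ l ≠ 1 := by
    by_contra hnone
    push Not at hnone
    let φ : H × H → PSLtwo F := fun q => (q.1 : PSLtwo F) * g * q.2
    have hinj : Function.Injective φ := by
      rintro ⟨a, b⟩ ⟨a', b'⟩ h
      simp only [φ] at h
      have hg' : g * ((b : PSLtwo F) * (b' : PSLtwo F)⁻¹) * g⁻¹ = (a : PSLtwo F)⁻¹ * a' := by
        calc g * ((b : PSLtwo F) * (b' : PSLtwo F)⁻¹) * g⁻¹
            = (a : PSLtwo F)⁻¹ * ((a : PSLtwo F) * g * b) * (b' : PSLtwo F)⁻¹ * g⁻¹ := by group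
          _ = _ := by rw [h]; group
      have hb : (b : PSLtwo F) * (b' : PSLtwo F)⁻¹ = 1 :=
        hnone _ (H.mul_mem b.2 (H.inv_mem b'.2)) (hg' ▸ H.mul_mem (H.inv_mem a.2) a'.2)
      have hb' : b = b' := Subtype.ext (mul_inv_eq_one.1 hb)
      subst hb'
      exact Prod.ext (Subtype.ext (mul_right_cancel (mul_right_cancel h))) rfl
    have := Nat.card_le_card_of_injective φ hinj
    rw [Nat.card_prod, show Nat.card (PSLtwo F) = 60 by rw [card_PSL, h5]; norm_num] at this
    nlinarith
  refine hcent l hlH hl1 _ ?_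
  have h1 : β (g * l * g⁻¹) = g * l * g⁻¹ := hgl
  rw [map_mul, map_mul, map_inv, mem_fixSub.1 hlH] at h1
  calc g⁻¹ * β g * l = g⁻¹ * (β g * l * (β g)⁻¹) * β g := by group
    _ = g⁻¹ * (g * l * g⁻¹) * β g := by rw [h1]
    _ = l * (g⁻¹ * β g) := by group

end PerfectAux

/-- A minimal non-CA group is perfect. -/
theorem perfect (hCA : PerfectCABrick.{u}) : PerfectBrick.{u} := by
  intro G _ _ h
  classical
  by_contra hne
  -- the smallest derived term
  obtain ⟨n, hn⟩ : ∃ n, ∀ m, Nat.card (derivedSeries G n) ≤ Nat.card (derivedSeries G m) := by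
    obtain ⟨n, hn⟩ := (Set.range fun m => Nat.card (derivedSeries G m)).exists_min_image id
      ((Set.finite_le_nat (Nat.card G)).subset (by
        rintro _ ⟨m, rfl⟩
        exact Subgroup.card_le_card_group _)) ⟨_, 0, rfl⟩
    obtain ⟨⟨m, rfl⟩, hmin⟩ := hn
    exact ⟨m, fun k => hmin _ ⟨k, rfl⟩⟩
  set K := derivedSeries G n with hK
  haveI hKn : K.Normal := derivedSeries_normal G n
  have hsucc : ⁅K, K⁆ = K := by
    have hle : derivedSeries G (n + 1) ≤ K := by
      rw [derivedSeries_succ]; exact Subgroup.commutator_le_self _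
    have := Subgroup.eq_of_le_of_card_ge hle (hn (n + 1))
    rwa [derivedSeries_succ] at this
  have hKtop : K ≠ ⊤ := fun e => hne (by
    rw [commutator_def]; rw [e] at hsucc; exact hsucc)
  have hKbot : K ≠ ⊥ := fun e => h.not_solvable ((Group.isSolvable_def G).2 ⟨n, e⟩)
  have hperf : commutator K = ⊤ := by
    apply Subgroup.map_injective K.subtype_injective
    rw [Subgroup.map_subtype_commutator, hsucc, ← MonoidHom.range_eq_map, Subgroup.range_subtype]
  haveI : Nontrivial K := (Subgroup.nontrivial_iff_ne_bot K).2 hKbot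
  obtain ⟨-, F, _, _, hq, ⟨e⟩⟩ := hCA K (h.sub_ca K hKtop) hperf inferInstance
  let S : PerfectAux.Setup K F := ⟨h, hKn, hperf, hKtop, hq, e⟩
  obtain ⟨x, hx⟩ := exists_bad_of_not_isCA h.not_ca
  obtain ⟨hex, y, hy, r, hr, hyr⟩ : True ∧ ∃ y : G, Bad y ∧ ∃ r : ℕ, r.Prime ∧ y ^ r ∈ center G := by
    refine ⟨trivial, ?_⟩
    set m := orderOf ((x : G ⧸ center G)) with hm
    have hm1 : m ≠ 1 := fun e' =>
      hx.1 ((QuotientGroup.eq_one_iff x).1 (orderOf_eq_one_iff.1 e'))
    obtain ⟨r, hr, hrd⟩ := Nat.exists_prime_and_dvd hm1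
    have hm0 : 0 < m := orderOf_pos _
    have hmul : m / r * r = m := Nat.div_mul_cancel hrd
    have hyne : x ^ (m / r) ∉ center G := fun hc => by
      have h1 : ((x : G ⧸ center G)) ^ (m / r) = 1 := by
        rw [← QuotientGroup.mk_pow]; exact (QuotientGroup.eq_one_iff _).2 hc
      have h2 := orderOf_dvd_of_pow_eq_one h1
      rw [← hm] at h2
      have hlt : m / r < m := Nat.div_lt_self hm0 hr.one_lt
      have hpos : 0 < m / r := Nat.div_pos (Nat.le_of_dvd hm0 hrd) hr.pos
      exact absurd (Nat.le_of_dvd hpos h2) (not_le.2 hlt)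
    refine ⟨x ^ (m / r), (h.centralizer_eq_of_central hx hyne ?_).2, r, hr, ?_⟩
    · intro g hg
      rw [Subgroup.mem_centralizer_singleton_iff] at hg ⊢
      exact (Commute.pow_right hg _)
    · rw [← pow_mul, hmul]
      exact (QuotientGroup.eq_one_iff _).1 (by rw [QuotientGroup.mk_pow, hm, pow_orderOf_eq_one])
  exact S.no_bad hy hr hyr

end Cfsg.Agent.Lib.MinNonCA34
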