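import Cfsg.Agent.Lib.MinNonCA34.Spec
import Cfsg.Agent.Lib.AbelianConj.Basic
import Cfsg.Agent.Lib.Core.Nilpotent
import Cfsg.Agent.S0205

/-!
# Minimal non-CA groups: the solvable radical of a perfect one is the centre

In a non-solvable CA-group every solvable normal subgroup is central.  Applied to normalisers of
Sylow subgroups this makes a maximal normal subgroup `N` solvable.  A minimal non-central normal
`p`-subgroup `Q` of `N` is excluded by the action of a Sylow 2-subgroup on it.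
-/

set_option autoImplicit false

namespace Cfsg.Agent.Lib.MinNonCA34

open Subgroup
open scoped commutatorElement Pointwise

universe u

namespace RadicalAux

variable {G : Type u} [Group G]

/-- A perfect solvable group is trivial. -/
theorem subsingleton_of_perfect {X : Type*} [Group X] [hs : Group.IsSolvable X]
    (hp : commutator X = ⊤) : Subsingleton X := by
  by_contra hns
  haveI : Nontrivial X := not_subsingleton_iff_nontrivial.1 hns
  exact (Group.IsSolvable.commutator_lt_top_of_nontrivial X).ne hp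

theorem comm_eq_one_of_hom {X Y : Type*} [Group X] [Group Y] (f : X →* Y)
    (hY : ∀ a b : X, f a * f b = f b * f a) (hp : commutator X = ⊤) (x : X) : f x = 1 := by
  have hle : commutator X ≤ f.ker := by
    rw [commutator_def, Subgroup.commutator_le]
    intro a _ b _
    rw [MonoidHom.mem_ker, map_commutatorElement]
    exact commutatorElement_eq_one_iff_mul_comm.2 (hY a b)
  exact MonoidHom.mem_ker.1 (hle (hp ▸ mem_top x))

theorem commutator_map_eq {X Y : Type*} [Group X] [Group Y] (f : X →* Y)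
    (hf : Function.Surjective f) (hp : commutator X = ⊤) : commutator Y = ⊤ := by
  have h := Subgroup.map_commutator (⊤ : Subgroup X) ⊤ f
  rw [Subgroup.map_top_of_surjective f hf] at h
  rw [commutator_def, ← h, ← commutator_def, hp, Subgroup.map_top_of_surjective f hf]

/-- A perfect group is not the product of a normal subgroup and a solvable one unless it is the
normal subgroup. -/
theorem eq_top_of_sup (hp : commutator G = ⊤) {C M : Subgroup G} [hC : C.Normal]
    (hM : Group.IsSolvable M) (h : C ⊔ M = ⊤) : C = ⊤ := by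
  have hsurj : Function.Surjective ((QuotientGroup.mk' C).comp M.subtype) := by
    rw [← MonoidHom.range_eq_top, MonoidHom.range_comp, range_subtype]
    have e : (C ⊔ M).map (QuotientGroup.mk' C) = M.map (QuotientGroup.mk' C) := by
      rw [Subgroup.map_sup, QuotientGroup.map_mk'_self, bot_sup_eq]
    rw [← e, h, Subgroup.map_top_of_surjective _ (QuotientGroup.mk'_surjective C)]
  haveI : Group.IsSolvable (G ⧸ C) :=
    Group.isSolvable_of_surjective hsurj
  have hss := subsingleton_of_perfect (X := G ⧸ C)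
    (commutator_map_eq _ (QuotientGroup.mk'_surjective C) hp)
  refine eq_top_iff.2 fun g _ => ?_
  exact (QuotientGroup.eq_one_iff g).1 (Subsingleton.elim _ _)

/-- Either a normal subgroup is solvable or it contains a non-trivial perfect normal subgroup. -/
theorem solvable_or_perfect [Finite G] (M : Subgroup G) (hM : M.Normal) :
    Group.IsSolvable M ∨ ∃ K : Subgroup G, K ≤ M ∧ K.Normal ∧ K ≠ ⊥ ∧ ⁅K, K⁆ = K := by
  induction M using WellFoundedLT.induction with
  | _ M ih =>
    haveI := hM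
    by_cases he : ⁅M, M⁆ = M
    · by_cases hb : M = ⊥
      · subst hb
        left
        infer_instance
      · exact Or.inr ⟨M, le_rfl, hM, hb, he⟩
    · have hlt : ⁅M, M⁆ < M := lt_of_le_of_ne (Subgroup.commutator_le_self M) he
      rcases ih _ hlt inferInstance with hs | ⟨K, hK, h⟩
      · left
        refine Group.isSolvable_of_ker_le_range (G' := ↥⁅M, M⁆) (G'' := Abelianization M)
          (Subgroup.inclusion hlt.le) Abelianization.of ?_
        intro x hx
        rw [Abelianization.ker_of] at hx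
        have h2 : (x : G) ∈ ⁅M, M⁆ := by
          rw [← Subgroup.map_subtype_commutator]
          exact ⟨x, hx, rfl⟩
        exact ⟨⟨x, h2⟩, Subtype.ext rfl⟩
      · exact Or.inr ⟨K, hK.trans hlt.le, h⟩

theorem perfect_subtype {K : Subgroup G} (h : ⁅K, K⁆ = K) : commutator ↥K = ⊤ := by
  refine Subgroup.map_injective K.subtype_injective ?_
  rw [Subgroup.map_subtype_commutator, h, ← MonoidHom.range_eq_map, range_subtype]

/-- In a non-solvable CA-group a solvable normal subgroup is central. -/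
theorem le_center_of_isCA (hPC : PerfectCABrick.{u}) {H : Type u} [Group H] [Finite H]
    (hca : IsCA H) (hns : ¬ Group.IsSolvable H) {M : Subgroup H} [hM : M.Normal]
    (hMs : Group.IsSolvable M) : M ≤ center H := by
  rcases solvable_or_perfect (⊤ : Subgroup H) inferInstance with hs | ⟨R, -, hRn, hRne, hR⟩
  · exact absurd (Group.isSolvable_of_surjective (f := (⊤ : Subgroup H).subtype)
      (fun x => ⟨⟨x, mem_top x⟩, rfl⟩)) hns
  haveI := hRn
  haveI : Nontrivial R := R.nontrivial_iff_ne_bot.2 hRne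
  obtain ⟨hsimp, -⟩ := hPC R (hca.subgroup R) (perfect_subtype hR) inferInstance
  -- the intersection is central in `R`
  have hint : M.subgroupOf R ≤ center R := by
    haveI : Group.IsSolvable ↥(M.subgroupOf R) :=
      Group.isSolvable_of_isSolvable_injective
        (f := ((R.subtype.comp (M.subgroupOf R).subtype).codRestrict M fun x => x.2))
        (fun a b e => Subtype.ext (Subtype.ext (congrArg Subtype.val e :)))
    haveI : ((M.subgroupOf R).map (QuotientGroup.mk' (center R))).Normal :=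
      (inferInstance : (M.subgroupOf R).Normal).map _ (QuotientGroup.mk'_surjective _)
    rcases (inferInstance : ((M.subgroupOf R).map (QuotientGroup.mk' (center R))).Normal).eq_bot_or_eq_top
      with e | e
    · rwa [Subgroup.map_eq_bot_iff, QuotientGroup.ker_mk'] at e
    · exfalso
      have hsurj : Function.Surjective
          ((QuotientGroup.mk' (center R)).comp (M.subgroupOf R).subtype) := by
        rw [← MonoidHom.range_eq_top, MonoidHom.range_comp, range_subtype]
        exact e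
      haveI : Group.IsSolvable (R ⧸ center R) := Group.isSolvable_of_surjective hsurj
      haveI := subsingleton_of_perfect (X := R ⧸ center R)
        (commutator_map_eq _ (QuotientGroup.mk'_surjective _) (perfect_subtype hR))
      exact not_subsingleton (R ⧸ center R) inferInstance
  have hint' : M ⊓ R ≤ centralizer (R : Set H) := fun x hx => Subgroup.mem_centralizer_iff.2
    fun r hr => congrArg Subtype.val (mem_center_iff.1 (hint (show (⟨x, hx.2⟩ : R) ∈ M.subgroupOf R from hx.1)) ⟨r, hr⟩)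
  have h1 : ⁅⁅R, M⁆, R⁆ = ⊥ := by
    rw [Subgroup.commutator_eq_bot_iff_le_centralizer]
    exact (le_inf (Subgroup.commutator_le_right R M) (Subgroup.commutator_le_left R M)).trans hint'
  have h2 : ⁅⁅M, R⁆, R⁆ = ⊥ := by rwa [Subgroup.commutator_comm M R]
  have h3 := Subgroup.commutator_commutator_eq_bot_of_rotate h1 h2
  rw [hR, Subgroup.commutator_eq_bot_iff_le_centralizer] at h3
  obtain ⟨a, b, hab⟩ : ∃ a b : R, a * b ≠ b * a := by
    by_contra hall
    push Not at hall
    haveI : Subsingleton R := by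
      refine ⟨fun x y => ?_⟩
      have h : ∀ z : R, z = 1 := comm_eq_one_of_hom (MonoidHom.id R) hall (perfect_subtype hR)
      rw [h x, h y]
    exact not_subsingleton R inferInstance
  intro x hx
  by_contra hc
  exact hab (Subtype.ext (hca x hc a b
    (Subgroup.mem_centralizer_iff.1 (h3 a.2) x hx).symm
    (Subgroup.mem_centralizer_iff.1 (h3 b.2) x hx).symm))

/-- A proper normal subgroup is solvable. -/
theorem isSolvable_of_normal (hPC : PerfectCABrick.{u}) [Finite G] (h : Hyp G)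
    (hp : commutator G = ⊤) {N : Subgroup G} (hN : N.Normal) (hNtop : N ≠ ⊤) :
    Group.IsSolvable N := by
  rcases solvable_or_perfect N hN with hs | ⟨K, hKN, hKn, hKne, hK⟩
  · exact hs
  exfalso
  haveI := hKn
  have hKtop : K ≠ ⊤ := fun e => hNtop (top_le_iff.1 (e ▸ hKN))
  haveI : Nontrivial K := K.nontrivial_iff_ne_bot.2 hKne
  obtain ⟨p, hp', P, hPn⟩ : ∃ (p : ℕ) (_ : Fact p.Prime) (P : Sylow p K),
      ¬ ((P : Subgroup K).map K.subtype).Normal := by
    by_contra hall
    push Not at hall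
    have hnil : Group.IsNilpotent K := by
      refine ((Group.isNilpotent_of_finite_tfae (G := K)).out 0 3).2 fun p hp' P => ?_
      have hn := hall p hp' P
      have e : (P : Subgroup K) = ((P : Subgroup K).map K.subtype).subgroupOf K := by
        rw [Subgroup.subgroupOf, Subgroup.comap_map_eq_self_of_injective K.subtype_injective]
      rw [e]
      exact Subgroup.normal_subgroupOf
    haveI := subsingleton_of_perfect (X := K) (perfect_subtype hK)
    exact not_subsingleton K inferInstance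
  haveI := hp'
  obtain ⟨P', hP'⟩ : ∃ P' : Subgroup G, P' = (P : Subgroup K).map K.subtype := ⟨_, rfl⟩
  rw [← hP'] at hPn
  have hH : normalizer (P' : Set G) ≠ ⊤ := fun e => hPn (normalizer_eq_top_iff.1 e)
  have hsup : K ⊔ normalizer (P' : Set G) = ⊤ := by
    rw [sup_comm, hP']
    exact Sylow.normalizer_sup_eq_top P
  have hns : ¬ Group.IsSolvable (normalizer (P' : Set G)) := fun hs => hKtop (eq_top_of_sup hp hs hsup)
  haveI : (P'.subgroupOf (normalizer (P' : Set G))).Normal := Subgroup.normal_in_normalizer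
  have hsol : Group.IsSolvable ↥(P'.subgroupOf (normalizer (P' : Set G))) := by
    have hp1 : IsPGroup p ↥(P'.subgroupOf (normalizer (P' : Set G))) :=
      ((P.2.map K.subtype).of_equiv (MulEquiv.subgroupCongr hP'.symm)).of_equiv
        (Subgroup.subgroupOfEquivOfLe le_normalizer).symm
    haveI := hp1.isNilpotent
    infer_instance
  have hcen := le_center_of_isCA hPC (h.sub_ca _ hH) hns hsol
  -- so `K` has a normal `p`-complement
  have hNC : normalizer ((P : Subgroup K) : Set K) ≤ centralizer ((P : Subgroup K) : Set K) := by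
    intro k hk
    refine Subgroup.mem_centralizer_iff.2 fun y hy => Subtype.ext ?_
    have hk' : (k : G) ∈ normalizer (P' : Set G) := by
      rw [hP']
      exact Subgroup.le_normalizer_map K.subtype ⟨k, hk, rfl⟩
    have hy' : (y : G) ∈ P' := hP' ▸ ⟨y, hy, rfl⟩
    have := mem_center_iff.1 (hcen (show (⟨y, le_normalizer hy'⟩ : normalizer (P' : Set G)) ∈
      P'.subgroupOf (normalizer (P' : Set G)) from hy')) ⟨k, hk'⟩
    exact (congrArg Subtype.val this).symm
  have hcomp := MonoidHom.ker_transferSylow_isComplement' P hNC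
  have htop : (MonoidHom.transferSylow P hNC).ker = ⊤ := by
    refine eq_top_iff.2 fun x _ => MonoidHom.mem_ker.2
      (comm_eq_one_of_hom _ (fun a b => Subtype.ext ?_) (perfect_subtype hK) x)
    exact Subgroup.mem_centralizer_iff.1 (hNC (le_normalizer
      (MonoidHom.transferSylow P hNC b).2)) _ (MonoidHom.transferSylow P hNC a).2
  rw [htop] at hcomp
  refine hPn ?_
  rw [hP', isComplement'_top_left.1 hcomp, Subgroup.map_bot]
  infer_instance

/-- The elements centralising `Q` modulo the centre. -/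
def centMod (Q : Subgroup G) [Q.Normal] : Subgroup G where
  carrier := {g | ∀ q ∈ Q, g * q * g⁻¹ * q⁻¹ ∈ center G}
  one_mem' q hq := by simp
  mul_mem' {g k} hg hk q hq := by
    have h1 := hk q hq
    have h2 := hg _ ((inferInstance : Q.Normal).conj_mem q hq k)
    have e : g * k * q * (g * k)⁻¹ * q⁻¹ =
        g * (k * q * k⁻¹) * g⁻¹ * (k * q * k⁻¹)⁻¹ * (k * q * k⁻¹ * q⁻¹) := by group
    rw [e]
    exact mul_mem h2 h1
  inv_mem' {g} hg q hq := by
    have h1 := hg _ ((inferInstance : Q.Normal).conj_mem' q hq g)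
    have e : g⁻¹ * q * g⁻¹⁻¹ * q⁻¹ = (g * (g⁻¹ * q * g) * g⁻¹ * (g⁻¹ * q * g)⁻¹)⁻¹ := by group
    rw [e]
    exact inv_mem h1

theorem centMod_normal (Q : Subgroup G) [Q.Normal] : (centMod Q).Normal := by
  refine ⟨fun g hg x q hq => ?_⟩
  have h1 := hg _ ((inferInstance : Q.Normal).conj_mem' q hq x)
  have e : x * g * x⁻¹ * q * (x * g * x⁻¹)⁻¹ * q⁻¹ =
      x * (g * (x⁻¹ * q * x) * g⁻¹ * (x⁻¹ * q * x)⁻¹) * x⁻¹ := by group
  rw [e]
  exact (inferInstance : (center G).Normal).conj_mem _ h1 x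

/-- A normal subgroup of a perfect group centralised modulo the centre is central. -/
theorem le_center_of_centMod (hp : commutator G = ⊤) {Q : Subgroup G} [Q.Normal]
    (h : centMod Q = ⊤) : Q ≤ center G := by
  intro q hq
  refine mem_center_iff.2 fun g => ?_
  have hc : ∀ x : G, x * q * x⁻¹ * q⁻¹ ∈ center G := fun x => (h ▸ mem_top x : x ∈ centMod Q) q hq
  let f : G →* center G :=
    MonoidHom.mk' (fun x => ⟨x * q * x⁻¹ * q⁻¹, hc x⟩) fun x y => Subtype.ext <| by
      show x * y * q * (x * y)⁻¹ * q⁻¹ = x * q * x⁻¹ * q⁻¹ * (y * q * y⁻¹ * q⁻¹)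
      obtain ⟨w, hw, ew⟩ : ∃ w ∈ center G, w = y * q * y⁻¹ * q⁻¹ := ⟨_, hc y, rfl⟩
      have e1 : x * y * q * (x * y)⁻¹ * q⁻¹ = x * w * q * x⁻¹ * q⁻¹ := by rw [ew]; group
      rw [e1, ← ew, mem_center_iff.1 hw x]
      calc w * x * q * x⁻¹ * q⁻¹ = w * (x * q * x⁻¹ * q⁻¹) := by group
        _ = x * q * x⁻¹ * q⁻¹ * w := (mem_center_iff.1 hw _).symm
  have h1 := comm_eq_one_of_hom f (fun a b => Subtype.ext (mem_center_iff.1 (f b).2 _)) hp g
  have h2 : g * q * g⁻¹ * q⁻¹ = 1 := congrArg Subtype.val h1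
  rwa [mul_inv_eq_one, mul_inv_eq_iff_eq_mul] at h2

/-- Iterating a conjugation that multiplies by a fixed element. -/
theorem pow_conj_eq {g q c : G} (h : g * q * g⁻¹ = q * c) (hc : g * c = c * g) :
    ∀ n : ℕ, g ^ n * q * (g ^ n)⁻¹ = q * c ^ n
  | 0 => by simp
  | n + 1 => by
    have hn := pow_conj_eq h hc n
    calc g ^ (n + 1) * q * (g ^ (n + 1))⁻¹ = g * (g ^ n * q * (g ^ n)⁻¹) * g⁻¹ := by
          rw [pow_succ']; group
      _ = (g * q * g⁻¹) * (g * c ^ n * g⁻¹) := by rw [hn]; group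
      _ = q * c ^ (n + 1) := by
          rw [h, ((show Commute g c from hc).pow_right n).eq, pow_succ', mul_inv_cancel_right,
            mul_assoc]

theorem eq_one_of_two_pows {c : G} {a b : ℕ} (hab : a.Coprime b) (ha : c ^ a = 1) (hb : c ^ b = 1) :
    c = 1 := by
  have h : c ^ Nat.gcd a b = 1 := pow_gcd_eq_one.2 ⟨ha, hb⟩
  rwa [hab, pow_one] at h

theorem closure_image_ne_top {X : Type*} [Group X] [Finite X] [IsSimpleGroup X]
    (hna : ∃ a b : X, a * b ≠ b * a) {u v : X} (hu : u * u = 1) (hv : v * v = 1) :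
    closure ({u, v} : Set X) ≠ ⊤ := by
  intro htop
  obtain ⟨a, b, hab⟩ := hna
  obtain ⟨w, hw⟩ : ∃ w, w = u * v := ⟨_, rfl⟩
  have hui : u⁻¹ = u := inv_eq_of_mul_eq_one_right hu
  have hvi : v⁻¹ = v := inv_eq_of_mul_eq_one_right hv
  have hun : u ∈ normalizer (zpowers w : Set X) := by
    refine Subgroup.mem_normalizer_fintype ?_
    intro x hx
    obtain ⟨i, rfl⟩ := hx
    show u * w ^ i * u⁻¹ ∈ zpowers w
    rw [← conj_zpow]
    refine zpow_mem ?_ i
    have : u * w * u⁻¹ = w⁻¹ := by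
      rw [hw, mul_inv_rev, hui, hvi, ← mul_assoc u u v, hu, one_mul]
    rw [this]
    exact inv_mem (mem_zpowers w)
  have hwn : w ∈ normalizer (zpowers w : Set X) := le_normalizer (mem_zpowers w)
  have hnorm : (zpowers w).Normal := by
    refine normalizer_eq_top_iff.1 (top_le_iff.1 (htop ▸ (closure_le _).2 ?_))
    intro x hx
    rcases hx with rfl | hx
    · exact hun
    · rw [Set.mem_singleton_iff] at hx
      subst hx
      have : x = u⁻¹ * w := by rw [hw, inv_mul_cancel_left]
      rw [this]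
      exact mul_mem (inv_mem hun) hwn
  rcases hnorm.eq_bot_or_eq_top with e | e
  · rw [zpowers_eq_bot, hw] at e
    have : v = u := by rw [← hui]; exact (inv_eq_of_mul_eq_one_right e).symm
    subst this
    rw [Set.pair_eq_singleton, ← zpowers_eq_closure] at htop
    obtain ⟨i, rfl⟩ := (htop ▸ mem_top a : a ∈ zpowers v)
    obtain ⟨j, rfl⟩ := (htop ▸ mem_top b : b ∈ zpowers v)
    exact hab ((Commute.refl v).zpow_zpow i j).eq
  · obtain ⟨i, rfl⟩ := (e ▸ mem_top a : a ∈ zpowers w)
    obtain ⟨j, rfl⟩ := (e ▸ mem_top b : b ∈ zpowers w)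
    exact hab ((Commute.refl w).zpow_zpow i j).eq

/-- The situation to be excluded. -/
structure Config (G : Type u) [Group G] (N Q : Subgroup G) (p : ℕ) : Prop where
  hyp : Hyp G
  perfect : commutator G = ⊤
  N_normal : N.Normal
  simple : IsSimpleGroup (G ⧸ N)
  solv : Group.IsSolvable N
  prime : p.Prime
  Q_normal : Q.Normal
  Q_le : Q ≤ N
  pgroup : IsPGroup p Q
  not_le : ¬ Q ≤ center G
  minimal : ∀ M : Subgroup G, M.Normal → M ≤ Q → M ≠ Q → M ≤ center G

namespace Config

variable [Finite G] {N Q : Subgroup G} {p : ℕ} [N.Normal] (c : Config G N Q p)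
include c

theorem comm_mem_center {x y : G} (hx : x ∈ Q) (hy : y ∈ Q) : ⁅x, y⁆ ∈ center G := by
  haveI := c.Q_normal
  haveI := Fact.mk c.prime
  haveI := c.pgroup.isNilpotent
  have hne : ⁅Q, Q⁆ ≠ Q := fun e => c.not_le <| by
    haveI := subsingleton_of_perfect (X := Q) (perfect_subtype e)
    intro q hq
    have : (⟨q, hq⟩ : Q) = 1 := Subsingleton.elim _ _
    rw [show q = 1 from congrArg Subtype.val this]
    exact one_mem _
  exact c.minimal _ inferInstance (Subgroup.commutator_le_self Q) hne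
    (Subgroup.commutator_mem_commutator hx hy)

theorem N_ne_top : N ≠ ⊤ := by
  intro e
  haveI := c.simple
  exact not_subsingleton (G ⧸ N) (QuotientGroup.subsingleton_iff.2 e)

theorem sup_eq_top {M : Subgroup G} (hM : M.Normal) (hMN : ¬ M ≤ N) : M ⊔ N = ⊤ := by
  haveI := c.simple
  haveI := c.N_normal
  haveI := hM
  rcases (hM.map (QuotientGroup.mk' N) (QuotientGroup.mk'_surjective N)).eq_bot_or_eq_top with e | e
  · rw [Subgroup.map_eq_bot_iff, QuotientGroup.ker_mk'] at e
    exact absurd e hMN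
  · have h := congrArg (Subgroup.comap (QuotientGroup.mk' N)) e
    rwa [Subgroup.comap_map_eq, QuotientGroup.ker_mk', Subgroup.comap_top] at h

theorem eq_top_of_not_le {M : Subgroup G} (hM : M.Normal) (hMN : ¬ M ≤ N) : M = ⊤ := by
  haveI := hM
  exact eq_top_of_sup c.perfect c.solv (c.sup_eq_top hM hMN)

theorem centMod_le (g : G) (hg : ∀ q ∈ Q, g * q * g⁻¹ * q⁻¹ ∈ center G) : g ∈ N := by
  haveI := c.Q_normal
  by_contra hgN
  have h := c.eq_top_of_not_le (centMod_normal Q) fun hle => hgN (hle (show g ∈ centMod Q from hg))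
  exact c.not_le (le_center_of_centMod c.perfect h)

theorem cent_le {g : G} (hg : ∀ q ∈ Q, g * q = q * g) : g ∈ N :=
  c.centMod_le g fun q hq => by
    rw [hg q hq, mul_inv_cancel_right, mul_inv_cancel]
    exact one_mem _

theorem noncomm_quotient : ∃ a b : G ⧸ N, a * b ≠ b * a := by
  haveI := c.N_normal
  haveI := c.simple
  by_contra hall
  push Not at hall
  refine c.N_ne_top (eq_top_iff.2 fun g _ => (QuotientGroup.eq_one_iff g).1 ?_)
  exact comm_eq_one_of_hom (QuotientGroup.mk' N) (fun a b => hall _ _) c.perfect g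

theorem even_quotient : 2 ∣ Nat.card (G ⧸ N) := by
  haveI := c.N_normal
  haveI := c.simple
  by_contra hno
  haveI : Group.IsSolvable (G ⧸ N) :=
    Cfsg.Agent.S0205.result (Nat.not_even_iff_odd.1 fun h => hno (even_iff_two_dvd.1 h))
  haveI := subsingleton_of_perfect (X := G ⧸ N)
    (commutator_map_eq _ (QuotientGroup.mk'_surjective N) c.perfect)
  exact not_subsingleton (G ⧸ N) inferInstance

theorem not_cyclic_image (T : Sylow 2 G) (w : G) :
    ¬ ∀ t ∈ (T : Subgroup G), (QuotientGroup.mk t : G ⧸ N) ∈ zpowers (QuotientGroup.mk w : G ⧸ N) := by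
  intro hall
  haveI := c.N_normal
  haveI := c.simple
  haveI : Fact (Nat.Prime 2) := ⟨Nat.prime_two⟩
  obtain ⟨P, hP⟩ : ∃ P : Sylow 2 (G ⧸ N),
      P = Sylow.mapSurjective (QuotientGroup.mk'_surjective N) T := ⟨_, rfl⟩
  have hle : (P : Subgroup (G ⧸ N)) ≤ zpowers (QuotientGroup.mk w : G ⧸ N) := by
    rw [hP]
    rintro x ⟨t, ht, rfl⟩
    exact hall t ht
  have hcyc : IsCyclic ↥(P : Subgroup (G ⧸ N)) :=
    isCyclic_of_injective _ (Subgroup.inclusion_injective hle)
  have hmin : (Nat.card (G ⧸ N)).minFac = 2 := (Nat.minFac_eq_two_iff _).mpr c.even_quotient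
  have hN := IsCyclic.normalizer_le_centralizer hmin hcyc
  have hcomp := MonoidHom.ker_transferSylow_isComplement' P hN
  obtain ⟨a, b, hab⟩ := c.noncomm_quotient
  rcases (MonoidHom.normal_ker (MonoidHom.transferSylow P hN)).eq_bot_or_eq_top with h | h
  · rw [h] at hcomp
    have htop : zpowers (QuotientGroup.mk w : G ⧸ N) = ⊤ :=
      top_le_iff.1 (isComplement'_bot_left.mp hcomp ▸ hle)
    obtain ⟨i, rfl⟩ := (htop ▸ mem_top a : a ∈ zpowers (QuotientGroup.mk w : G ⧸ N))
    obtain ⟨j, rfl⟩ := (htop ▸ mem_top b : b ∈ zpowers (QuotientGroup.mk w : G ⧸ N))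
    exact hab ((Commute.refl (QuotientGroup.mk w : G ⧸ N)).zpow_zpow i j).eq
  · rw [h] at hcomp
    have h1 := P.dvd_card_of_dvd_card c.even_quotient
    rw [isComplement'_top_left.mp hcomp] at h1
    simp at h1

/-- The key use of the CA property: no coprime element outside the centraliser of `Q` fixes a
non-central element of `Q`. -/
theorem fixed_central {H : Subgroup G} (hH : H ≠ ⊤) (hQH : Q ≤ H) {t x : G} (ht : t ∈ H)
    (hx : x ∈ Q) (htx : t * x = x * t) (hcop : (orderOf t).Coprime p)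
    (htQ : ¬ ∀ q ∈ Q, t * q = q * t) : ∀ h ∈ H, h * x = x * h := by
  by_contra hne
  push Not at hne
  obtain ⟨y, hy, hyx⟩ := hne
  refine htQ fun q hq => ?_
  obtain ⟨z, hz, ez⟩ : ∃ z ∈ center G, z = ⁅x, q⁆ := ⟨_, c.comm_mem_center hx hq, rfl⟩
  have hz' := mem_center_iff.1 hz
  obtain ⟨q', hq'⟩ : ∃ q', q' = t * q * t⁻¹ := ⟨_, rfl⟩
  have hq'Q : q' ∈ Q := hq' ▸ c.Q_normal.conj_mem q hq t
  have e1 : x * q = z * (q * x) := by rw [ez, commutatorElement_def]; group
  have e2 : x * q' = z * (q' * x) := by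
    calc x * q' = t * (x * q) * t⁻¹ := by
          rw [hq', ← mul_assoc t x q, htx]; group
      _ = t * (z * (q * x)) * t⁻¹ := by rw [e1]
      _ = z * (t * q * (x * t⁻¹)) := by rw [← mul_assoc t z, hz' t]; group
      _ = z * (q' * x) := by
          rw [hq', ((show Commute t x from htx).inv_left).eq.symm]; group
  have e3 : x * q⁻¹ = z⁻¹ * (q⁻¹ * x) := by
    have e1' : q * x = z⁻¹ * (x * q) := by rw [e1, inv_mul_cancel_left]
    calc x * q⁻¹ = q⁻¹ * (q * x) * q⁻¹ := by group
      _ = q⁻¹ * z⁻¹ * x := by rw [e1']; group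
      _ = z⁻¹ * (q⁻¹ * x) := by rw [mem_center_iff.1 (inv_mem hz) q⁻¹, mul_assoc]
  obtain ⟨d, hd⟩ : ∃ d, d = q⁻¹ * q' := ⟨_, rfl⟩
  have hdQ : d ∈ Q := hd ▸ mul_mem (inv_mem hq) hq'Q
  have hdx : d * x = x * d := by
    calc d * x = z⁻¹ * (z * (q⁻¹ * (q' * x))) := by rw [hd]; group
      _ = z⁻¹ * (q⁻¹ * (z * (q' * x))) := by rw [← mul_assoc z, ← hz' q⁻¹]; group
      _ = z⁻¹ * (q⁻¹ * x) * q' := by rw [← e2]; group
      _ = x * d := by rw [← e3, hd, mul_assoc]
  have htd : t * d = d * t :=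
    c.hyp.comm_of_mem hH (hQH hx) hy hyx ht (hQH hdQ) htx hdx
  have hpow := pow_conj_eq (g := t) (q := q) (c := d) (by rw [hd, hq']; group) htd (orderOf t)
  rw [pow_orderOf_eq_one, one_mul, inv_one, mul_one, eq_comm, mul_eq_left] at hpow
  obtain ⟨k, hk⟩ := c.pgroup ⟨d, hdQ⟩
  have hd1 : d = 1 := eq_one_of_two_pows (hcop.pow_right k) hpow (congrArg Subtype.val hk)
  rw [hd, inv_mul_eq_one] at hd1
  calc t * q = (t * q * t⁻¹) * t := by group
    _ = q * t := by rw [← hq', ← hd1]

theorem two_pow_of_mem {T : Sylow 2 G} {t : G} (ht : t ∈ (T : Subgroup G)) :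
    ∃ k, orderOf t = 2 ^ k := by
  haveI : Fact (Nat.Prime 2) := ⟨Nat.prime_two⟩
  obtain ⟨k, hk⟩ := T.2 ⟨t, ht⟩
  obtain ⟨i, -, hi⟩ := (Nat.dvd_prime_pow Nat.prime_two).1
    (orderOf_dvd_of_pow_eq_one (congrArg Subtype.val hk : t ^ 2 ^ k = 1))
  exact ⟨i, hi⟩

/-- The case of odd `p`. -/
theorem false_of_odd (hT2 : TwoShapeBrick.{u}) (hp2 : p ≠ 2) : False := by
  haveI := c.N_normal
  haveI := c.Q_normal
  haveI := Fact.mk c.prime
  haveI : Fact (Nat.Prime 2) := ⟨Nat.prime_two⟩
  obtain ⟨T⟩ : Nonempty (Sylow 2 G) := inferInstance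
  have hcop : ∀ k : ℕ, (2 ^ k).Coprime p := fun k =>
    Nat.Coprime.pow_left k ((Nat.coprime_primes Nat.prime_two c.prime).2 (Ne.symm hp2))
  have hH : Q ⊔ (T : Subgroup G) ≠ ⊤ := fun e => by
    haveI := T.2.isNilpotent
    have hQ : Q = ⊤ := eq_top_of_sup c.perfect (inferInstanceAs (Group.IsSolvable ↥(T : Subgroup G))) e
    exact c.N_ne_top (top_le_iff.1 (hQ ▸ c.Q_le))
  have hQH : Q ≤ Q ⊔ (T : Subgroup G) := le_sup_left
  have hTH : (T : Subgroup G) ≤ Q ⊔ (T : Subgroup G) := le_sup_right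
  -- two elements of order two modulo the centraliser of `Q` agree modulo it
  have key : ∀ t ∈ (T : Subgroup G), ∀ s ∈ (T : Subgroup G),
      (∀ q ∈ Q, t * t * q = q * (t * t)) → (∀ q ∈ Q, s * s * q = q * (s * s)) →
      (¬ ∀ q ∈ Q, t * q = q * t) → (¬ ∀ q ∈ Q, s * q = q * s) →
      ∀ q ∈ Q, t * s * q = q * (t * s) := by
    intro t ht s hs ht2 hs2 htQ hsQ q hq
    have step : ∀ r ∈ (T : Subgroup G), (∀ v ∈ Q, r * r * v = v * (r * r)) →
        (¬ ∀ v ∈ Q, r * v = v * r) → ∀ v ∈ Q, ∃ a ∈ Q, r * v * r⁻¹ = v⁻¹ * a ∧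
          ∀ w ∈ Q ⊔ (T : Subgroup G), w * a = a * w := by
      intro r hr hr2 hrQ v hv
      obtain ⟨v', hv'⟩ : ∃ v', v' = r * v * r⁻¹ := ⟨_, rfl⟩
      have hv'Q : v' ∈ Q := hv' ▸ c.Q_normal.conj_mem v hv r
      have hrv' : r * v' * r⁻¹ = v := by
        calc r * v' * r⁻¹ = (r * r * v) * (r * r)⁻¹ := by rw [hv']; group
          _ = v := by rw [hr2 v hv, mul_inv_cancel_right]
      have hz := c.comm_mem_center hv hv'Q
      have hconj : ⁅v', v⁆ = ⁅v, v'⁆ := by
        calc ⁅v', v⁆ = r * ⁅v, v'⁆ * r⁻¹ := by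
              rw [commutatorElement_def, commutatorElement_def]
              calc v' * v * v'⁻¹ * v⁻¹
                  = (r * v * r⁻¹) * (r * v' * r⁻¹) * (r * v * r⁻¹)⁻¹ * (r * v' * r⁻¹)⁻¹ := by
                    rw [← hv', hrv']
                _ = r * (v * v' * v⁻¹ * v'⁻¹) * r⁻¹ := by group
          _ = ⁅v, v'⁆ := by rw [mem_center_iff.1 hz r, mul_inv_cancel_right]
      have hone : ⁅v, v'⁆ = 1 := by
        have hsq : ⁅v, v'⁆ ^ 2 = 1 := by
          rw [sq]
          nth_rw 1 [← hconj]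
          rw [← commutatorElement_inv v v', inv_mul_cancel]
        obtain ⟨k, hk⟩ := c.pgroup ⟨⁅v, v'⁆, mul_mem (mul_mem (mul_mem hv hv'Q) (inv_mem hv)) (inv_mem hv'Q)⟩
        have hk' : ⁅v, v'⁆ ^ p ^ k = 1 := congrArg Subtype.val hk
        exact eq_one_of_two_pows (Nat.Coprime.pow_right k
          ((Nat.coprime_primes Nat.prime_two c.prime).2 (Ne.symm hp2))) hsq hk'
      have hcomm : v * v' = v' * v := commutatorElement_eq_one_iff_mul_comm.1 hone
      refine ⟨v * v', mul_mem hv hv'Q, by rw [← hv', inv_mul_cancel_left], ?_⟩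
      obtain ⟨k, hk⟩ := c.two_pow_of_mem hr
      refine c.fixed_central hH hQH (hTH hr) (mul_mem hv hv'Q) ?_ (hk ▸ hcop k) hrQ
      calc r * (v * v') = (r * v * r⁻¹) * (r * v' * r⁻¹) * r := by group
        _ = v * v' * r := by rw [← hv', hrv', hcomm]
    obtain ⟨a, ha, eat, hat⟩ := step t ht ht2 htQ q hq
    obtain ⟨b, hb, ebs, hbs⟩ := step s hs hs2 hsQ q hq
    have e : t * s * q * (t * s)⁻¹ = q * (a⁻¹ * b) := by
      calc t * s * q * (t * s)⁻¹ = t * (s * q * s⁻¹) * t⁻¹ := by group
        _ = (t * q * t⁻¹)⁻¹ * (t * b * t⁻¹) := by rw [ebs]; group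
        _ = a⁻¹ * q * b := by rw [eat, hbs t (hTH ht)]; group
        _ = q * (a⁻¹ * b) := by
            rw [((show Commute q a from hat q (hQH hq)).inv_right).eq.symm, mul_assoc]
    have htsw : t * s * (a⁻¹ * b) = a⁻¹ * b * (t * s) :=
      ((show Commute (t * s) a from hat _ (mul_mem (hTH ht) (hTH hs))).inv_right.mul_right
        (hbs _ (mul_mem (hTH ht) (hTH hs)))).eq
    obtain ⟨k, hk⟩ := c.two_pow_of_mem (mul_mem ht hs)
    have hpow := pow_conj_eq e htsw (orderOf (t * s))
    rw [pow_orderOf_eq_one, one_mul, inv_one, mul_one, eq_comm, mul_eq_left] at hpow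
    obtain ⟨j, hj⟩ := c.pgroup ⟨a⁻¹ * b, mul_mem (inv_mem ha) hb⟩
    have hw : a⁻¹ * b = 1 :=
      eq_one_of_two_pows ((hk ▸ hcop k).pow_right j) hpow (congrArg Subtype.val hj)
    rw [hw, mul_one] at e
    exact mul_inv_eq_iff_eq_mul.1 e
  by_cases hab : IsMulCommutative ↥(T : Subgroup G)
  · -- abelian: the quotient by the centraliser is cyclic
    obtain ⟨C, hC⟩ : ∃ C : Subgroup ↥(T : Subgroup G),
        C = (centralizer (Q : Set G)).subgroupOf (T : Subgroup G) := ⟨_, rfl⟩
    haveI hCn : C.Normal := ⟨fun x hx y => by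
      rw [hab.is_comm.comm y x, mul_inv_cancel_right]; exact hx⟩
    have hmem : ∀ t : ↥(T : Subgroup G), t ∈ C ↔ ∀ q ∈ Q, (t : G) * q = q * t := fun t => by
      rw [hC, Subgroup.mem_subgroupOf, Subgroup.mem_centralizer_iff]
      exact ⟨fun h q hq => (h q hq).symm, fun h q hq => (h q hq).symm⟩
    have hcyc : IsCyclic (↥(T : Subgroup G) ⧸ C) := by
      refine AbelianConj.isCyclic_of_unique (T.2.to_quotient C) (fun u v hu hv => ?_)
        (Or.inr ⟨⟨fun u v => ?_⟩⟩)
      · obtain ⟨a, rfl⟩ := QuotientGroup.mk'_surjective C u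
        obtain ⟨b, rfl⟩ := QuotientGroup.mk'_surjective C v
        have sq : ∀ w : ↥(T : Subgroup G), orderOf (QuotientGroup.mk' C w) = 2 →
            (∀ q ∈ Q, (w : G) * w * q = q * ((w : G) * w)) ∧ ¬ ∀ q ∈ Q, (w : G) * q = q * w := by
          intro w hw
          refine ⟨(hmem (w * w)).1 ?_, fun h => ?_⟩
          · refine (QuotientGroup.eq_one_iff _).1 ?_
            have := pow_orderOf_eq_one (QuotientGroup.mk' C w)
            rwa [hw, sq, QuotientGroup.mk'_apply, ← QuotientGroup.mk_mul] at this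
          · rw [show QuotientGroup.mk' C w = 1 from (QuotientGroup.eq_one_iff w).2 ((hmem w).2 h),
              orderOf_one] at hw
            omega
        have h1 : QuotientGroup.mk' C (a * b) = 1 := (QuotientGroup.eq_one_iff _).2 ((hmem _).2
          (key a a.2 b b.2 (sq a hu).1 (sq b hv).1 (sq a hu).2 (sq b hv).2))
        rw [map_mul, mul_eq_one_iff_eq_inv] at h1
        rw [h1]
        exact inv_mem (mem_zpowers _)
      · obtain ⟨a, rfl⟩ := QuotientGroup.mk'_surjective C u
        obtain ⟨b, rfl⟩ := QuotientGroup.mk'_surjective C v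
        rw [← map_mul, ← map_mul, hab.is_comm.comm]
    obtain ⟨g, hg⟩ := hcyc.exists_generator
    obtain ⟨g0, rfl⟩ := QuotientGroup.mk'_surjective C g
    refine c.not_cyclic_image T (g0 : G) fun t ht => ?_
    obtain ⟨i, hi⟩ := hg (QuotientGroup.mk' C ⟨t, ht⟩)
    refine ⟨i, ?_⟩
    have hd : (g0 ^ i)⁻¹ * ⟨t, ht⟩ ∈ C := by
      refine QuotientGroup.eq.1 ?_
      simpa using hi
    have hdN : ((g0 : G) ^ i)⁻¹ * t ∈ N := c.cent_le (fun q hq => by simpa using (hmem _).1 hd q hq)
    show (QuotientGroup.mk (g0 : G) : G ⧸ N) ^ i = QuotientGroup.mk t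
    rw [← QuotientGroup.mk_zpow]
    exact QuotientGroup.eq.2 hdN
  · -- nonabelian
    have hca : IsCA ↥(T : Subgroup G) := c.hyp.sub_ca _ fun e => hH (by rw [e, sup_top_eq])
    obtain ⟨D, hDsq, hDgen⟩ : ∃ D : Set ↥(T : Subgroup G),
        (∀ t ∈ D, t * t ∈ center ↥(T : Subgroup G)) ∧ closure D = ⊤ := by
      rcases hT2 _ T.2 hca hab with h1 | ⟨A, hA2, -, hAab, -⟩
      · exact ⟨Set.univ, fun t _ => h1 t, by rw [Subgroup.closure_univ]⟩
      · refine ⟨{t | t ∉ A}, fun s hs => mem_center_iff.2 fun t => ?_, ?_⟩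
        · by_cases ht : t ∈ A
          · exact hAab t ht _ (by rw [← pow_two]; exact Subgroup.sq_mem_of_index_two hA2 s)
          · have hm : t * s ∈ A := (Subgroup.mul_mem_iff_of_index_two hA2).2 (iff_of_false ht hs)
            have h1 := hAab _ hm _ (show s * s ∈ A by rw [← pow_two]; exact Subgroup.sq_mem_of_index_two hA2 s)
            calc t * (s * s) = t * s * (s * s) * s⁻¹ := by group
              _ = s * s * (t * s) * s⁻¹ := by rw [h1]
              _ = s * s * t := by group
        · obtain ⟨s, hs⟩ : ∃ s : ↥(T : Subgroup G), s ∉ A := by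
            by_contra hall
            push Not at hall
            have e : A = ⊤ := eq_top_iff.2 fun x _ => hall x
            rw [e] at hA2
            simp at hA2
          refine eq_top_iff.2 fun t _ => ?_
          by_cases ht : t ∈ A
          · have h1 : t * s ∉ A := fun h => hs (by simpa using mul_mem (inv_mem ht) h)
            simpa using mul_mem (subset_closure (show t * s ∈ {t | t ∉ A} from h1))
              (inv_mem (subset_closure (show s ∈ {t | t ∉ A} from hs)))
          · exact subset_closure ht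
    by_cases hall : ∀ t ∈ D, ∀ q ∈ Q, (t : G) * t * q = q * ((t : G) * t)
    · have hw : ∃ w : G, ∀ t ∈ D, (QuotientGroup.mk (t : G) : G ⧸ N) ∈
          zpowers (QuotientGroup.mk w : G ⧸ N) := by
        by_cases hne : ∃ t ∈ D, ¬ ∀ q ∈ Q, (t : G) * q = q * t
        · obtain ⟨t0, ht0, ht0Q⟩ := hne
          refine ⟨(t0 : G), fun t ht => ?_⟩
          by_cases htQ : ∀ q ∈ Q, (t : G) * q = q * t
          · rw [(QuotientGroup.eq_one_iff (t : G)).2 (c.cent_le htQ)]
            exact one_mem _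
          · have h1 := c.cent_le (key t t.2 t0 t0.2 (hall t ht) (hall t0 ht0) htQ ht0Q)
            rw [← QuotientGroup.eq_one_iff, QuotientGroup.mk_mul, mul_eq_one_iff_eq_inv] at h1
            rw [h1]
            exact inv_mem (mem_zpowers _)
        · push Not at hne
          refine ⟨1, fun t ht => ?_⟩
          rw [(QuotientGroup.eq_one_iff (t : G)).2 (c.cent_le (hne t ht))]
          exact one_mem _
      obtain ⟨w, hw⟩ := hw
      refine c.not_cyclic_image T w fun t ht => ?_
      have hm : (⟨t, ht⟩ : ↥(T : Subgroup G)) ∈ (zpowers (QuotientGroup.mk w : G ⧸ N)).comap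
          ((QuotientGroup.mk' N).comp (T : Subgroup G).subtype) :=
        (closure_le ((zpowers (QuotientGroup.mk w : G ⧸ N)).comap
            ((QuotientGroup.mk' N).comp (T : Subgroup G).subtype))).2 hw (hDgen ▸ mem_top _)
      exact hm
    · push Not at hall
      obtain ⟨t, ht, q, hq, hne⟩ := hall
      obtain ⟨a, b, hne'⟩ : ∃ a b : ↥(T : Subgroup G), a * b ≠ b * a := by
        by_contra hc
        push Not at hc
        exact hab ⟨⟨hc⟩⟩
      have hz := mem_center_iff.1 (hDsq t ht)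
      exact hne (c.hyp.central_of_commutes hH (hTH (mul_mem t.2 t.2)) (hTH a.2) (hTH b.2)
        (congrArg Subtype.val (hz a)) (congrArg Subtype.val (hz b))
        (fun e => hne' (Subtype.ext e)) q (hQH hq)).symm

theorem le_sylow (hp2 : p = 2) (S : Sylow 2 G) : Q ≤ (S : Subgroup G) := by
  haveI := c.Q_normal
  subst hp2
  have h := S.is_maximal' (IsPGroup.to_sup_of_normal_left c.pgroup S.2) le_sup_right
  exact le_sup_left.trans h.le

/-- A 2-element outside `N` whose square is in `N`. -/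
theorem exists_invol : ∃ u : G, u ∉ N ∧ u * u ∈ N ∧ ∃ k, orderOf u = 2 ^ k := by
  haveI := c.N_normal
  haveI : Fact (Nat.Prime 2) := ⟨Nat.prime_two⟩
  obtain ⟨x, hx⟩ := exists_prime_orderOf_dvd_card' (G := G ⧸ N) 2 c.even_quotient
  obtain ⟨g, rfl⟩ := QuotientGroup.mk'_surjective N x
  obtain ⟨k, m, hm, hkm⟩ := Nat.exists_eq_pow_mul_and_not_dvd (orderOf_pos g).ne' 2 (by norm_num)
  obtain ⟨i, rfl⟩ : Odd m := Nat.not_even_iff_odd.1 fun h => hm (even_iff_two_dvd.1 h)
  have hsq : QuotientGroup.mk' N g * QuotientGroup.mk' N g = 1 := by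
    rw [← pow_two, ← hx, pow_orderOf_eq_one]
  have he : QuotientGroup.mk' N (g ^ (2 * i + 1)) = QuotientGroup.mk' N g := by
    rw [map_pow, pow_succ, pow_mul, pow_two, hsq, one_pow, one_mul]
  refine ⟨g ^ (2 * i + 1), fun h => ?_, ?_, k, ?_⟩
  · have h1 : QuotientGroup.mk' N (g ^ (2 * i + 1)) = 1 := (QuotientGroup.eq_one_iff _).2 h
    rw [he] at h1
    rw [h1, orderOf_one] at hx
    omega
  · refine (QuotientGroup.eq_one_iff _).1 ?_
    show QuotientGroup.mk' N (g ^ (2 * i + 1) * g ^ (2 * i + 1)) = 1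
    rw [map_mul, he, hsq]
  · rw [orderOf_pow' _ (by omega), hkm, Nat.gcd_eq_right (dvd_mul_left _ _),
      Nat.mul_div_cancel _ (by omega)]

theorem false_of_two_abelian (hp2 : p = 2) (hQ : ∀ x ∈ Q, ∀ y ∈ Q, x * y = y * x) : False := by
  haveI := c.N_normal
  haveI := c.Q_normal
  haveI := c.simple
  haveI : Fact (Nat.Prime 2) := ⟨Nat.prime_two⟩
  obtain ⟨U, hU⟩ : ∃ U : Set G, U = {u | u ∉ N ∧ u * u ∈ N ∧ ∃ k, orderOf u = 2 ^ k} := ⟨_, rfl⟩
  have hconj : ∀ u ∈ U, ∀ g : G, g * u * g⁻¹ ∈ U := by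
    rw [hU]
    rintro u ⟨h1, h2, k, h3⟩ g
    refine ⟨fun h => h1 ?_, ?_, k, ?_⟩
    · have := c.N_normal.conj_mem' _ h g
      rwa [show g⁻¹ * (g * u * g⁻¹) * g = u by group] at this
    · rw [show g * u * g⁻¹ * (g * u * g⁻¹) = g * (u * u) * g⁻¹ by group]
      exact c.N_normal.conj_mem _ h2 g
    · rw [show g * u * g⁻¹ = MulAut.conj g u from rfl, MulEquiv.orderOf_eq, h3]
  obtain ⟨u, hu⟩ := c.exists_invol
  have huU : u ∈ U := hU ▸ hu
  -- fixed elements are central
  have hfix : ∀ x ∈ Q, u * x = x * u → x ∈ center G := by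
    intro x hx hux
    have hM : (closure U).Normal := ⟨fun m hm g => by
      have hle : closure U ≤ (closure U).comap (MulAut.conj g).toMonoidHom :=
        (closure_le _).2 fun v hv => subset_closure (hconj v hv g)
      exact hle hm⟩
    have htop := c.eq_top_of_not_le hM fun hle => hu.1 (hle (subset_closure huU))
    refine mem_center_iff.2 fun g => ?_
    refine mem_centralizer_singleton_iff.1
      ((closure_le (centralizer ({x} : Set G))).2 ?_ (htop ▸ mem_top g : g ∈ closure U))
    intro v hv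
    refine mem_centralizer_singleton_iff.2 ?_
    rw [hU] at hv
    have hH : Q ⊔ closure {u, v} ≠ ⊤ := by
      intro e
      have h1 := congrArg (Subgroup.map (QuotientGroup.mk' N)) e
      rw [Subgroup.map_sup, (Subgroup.map_eq_bot_iff _).2 (by rw [QuotientGroup.ker_mk']; exact c.Q_le),
        bot_sup_eq, MonoidHom.map_closure, Set.image_pair,
        Subgroup.map_top_of_surjective _ (QuotientGroup.mk'_surjective N)] at h1
      exact closure_image_ne_top c.noncomm_quotient
        (by rw [← map_mul]; exact (QuotientGroup.eq_one_iff _).2 hu.2.1)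
        (by rw [← map_mul]; exact (QuotientGroup.eq_one_iff _).2 hv.2.1) h1
    have hQH : Q ≤ Q ⊔ closure {u, v} := le_sup_left
    have hin : ∀ w ∈ ({u, v} : Set G), w ∈ Q ⊔ closure {u, v} := fun w hw =>
      (le_sup_right : closure {u, v} ≤ Q ⊔ closure {u, v}) (subset_closure hw)
    by_contra hvx
    exact hu.1 (c.cent_le fun q hq => c.hyp.comm_of_mem hH (hQH hx) (hin v (by simp)) hvx
      (hin u (by simp)) (hQH hq) hux (hQ q hq x hx))
  -- the squares are central
  have hsq : ∀ q ∈ Q, q * q ∈ center G := by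
    let Q2 : Subgroup G :=
      { carrier := {g | ∃ q ∈ Q, q * q = g}
        one_mem' := ⟨1, one_mem _, one_mul 1⟩
        mul_mem' := by
          rintro a b ⟨x, hx, rfl⟩ ⟨y, hy, rfl⟩
          refine ⟨x * y, mul_mem hx hy, ?_⟩
          rw [mul_assoc x, ← mul_assoc y x, ← hQ x hx y hy]
          group
        inv_mem' := by
          rintro a ⟨x, hx, rfl⟩
          exact ⟨x⁻¹, inv_mem hx, by group⟩ }
    have hn : Q2.Normal := by
      refine ⟨?_⟩
      rintro a ⟨x, hx, rfl⟩ g
      exact ⟨g * x * g⁻¹, c.Q_normal.conj_mem x hx g, by group⟩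
    have hle : Q2 ≤ Q := by
      rintro a ⟨x, hx, rfl⟩
      exact mul_mem hx hx
    have hne : Q2 ≠ Q := by
      intro e
      have hsurj : Function.Surjective (fun x : Q => x * x) := fun y => by
        obtain ⟨x, hx, hxy⟩ := (e.symm ▸ y.2 : (y : G) ∈ Q2)
        exact ⟨⟨x, hx⟩, Subtype.ext hxy⟩
      have hinj := Finite.injective_iff_surjective.2 hsurj
      refine c.not_le fun q hq => ?_
      obtain ⟨k, hk⟩ := (hp2 ▸ c.pgroup : IsPGroup 2 Q) ⟨q, hq⟩
      have hone : ∀ (j : ℕ) (x : Q), x ^ 2 ^ j = 1 → x = 1 := by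
        intro j
        induction j with
        | zero => intro x hx; simpa using hx
        | succ j ih =>
          intro x hx
          have h1 : x * x = 1 := ih (x * x) (by rwa [← pow_two, ← pow_mul, ← pow_succ'])
          exact hinj (show x * x = 1 * 1 by rw [h1, one_mul])
      rw [show q = 1 from congrArg Subtype.val (hone k _ hk)]
      exact one_mem _
    exact fun q hq => c.minimal Q2 hn hle hne ⟨q, hq, rfl⟩
  -- an element fixed modulo the centre
  obtain ⟨k, hk⟩ := hu.2.2
  obtain ⟨S, hS⟩ := (IsPGroup.of_card (p := 2) (n := k) (G := zpowers u)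
    (by rw [Nat.card_zpowers, hk])).exists_le_sylow
  have huS : u ∈ (S : Subgroup G) := hS (mem_zpowers u)
  have hQS := c.le_sylow hp2 S
  obtain ⟨b, hb, hbc, hbu⟩ : ∃ b ∈ Q, b ∉ center G ∧ u * b * u⁻¹ * b⁻¹ ∈ center G := by
    haveI := S.2.isNilpotent
    obtain ⟨C, hC⟩ : ∃ C : Subgroup ↥(S : Subgroup G), C = (center G).subgroupOf (S : Subgroup G) :=
      ⟨_, rfl⟩
    haveI : C.Normal := hC ▸ Subgroup.normal_subgroupOf
    haveI : (Q.subgroupOf (S : Subgroup G)).Normal := Subgroup.normal_subgroupOf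
    haveI : ((Q.subgroupOf (S : Subgroup G)).map (QuotientGroup.mk' C)).Normal :=
      (inferInstance : (Q.subgroupOf (S : Subgroup G)).Normal).map _ (QuotientGroup.mk'_surjective C)
    have hne : (Q.subgroupOf (S : Subgroup G)).map (QuotientGroup.mk' C) ≠ ⊥ := by
      intro e
      rw [Subgroup.map_eq_bot_iff, QuotientGroup.ker_mk'] at e
      refine c.not_le fun q hq => ?_
      have := e (show (⟨q, hQS hq⟩ : ↥(S : Subgroup G)) ∈ Q.subgroupOf (S : Subgroup G) from hq)
      rwa [hC] at this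
    obtain ⟨⟨x, hx⟩, hx'⟩ := Subgroup.ne_bot_iff_exists_ne_one.1 (Nilp.inf_center_ne_bot_of_normal hne)
    have hx1 : x ≠ 1 := fun e => hx' (Subtype.ext e)
    obtain ⟨b, hbQ, rfl⟩ := hx.1
    refine ⟨b, hbQ, fun h => hx1 ((QuotientGroup.eq_one_iff b).2 (by rw [hC]; exact h)), ?_⟩
    have h1 := mem_center_iff.1 hx.2 (QuotientGroup.mk' C ⟨u, huS⟩)
    have h2 : (⟨u, huS⟩ * b * (⟨u, huS⟩)⁻¹ * b⁻¹ : ↥(S : Subgroup G)) ∈ C := by
      refine (QuotientGroup.eq_one_iff _).1 ?_
      show QuotientGroup.mk' C _ = 1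
      rw [map_mul, map_mul, map_mul, map_inv, map_inv, h1, mul_inv_cancel_right, mul_inv_cancel]
    rw [hC] at h2
    exact h2
  obtain ⟨z, hz, ez⟩ : ∃ z ∈ center G, z = u * b * u⁻¹ * b⁻¹ := ⟨_, hbu, rfl⟩
  have hz' := mem_center_iff.1 hz
  have hub : u * b * u⁻¹ = z * b := by rw [ez]; group
  have hz2 : z * z = 1 := by
    have h1 : u * (b * b) * u⁻¹ = b * b := by
      rw [mem_center_iff.1 (hsq b hb) u, mul_inv_cancel_right]
    have h2 : u * (b * b) * u⁻¹ = z * z * (b * b) := by
      calc u * (b * b) * u⁻¹ = (u * b * u⁻¹) * (u * b * u⁻¹) := by group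
        _ = z * (b * z) * b := by rw [hub]; group
        _ = z * z * (b * b) := by rw [hz' b]; group
    exact mul_eq_right.1 (h2.symm.trans h1)
  have hb2 : u * u * b = b * (u * u) := by
    calc u * u * b = u * (u * b * u⁻¹) * u := by group
      _ = (u * z) * b * u := by rw [hub]; group
      _ = z * (u * b * u⁻¹) * u * u := by rw [hz' u]; group
      _ = z * z * b * (u * u) := by rw [hub]; group
      _ = b * (u * u) := by rw [hz2, one_mul]
  have hH : Q ⊔ zpowers u ≠ ⊤ := fun e => by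
    have hQ' : Q = ⊤ := eq_top_of_sup c.perfect inferInstance e
    exact c.N_ne_top (top_le_iff.1 (hQ' ▸ c.Q_le))
  have huH : u ∈ Q ⊔ zpowers u :=
    (le_sup_right : zpowers u ≤ Q ⊔ zpowers u) (mem_zpowers u)
  have hQH : Q ≤ Q ⊔ zpowers u := le_sup_left
  have hu2Q : ∀ q ∈ Q, u * u * q = q * (u * u) := fun q hq =>
    c.hyp.comm_of_mem hH (hQH hb) huH (fun e => hbc (hfix b hb e)) (mul_mem huH huH) (hQH hq)
      hb2 (hQ q hq b hb)
  refine hu.1 (c.centMod_le u fun q hq => ?_)
  obtain ⟨q', hq'⟩ : ∃ q', q' = u * q * u⁻¹ := ⟨_, rfl⟩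
  have hq'Q : q' ∈ Q := hq' ▸ c.Q_normal.conj_mem q hq u
  have huq' : u * q' * u⁻¹ = q := by
    calc u * q' * u⁻¹ = u * u * q * (u * u)⁻¹ := by rw [hq']; group
      _ = q := by rw [hu2Q q hq, mul_inv_cancel_right]
  have hcq : q * q' ∈ center G := hfix _ (mul_mem hq hq'Q) (by
    calc u * (q * q') = (u * q * u⁻¹) * (u * q' * u⁻¹) * u := by group
      _ = q * q' * u := by rw [← hq', huq', hQ q' hq'Q q hq])
  rw [← hq']
  have e : q' * q⁻¹ = q * q' * (q * q)⁻¹ := by
    rw [hQ q hq q' hq'Q]; group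
  rw [e]
  exact mul_mem hcq (inv_mem (hsq q hq))

theorem false_of_two_nonabelian (hT2 : TwoShapeBrick.{u}) (hp2 : p = 2)
    (hQ : ¬ ∀ x ∈ Q, ∀ y ∈ Q, x * y = y * x) : False := by
  haveI := c.N_normal
  haveI := c.Q_normal
  haveI := c.simple
  haveI : Fact (Nat.Prime 2) := ⟨Nat.prime_two⟩
  push Not at hQ
  obtain ⟨a₀, ha₀, b₀, hb₀, hne⟩ := hQ
  -- the centre of `Q` is central
  have hZQ : ∀ z ∈ Q, (∀ q ∈ Q, q * z = z * q) → z ∈ center G := by
    intro z hz hzc
    let ZQ : Subgroup G := Q ⊓ centralizer (Q : Set G)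
    have hn : ZQ.Normal := ⟨fun x hx g => ⟨c.Q_normal.conj_mem x hx.1 g,
      Subgroup.mem_centralizer_iff.2 fun q hq => by
        have h := Subgroup.mem_centralizer_iff.1 hx.2 _ (c.Q_normal.conj_mem' q hq g)
        calc q * (g * x * g⁻¹) = g * (g⁻¹ * q * g * x) * g⁻¹ := by group
          _ = g * (x * (g⁻¹ * q * g)) * g⁻¹ := by rw [h]
          _ = g * x * g⁻¹ * q := by group⟩⟩
    have hne' : ZQ ≠ Q := fun e => hne
      (Subgroup.mem_centralizer_iff.1 ((e.symm ▸ hb₀ : b₀ ∈ ZQ)).2 a₀ ha₀)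
    exact c.minimal ZQ hn inf_le_left hne' ⟨hz, Subgroup.mem_centralizer_iff.2 hzc⟩
  obtain ⟨S⟩ : Nonempty (Sylow 2 G) := inferInstance
  have hQS := c.le_sylow hp2 S
  have hStop : (S : Subgroup G) ≠ ⊤ := fun e => c.hyp.not_solvable <| by
    haveI := S.2.isNilpotent
    exact Group.isSolvable_of_surjective (f := (S : Subgroup G).subtype)
      (fun x => ⟨⟨x, e ▸ mem_top x⟩, rfl⟩)
  have hna : ¬ IsMulCommutative ↥(S : Subgroup G) := fun h =>
    hne (congrArg Subtype.val (h.is_comm.comm (⟨a₀, hQS ha₀⟩ : ↥(S : Subgroup G)) ⟨b₀, hQS hb₀⟩))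
  rcases hT2 _ S.2 (c.hyp.sub_ca _ hStop) hna with hsq | ⟨A, hA2, -, hAab, -⟩
  · -- all squares central: `S` centralises `Q` modulo the centre
    have hSN : ∀ s ∈ (S : Subgroup G), s ∈ N := by
      intro s hs
      refine c.centMod_le s fun q hq => ?_
      obtain ⟨s', hs'⟩ : ∃ s' : ↥(S : Subgroup G), s' = ⟨s, hs⟩ := ⟨_, rfl⟩
      obtain ⟨q', hq'⟩ : ∃ q' : ↥(S : Subgroup G), q' = ⟨q, hQS hq⟩ := ⟨_, rfl⟩
      have hm : s' * q' * s'⁻¹ * q'⁻¹ ∈ center ↥(S : Subgroup G) := by
        have e : s' * q' * s'⁻¹ * q'⁻¹ =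
            (s' * q' * (s' * q')) * (q'⁻¹ * (s'⁻¹ * s'⁻¹) * q') * (q'⁻¹ * q'⁻¹) := by group
        rw [e]
        refine mul_mem (mul_mem (hsq _) ?_) (hsq _)
        have h := (inferInstance : (center ↥(S : Subgroup G)).Normal).conj_mem' _ (hsq s'⁻¹) q'
        exact h
      have hQm : s * q * s⁻¹ * q⁻¹ ∈ Q := mul_mem (c.Q_normal.conj_mem q hq s) (inv_mem hq)
      refine hZQ _ hQm fun r hr => ?_
      have := congrArg Subtype.val (mem_center_iff.1 hm ⟨r, hQS hr⟩)
      rw [hs', hq'] at this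
      exact this
    exact c.not_cyclic_image S 1 fun t ht => by
      rw [(QuotientGroup.eq_one_iff t).2 (hSN t ht)]; exact one_mem _
  · -- an abelian subgroup of index two
    let L : Subgroup G := Q ⊓ A.map (S : Subgroup G).subtype
    have hLab : ∀ x ∈ L, ∀ y ∈ L, x * y = y * x := by
      rintro x ⟨-, x', hx', rfl⟩ y ⟨-, y', hy', rfl⟩
      exact congrArg Subtype.val (hAab x' hx' y' hy')
    have h2 : ∀ x ∈ Q, ∀ y ∈ Q, x ∉ L → y ∉ L → x⁻¹ * y ∈ L := by
      intro x hx y hy hxL hyL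
      refine ⟨Q.mul_mem (Q.inv_mem hx) hy, (⟨x, hQS hx⟩ : ↥(S : Subgroup G))⁻¹ * ⟨y, hQS hy⟩, ?_, rfl⟩
      exact (Subgroup.mul_mem_iff_of_index_two hA2).2 (iff_of_false
        (fun h => hxL ⟨hx, ⟨x, hQS hx⟩, inv_mem_iff.1 h, rfl⟩)
        (fun h => hyL ⟨hy, ⟨y, hQS hy⟩, h, rfl⟩))
    have hLle : L ≤ Q := inf_le_left
    obtain ⟨g, l₁, hl₁, hgl⟩ : ∃ g l : G, l ∈ L ∧ g * l * g⁻¹ ∉ L := by
      by_contra hall
      push Not at hall
      have hn : L.Normal := ⟨fun l hl g => hall g l hl⟩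
      have hneq : L ≠ Q := fun e => hne (hLab a₀ (e.symm ▸ ha₀) b₀ (e.symm ▸ hb₀))
      have hLc := c.minimal L hn hLle hneq
      refine hne ?_
      by_cases ha : a₀ ∈ L
      · exact (mem_center_iff.1 (hLc ha) b₀).symm
      · by_cases hb : b₀ ∈ L
        · exact mem_center_iff.1 (hLc hb) a₀
        · have h := mem_center_iff.1 (hLc (h2 a₀ ha₀ b₀ hb₀ ha hb)) a₀
          calc a₀ * b₀ = a₀ * (a₀ * (a₀⁻¹ * b₀)) := by group
            _ = a₀ * ((a₀⁻¹ * b₀) * a₀) := by rw [h]
            _ = b₀ * a₀ := by group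
    have hgl' : g * l₁ * g⁻¹ ∈ Q := c.Q_normal.conj_mem _ (hLle hl₁) g
    -- `Q` has at most four classes modulo its centre
    have hcen : ∀ x ∈ Q, x ∈ L → g⁻¹ * x * g ∈ L → ∀ y ∈ Q, y * x = x * y := by
      intro x hxQ hx hgx
      have hl : g * l₁ * g⁻¹ * x = x * (g * l₁ * g⁻¹) := by
        calc g * l₁ * g⁻¹ * x = g * (l₁ * (g⁻¹ * x * g)) * g⁻¹ := by group
          _ = g * (g⁻¹ * x * g * l₁) * g⁻¹ := by rw [hLab _ hl₁ _ hgx]
          _ = x * (g * l₁ * g⁻¹) := by group
      intro y hy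
      by_cases hyL : y ∈ L
      · exact hLab y hyL x hx
      · have h := hLab _ (h2 _ hgl' y hy hgl hyL) x hx
        calc y * x = g * l₁ * g⁻¹ * ((g * l₁ * g⁻¹)⁻¹ * y * x) := by group
          _ = (g * l₁ * g⁻¹ * x) * ((g * l₁ * g⁻¹)⁻¹ * y) := by rw [h]; group
          _ = x * y := by rw [hl]; group
    classical
    let f : ↥Q → Bool × Bool := fun x => (decide ((x : G) ∈ L), decide (g⁻¹ * (x : G) * g ∈ L))
    have hf : ∀ x y : ↥Q, f x = f y → x⁻¹ * y ∈ center ↥Q := by
      intro x y hxy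
      simp only [f, Prod.mk.injEq, decide_eq_decide] at hxy
      have both : ∀ a ∈ Q, ∀ b ∈ Q, (a ∈ L ↔ b ∈ L) → a⁻¹ * b ∈ L := by
        intro a ha b hb hab
        by_cases h : a ∈ L
        · exact mul_mem (inv_mem h) (hab.1 h)
        · exact h2 a ha b hb h fun h' => h (hab.2 h')
      refine mem_center_iff.2 fun r => Subtype.ext ?_
      refine hcen _ (mul_mem (inv_mem x.2) y.2) (both _ x.2 _ y.2 hxy.1) ?_ (r : G) r.2
      have h := both _ (c.Q_normal.conj_mem' _ x.2 g) _ (c.Q_normal.conj_mem' _ y.2 g) hxy.2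
      have e : g⁻¹ * ((x : G)⁻¹ * (y : G)) * g = (g⁻¹ * x * g)⁻¹ * (g⁻¹ * y * g) := by group
      show g⁻¹ * ((x : G)⁻¹ * (y : G)) * g ∈ L
      rw [e]
      exact h
    have hV : Nat.card (↥Q ⧸ center ↥Q) ≤ 4 := by
      refine (Nat.card_le_card_of_injective (fun v => f v.out) fun a b hab => ?_).trans
        (le_of_eq (by simp))
      rw [← QuotientGroup.out_eq' a, ← QuotientGroup.out_eq' b]
      exact QuotientGroup.eq.2 (hf _ _ hab)
    let φ : G → (↥Q ⧸ center ↥Q ≃* ↥Q ⧸ center ↥Q) := fun x =>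
      QuotientGroup.congr (center ↥Q) (center ↥Q) (MulAut.conjNormal x)
        (Subgroup.characteristic_iff_map_eq.1 inferInstance _)
    let X : Type u := {v : ↥Q ⧸ center ↥Q // v ≠ 1}
    let π : G →* Equiv.Perm X :=
      MonoidHom.mk' (fun x => (φ x).toEquiv.subtypeEquiv fun v => ((φ x).map_ne_one_iff).symm)
        (fun x y => Equiv.ext fun v => Subtype.ext (by
          obtain ⟨q, hq⟩ := QuotientGroup.mk'_surjective (center ↥Q) v.1
          show φ (x * y) v.1 = φ x (φ y v.1)
          rw [← hq]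
          show (QuotientGroup.mk (MulAut.conjNormal (x * y) q) : ↥Q ⧸ center ↥Q) = _
          rw [map_mul]
          rfl))
    haveI : Fintype (↥Q ⧸ center ↥Q) := Fintype.ofFinite _
    have hX : Fintype.card X ≤ 3 := by
      have := Fintype.card_subtype_lt (p := fun v : ↥Q ⧸ center ↥Q => v ≠ 1) (x := 1) (by simp)
      rw [Nat.card_eq_fintype_card] at hV
      show Fintype.card {v : ↥Q ⧸ center ↥Q // v ≠ 1} ≤ 3
      omega
    have hsign : ∀ x, Equiv.Perm.sign (π x) = 1 := fun x =>
      comm_eq_one_of_hom (Equiv.Perm.sign.comp π) (fun a b => mul_comm _ _) c.perfect x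
    have hcardA : Nat.card (alternatingGroup X) ≤ 3 := by
      rcases le_or_gt (Fintype.card X) 1 with h | h
      · haveI : Subsingleton X := Fintype.card_le_one_iff_subsingleton.1 h
        haveI : Subsingleton (alternatingGroup X) :=
          ⟨fun a b => Subtype.ext (Subsingleton.elim _ _)⟩
        rw [Nat.card_unique]
        norm_num
      · haveI : Nontrivial X := Fintype.one_lt_card_iff_nontrivial.1 h
        have h2 := two_mul_card_alternatingGroup (α := X)
        rw [Fintype.card_perm] at h2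
        rw [Nat.card_eq_fintype_card]
        have : (Fintype.card X).factorial ≤ 6 :=
          (Nat.factorial_le hX).trans (by decide)
        omega
    have hcomm : ∀ a b : alternatingGroup X, a * b = b * a := by
      intro a b
      have hpos : 0 < Nat.card (alternatingGroup X) := Nat.card_pos
      have hcyc : IsCyclic (alternatingGroup X) := by
        rcases (show Nat.card (alternatingGroup X) = 1 ∨ Nat.card (alternatingGroup X) = 2 ∨
          Nat.card (alternatingGroup X) = 3 by omega) with h | h | h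
        · haveI := (Nat.card_eq_one_iff_unique.1 h).1; infer_instance
        · exact isCyclic_of_prime_card h
        · haveI : Fact (Nat.Prime 3) := ⟨Nat.prime_three⟩; exact isCyclic_of_prime_card h
      obtain ⟨w, hw⟩ := hcyc.exists_generator
      obtain ⟨i, rfl⟩ := hw a
      obtain ⟨j, rfl⟩ := hw b
      exact ((Commute.refl w).zpow_zpow i j).eq
    have hπ : ∀ x, π x = 1 := fun x => by
      have h := comm_eq_one_of_hom (π.codRestrict (alternatingGroup X) fun y => hsign y)
        (fun a b => hcomm _ _) c.perfect x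
      exact congrArg Subtype.val h
    refine c.not_le (le_center_of_centMod c.perfect (eq_top_iff.2 fun x _ => ?_))
    intro q hq
    refine hZQ _ (mul_mem (c.Q_normal.conj_mem q hq x) (inv_mem hq)) fun r hr => ?_
    have hm : MulAut.conjNormal x ⟨q, hq⟩ * (⟨q, hq⟩ : ↥Q)⁻¹ ∈ center ↥Q := by
      refine (QuotientGroup.eq_one_iff _).1 ?_
      rw [QuotientGroup.mk_mul, QuotientGroup.mk_inv, mul_inv_eq_one]
      by_cases h1 : (QuotientGroup.mk (⟨q, hq⟩ : ↥Q) : ↥Q ⧸ center ↥Q) = 1
      · rw [h1, QuotientGroup.eq_one_iff]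
        rw [QuotientGroup.eq_one_iff] at h1
        exact Subgroup.characteristic_iff_le_comap.1 inferInstance (MulAut.conjNormal x) h1
      · exact congrArg Subtype.val (DFunLike.congr_fun (hπ x) (⟨_, h1⟩ : X))
    have h := congrArg Subtype.val (mem_center_iff.1 hm ⟨r, hr⟩)
    simpa [MulAut.conjNormal_apply] using h

theorem false_of_two (hT2 : TwoShapeBrick.{u}) (hp2 : p = 2) : False := by
  by_cases hQ : ∀ x ∈ Q, ∀ y ∈ Q, x * y = y * x
  · exact c.false_of_two_abelian hp2 hQ
  · exact c.false_of_two_nonabelian hT2 hp2 hQ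

theorem impossible (hT2 : TwoShapeBrick.{u}) : False := by
  by_cases hp2 : p = 2
  · exact c.false_of_two hT2 hp2
  · exact c.false_of_odd hT2 hp2

end Config

/-- A non-central solvable normal subgroup contains a non-central normal subgroup with central
derived subgroup. -/
theorem exists_classTwo [Finite G] (M : Subgroup G) (hM : M.Normal) (hs : Group.IsSolvable M)
    (hMc : ¬ M ≤ center G) :
    ∃ A : Subgroup G, A.Normal ∧ A ≤ M ∧ ¬ A ≤ center G ∧ ⁅A, A⁆ ≤ center G := by
  induction M using WellFoundedLT.induction with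
  | _ M ih =>
    haveI := hM
    by_cases hd : ⁅M, M⁆ ≤ center G
    · exact ⟨M, hM, le_rfl, hMc, hd⟩
    · have hne : ⁅M, M⁆ ≠ M := fun e => by
        haveI := subsingleton_of_perfect (X := M) (perfect_subtype e)
        refine hMc fun q hq => ?_
        rw [show q = 1 from congrArg Subtype.val (Subsingleton.elim (⟨q, hq⟩ : M) 1)]
        exact one_mem _
      have hlt := lt_of_le_of_ne (Subgroup.commutator_le_self M) hne
      obtain ⟨A, hA, hAM, h⟩ := ih _ hlt inferInstance
        (Group.isSolvable_of_isSolvable_injective (Subgroup.inclusion_injective hlt.le)) hd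
      exact ⟨A, hA, hAM.trans hlt.le, h⟩

/-- A non-central solvable normal subgroup contains a non-central normal `p`-subgroup. -/
theorem exists_pgroup [Finite G] {M : Subgroup G} (hM : M.Normal) (hs : Group.IsSolvable M)
    (hMc : ¬ M ≤ center G) :
    ∃ (p : ℕ) (Q : Subgroup G), p.Prime ∧ Q.Normal ∧ Q ≤ M ∧ IsPGroup p Q ∧ ¬ Q ≤ center G := by
  obtain ⟨A, hA, hAM, hAc, hA'⟩ := exists_classTwo M hM hs hMc
  haveI := hA
  obtain ⟨C, hC⟩ : ∃ C : Subgroup A, C = (center G).subgroupOf A := ⟨_, rfl⟩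
  haveI : C.Normal := hC ▸ Subgroup.normal_subgroupOf
  have hcomm : IsMulCommutative (A ⧸ C) := ⟨⟨fun x y => by
    obtain ⟨a, rfl⟩ := QuotientGroup.mk'_surjective C x
    obtain ⟨b, rfl⟩ := QuotientGroup.mk'_surjective C y
    rw [← commutatorElement_eq_one_iff_mul_comm, ← map_commutatorElement]
    refine (QuotientGroup.eq_one_iff _).2 ?_
    rw [hC]
    exact hA' (Subgroup.commutator_mem_commutator a.2 b.2)⟩⟩
  have hnil : Group.IsNilpotent A := by
    letI : CommGroup (A ⧸ C) :=
      { (inferInstance : Group (A ⧸ C)) with mul_comm := fun a b => hcomm.is_comm.comm a b }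
    refine Subgroup.isNilpotent_of_ker_le_center (QuotientGroup.mk' C) ?_
    rw [QuotientGroup.ker_mk', hC]
    exact fun x hx => mem_center_iff.2 fun y => Subtype.ext (mem_center_iff.1 hx y)
  by_contra hno
  push Not at hno
  refine hAc fun a ha => ?_
  have hCtop : C = ⊤ := by
    by_contra hCne
    have hidx : C.index ≠ 1 := fun e => hCne (Subgroup.index_eq_one.1 e)
    obtain ⟨q, hq, hqd⟩ := Nat.exists_prime_and_dvd hidx
    haveI := Fact.mk hq
    obtain ⟨R⟩ : Nonempty (Sylow q A) := inferInstance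
    have hall : ∀ (p : ℕ), Fact (Nat.Prime p) → ∀ (P : Sylow p A), (P : Subgroup A).Normal :=
      ((Group.isNilpotent_of_finite_tfae (G := A)).out 0 3).1 hnil
    haveI hRn : (R : Subgroup A).Normal := hall q inferInstance R
    haveI := Sylow.characteristic_of_normal R hRn
    have hle : (R : Subgroup A).map A.subtype ≤ center G :=
      hno q _ hq inferInstance ((Subgroup.map_subtype_le _).trans hAM) (R.2.map A.subtype)
    have hRC : (R : Subgroup A) ≤ C := fun x hx => by
      rw [hC]; exact hle ⟨x, hx, rfl⟩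
    exact R.not_dvd_index (hqd.trans (Subgroup.index_dvd_of_le hRC))
  have := (hCtop ▸ mem_top _ : (⟨a, ha⟩ : A) ∈ C)
  rwa [hC] at this

theorem result (hPC : PerfectCABrick.{u}) (hT2 : TwoShapeBrick.{u}) (G : Type u) [Group G]
    [Finite G] (h : Hyp G) (hp : commutator G = ⊤) : IsSimpleGroup (G ⧸ center G) := by
  obtain ⟨x, hx⟩ := exists_bad_of_not_isCA h.not_ca
  have hZ : center G ≠ ⊤ := fun e => hx.1 (e ▸ mem_top x)
  -- a maximal proper normal subgroup above the centre
  obtain ⟨N, hNs, hNmax⟩ := Set.Finite.exists_maximal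
    (Set.toFinite {M : Subgroup G | M.Normal ∧ center G ≤ M ∧ M ≠ ⊤})
    ⟨center G, inferInstance, le_rfl, hZ⟩
  obtain ⟨hN, hZN, hNtop⟩ := hNs
  haveI := hN
  have hsimple : IsSimpleGroup (G ⧸ N) := by
    haveI : Nontrivial (G ⧸ N) := QuotientGroup.nontrivial_iff.2 hNtop
    refine ⟨fun M hM => ?_⟩
    have hc : (M.comap (QuotientGroup.mk' N)).Normal := hM.comap _
    have hge : N ≤ M.comap (QuotientGroup.mk' N) := fun n hn => by
      rw [Subgroup.mem_comap, show QuotientGroup.mk' N n = 1 from (QuotientGroup.eq_one_iff n).2 hn]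
      exact one_mem _
    by_cases htop : M.comap (QuotientGroup.mk' N) = ⊤
    · right
      refine Subgroup.comap_injective (QuotientGroup.mk'_surjective N) ?_
      rw [htop, Subgroup.comap_top]
    · left
      have e := le_antisymm (hNmax ⟨hc, hZN.trans hge, htop⟩ hge) hge
      refine Subgroup.comap_injective (QuotientGroup.mk'_surjective N) ?_
      rw [e]
      exact ((MonoidHom.comap_bot _).trans (QuotientGroup.ker_mk' N)).symm
  have hsol := isSolvable_of_normal hPC h hp hN hNtop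
  suffices hle : N ≤ center G by
    have e : N = center G := le_antisymm hle hZN
    subst e
    exact hsimple
  by_contra hNc
  obtain ⟨p, Q₀, hp', hQ₀n, hQ₀N, hQ₀p, hQ₀c⟩ := exists_pgroup hN hsol hNc
  obtain ⟨Q, hQs, hQmin⟩ := Set.Finite.exists_minimal
    (Set.toFinite {M : Subgroup G | M.Normal ∧ M ≤ Q₀ ∧ ¬ M ≤ center G})
    ⟨Q₀, hQ₀n, le_rfl, hQ₀c⟩
  exact Config.impossible (N := N) (Q := Q) (p := p)
    { hyp := h
      perfect := hp
      N_normal := hN
      simple := hsimple
      solv := hsol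
      prime := hp'
      Q_normal := hQs.1
      Q_le := hQs.2.1.trans hQ₀N
      pgroup := hQ₀p.to_le hQs.2.1
      not_le := hQs.2.2
      minimal := fun M hM hMQ hne => by_contra fun hMc =>
        hne (le_antisymm hMQ (hQmin ⟨hM, hMQ.trans hQs.2.1, hMc⟩ hMQ)) } hT2

end RadicalAux

/-- A perfect minimal non-CA group is quasisimple. -/
theorem radical (hPC : PerfectCABrick.{u}) (hT2 : TwoShapeBrick.{u}) : RadicalBrick.{u} :=
  fun G _ _ h hp => RadicalAux.result hPC hT2 G h hp

end Cfsg.Agent.Lib.MinNonCA34
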