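import Mathlib
import Cfsg.Agent.Lib.MinNonCA34.Spec

/-!
# The 3-local argument

A non-real element `x` of order 3 whose centraliser is `(V × W)⟨n⟩` does not exist in a perfect group:
in each case a transfer map into an abelian quotient of a Sylow 3-subgroup is non-trivial.
-/

set_option autoImplicit false

namespace Cfsg.Agent.Lib.MinNonCA34

open Subgroup

universe u

namespace ThreeAux

section Generic

variable {L : Type*} [Group L]

/-- If fusion cannot be seen by `ψ` on the powers of `y`, then `ψ y = 1` in a perfect group. -/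
theorem transfer_kill [Finite L] (hperf : commutator L = ⊤) (p : ℕ) [hp : Fact p.Prime] (P : Sylow p L)
    {A : Type*} [CommGroup A] (ψ : (P : Subgroup L) →* A) (y : (P : Subgroup L))
    (key : ∀ (k : ℕ) (g : L) (h : g⁻¹ * (y : L) ^ k * g ∈ (P : Subgroup L)), ψ ⟨_, h⟩ = ψ y ^ k) :
    ψ y = 1 := by
  classical
  haveI : Fintype (Quotient (MulAction.orbitRel (zpowers (y : L)) (L ⧸ (P : Subgroup L)))) :=
    Fintype.ofFinite _
  have h1 : MonoidHom.transfer ψ (y : L) = ψ y ^ (P : Subgroup L).index := by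
    rw [MonoidHom.transfer_eq_prod_quotient_orbitRel_zpowers_quot,
      index_eq_sum_minimalPeriod (P : Subgroup L) (y : L), ← Finset.prod_pow_eq_pow_sum]
    exact Finset.prod_congr rfl fun q _ => key _ _ _
  have h2 : MonoidHom.transfer ψ (y : L) = 1 := by
    refine Abelianization.commutator_subset_ker _ ?_
    rw [hperf]
    exact mem_top _
  obtain ⟨j, hj⟩ := P.isPGroup' y
  have h3 : ψ y ^ (p ^ j) = 1 := by rw [← map_pow, hj, map_one]
  have h4 := pow_gcd_eq_one.2 ⟨h3, h1.symm.trans h2⟩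
  rwa [Nat.coprime_iff_gcd_eq_one.1 ((hp.out.coprime_iff_not_dvd.2 P.not_dvd_index).pow_left j),
    pow_one] at h4

/-- The same for an element whose cube is trivial: only its own conjugates matter. -/
theorem transfer_kill_cube [Finite L] (hperf : commutator L = ⊤) [Fact (Nat.Prime 3)] (P : Sylow 3 L)
    {A : Type*} [CommGroup A] (ψ : (P : Subgroup L) →* A) (y : (P : Subgroup L)) (hy : (y : L) ^ 3 = 1)
    (key : ∀ (g : L) (h : g⁻¹ * (y : L) * g ∈ (P : Subgroup L)), ψ ⟨_, h⟩ = ψ y) :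
    ψ y = 1 := by
  refine transfer_kill hperf 3 P ψ y fun k g h => ?_
  have hy' : y ^ 3 = 1 := Subtype.ext hy
  by_cases hk : 3 ∣ k
  · obtain ⟨m, rfl⟩ := hk
    have e : (⟨_, h⟩ : (P : Subgroup L)) = 1 := Subtype.ext (by simp [pow_mul, hy])
    rw [e, map_one, pow_mul, ← map_pow, hy', map_one, one_pow]
  · have hconj : ∀ m : ℕ, (g⁻¹ * (y : L) * g) ^ m = g⁻¹ * (y : L) ^ m * g := fun m => by
      have := conj_pow (i := m) (a := g⁻¹) (b := (y : L))
      rwa [inv_inv] at this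
    have hyk : ((y : L) ^ k) ^ k = (y : L) := by
      obtain ⟨m, hm⟩ : ∃ m, k * k = 3 * m + 1 := ⟨k * k / 3, by
        have : k % 3 = 1 ∨ k % 3 = 2 := by omega
        rcases this with e | e <;>
          · have := Nat.mul_mod k k 3
            rw [e] at this
            omega⟩
      rw [← pow_mul, hm, pow_succ, pow_mul, hy, one_pow, one_mul]
    have h' : g⁻¹ * (y : L) * g ∈ (P : Subgroup L) := by
      have e : g⁻¹ * (y : L) * g = (g⁻¹ * (y : L) ^ k * g) ^ k := by
        have := conj_pow (i := k) (a := g⁻¹) (b := (y : L) ^ k)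
        rw [inv_inv] at this
        rw [this, hyk]
      rw [e]
      exact pow_mem h k
    have e : (⟨_, h⟩ : (P : Subgroup L)) = (⟨_, h'⟩ : (P : Subgroup L)) ^ k :=
      Subtype.ext (by simpa using (hconj k).symm)
    rw [e, map_pow, key g h']

/-- Every `p`-subgroup can be conjugated into a given Sylow subgroup. -/
theorem conj_into_sylow [Finite L] (p : ℕ) [Fact p.Prime] (P : Sylow p L) {R : Subgroup L}
    (hR : IsPGroup p R) : ∃ h : L, ∀ r ∈ R, h * r * h⁻¹ ∈ (P : Subgroup L) := by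
  obtain ⟨Q, hQ⟩ := hR.exists_le_sylow
  obtain ⟨h, hh⟩ := MulAction.exists_smul_eq L Q P
  refine ⟨h, fun r hr => ?_⟩
  rw [← hh, Sylow.coe_subgroup_smul]
  exact Subgroup.smul_mem_pointwise_smul r (MulAut.conj h) _ (hQ hr)

/-- A nontrivial element of a `3`-group has a power of order three. -/
theorem exists_order_three (e : L) (he : e ≠ 1) (h : ∃ k : ℕ, e ^ 3 ^ k = 1) :
    ∃ j : ℕ, e ^ 3 ^ j ≠ 1 ∧ (e ^ 3 ^ j) ^ 3 = 1 := by
  classical
  have hk := Nat.find_spec h
  rcases Nat.eq_zero_or_eq_succ_pred (Nat.find h) with e0 | e0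
  · rw [e0, pow_zero, pow_one] at hk
    exact absurd hk he
  · refine ⟨Nat.pred (Nat.find h), Nat.find_min h (by omega), ?_⟩
    rw [← pow_mul, ← pow_succ]
    rwa [e0] at hk

/-- A proper subgroup of a finite `p`-subgroup is moved up by its normaliser. -/
theorem eq_of_normalizer [Finite L] (p : ℕ) [Fact p.Prime] {T P : Subgroup L} (hP : IsPGroup p P)
    (hTP : T ≤ P) (h : ∀ g ∈ P, g ∈ normalizer (T : Set L) → g ∈ T) : T = P := by
  by_contra hne
  have hlt : T.subgroupOf P < ⊤ :=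
    lt_top_iff_ne_top.2 fun e => hne (le_antisymm hTP (subgroupOf_eq_top.1 e))
  haveI : Group.IsNilpotent P := hP.isNilpotent
  obtain ⟨g, hg, hg'⟩ := SetLike.exists_of_lt (Group.normalizerCondition_of_isNilpotent _ hlt)
  refine hg' (mem_subgroupOf.2 (h g g.2 (mem_normalizer_iff.2 fun t => ⟨fun ht => ?_, fun ht => ?_⟩)))
  · exact mem_subgroupOf.1 ((mem_normalizer_iff.1 hg ⟨t, hTP ht⟩).1 (mem_subgroupOf.2 ht))
  · have htP : t ∈ P := by
      have := mul_mem (mul_mem (inv_mem g.2) (hTP ht)) g.2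
      have e : (g : L)⁻¹ * ((g : L) * t * (g : L)⁻¹) * (g : L) = t := by group
      rwa [e] at this
    exact mem_subgroupOf.1 ((mem_normalizer_iff.1 hg ⟨t, htP⟩).2 (mem_subgroupOf.2 ht))

theorem comm_identity {A : Type*} [CommGroup A] (a b c : A) :
    ((a / b) / (b / c)) / ((b / c) / (c / a)) = (c / b) ^ 3 := by
  have key : ∀ {B : Type _} [AddCommGroup B] (a b c : B),
      ((a - b) - (b - c)) - ((b - c) - (c - a)) = 3 • (c - b) := fun a b c => by abel
  exact key (Additive.ofMul a) (Additive.ofMul b) (Additive.ofMul c)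

/-- In a group of exponent three, `a` is not a power of `a / b` unless `b` is `1` or `a⁻¹`. -/
theorem not_mem_diff {A : Type*} [CommGroup A] (h3 : ∀ z : A, z ^ 3 = 1) {a b : A} (ha : a ≠ 1) (hb : b ≠ 1)
    (hab : b ≠ a⁻¹) : a ∉ zpowers (a * b⁻¹) := by
  intro hmem
  obtain ⟨i, hi⟩ := mem_zpowers_iff.1 hmem
  rw [zpow_eq_zpow_emod i (n := 3) (by exact_mod_cast h3 (a * b⁻¹))] at hi
  rcases (show i % 3 = 0 ∨ i % 3 = 1 ∨ i % 3 = 2 by omega) with e | e | e <;> rw [e] at hi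
  · rw [zpow_zero] at hi
    exact ha hi.symm
  · rw [zpow_one, mul_eq_left, inv_eq_one] at hi
    exact hb hi
  · rw [zpow_two, mul_mul_mul_comm, ← mul_inv, mul_assoc a, mul_eq_left, mul_inv_eq_one] at hi
    refine hab (eq_inv_of_mul_eq_one_right ?_)
    rw [hi, ← pow_three']
    exact h3 b

end Generic

section Counting

/-- A group acting on an elementary abelian group of order nine, semiregularly on the orbit of `a`,
this orbit avoiding `a⁻¹`. -/
theorem orbit_small {K A : Type*} [Group K] [CommGroup A] [Finite A] (φ : K →* MulAut A)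
    (hA : Nat.card A = 9) (a : A) (hanti : ∀ k, φ k a ≠ a⁻¹) (hfree : ∀ k, φ k a = a → φ k = 1) :
    Nat.card φ.range ≤ 3 ∧ (¬ 3 ∣ Nat.card φ.range →
      ∃ b : A, b ≠ 1 ∧ b ≠ a⁻¹ ∧ ∀ k, φ k a = a ∨ φ k a = b) := by
  classical
  have hdiff : ∀ (k k' : K) (t : A), φ k a = φ k' t → φ (k'⁻¹ * k) a = t := by
    intro k k' t e
    rw [map_mul, MulAut.mul_apply, e, map_inv]
    exact MulAut.inv_apply_self _ _ _
  let f : φ.range → A := fun r => (r : MulAut A) a
  have finj : Function.Injective f := by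
    rintro ⟨_, k, rfl⟩ ⟨_, k', rfl⟩ e
    have := hfree _ (hdiff k k' a e)
    rw [map_mul, map_inv, inv_mul_eq_one] at this
    exact Subtype.ext this.symm
  haveI : Finite φ.range := Finite.of_injective f finj
  have fanti : ∀ r r', f r ≠ (f r')⁻¹ := by
    rintro ⟨_, k, rfl⟩ ⟨_, k', rfl⟩ e
    refine hanti (k'⁻¹ * k) (hdiff k k' a⁻¹ (e.trans ?_))
    exact (map_inv (φ k') a).symm
  have ha : a ≠ 1 := by
    intro e
    exact hanti 1 (by rw [map_one, MulAut.one_apply, e, inv_one])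
  have hf1 : ∀ r, f r ≠ 1 := by
    rintro ⟨_, k, rfl⟩ e
    exact ha ((φ k).injective (e.trans (map_one (φ k)).symm))
  let F : Option (φ.range ⊕ φ.range) → A := fun o =>
    o.elim 1 (Sum.elim f fun r => (f r)⁻¹)
  have Finj : Function.Injective F := by
    rintro (_ | r | r) (_ | r' | r') e
    · rfl
    · exact absurd e.symm (hf1 r')
    · exact absurd (inv_eq_one.1 e.symm) (hf1 r')
    · exact absurd e (hf1 r)
    · exact congrArg (some ∘ Sum.inl) (finj e)
    · exact absurd e (fanti r r')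
    · exact absurd (inv_eq_one.1 e) (hf1 r)
    · exact absurd e.symm (fanti r' r)
    · exact congrArg (some ∘ Sum.inr) (finj (inv_injective e))
  have hle : 2 * Nat.card φ.range + 1 ≤ 9 := by
    have := Nat.card_le_card_of_injective F Finj
    rw [Finite.card_option, Nat.card_sum, hA] at this
    omega
  have hr3 : Nat.card φ.range ≤ 3 := by
    by_contra h4
    have hr : Nat.card φ.range = 4 := by omega
    have Fbij : Function.Bijective F := (Nat.bijective_iff_injective_and_card F).2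
      ⟨Finj, by rw [Finite.card_option, Nat.card_sum, hA, hr]⟩
    haveI : Fact (Nat.Prime 2) := ⟨Nat.prime_two⟩
    obtain ⟨g, hg⟩ := exists_prime_orderOf_dvd_card' (G := φ.range) 2 (by rw [hr]; norm_num)
    obtain ⟨⟨_, kg, rfl⟩, hgdef⟩ : ∃ g' : φ.range, g' = g := ⟨g, rfl⟩
    have hgg : φ kg * φ kg = 1 := by
      have h1 := pow_orderOf_eq_one g
      rw [hg, ← hgdef, pow_two] at h1
      exact congrArg Subtype.val h1
    have hne : φ kg ≠ 1 := by
      intro e
      have : orderOf g = 1 := orderOf_eq_one_iff.2 (hgdef ▸ Subtype.ext e)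
      omega
    have hz : φ kg (a * φ kg a) = a * φ kg a := by
      rw [map_mul, ← MulAut.mul_apply, hgg, MulAut.one_apply, mul_comm]
    have hfix : ∀ r : φ.range, φ kg (f r) = f r → False := by
      rintro ⟨_, k, rfl⟩ e
      change φ kg (φ k a) = φ k a at e
      have h1 : φ (k⁻¹ * (kg * k)) a = a := hdiff (kg * k) k a (by rw [map_mul, MulAut.mul_apply, e])
      have h2 := hfree _ h1
      rw [map_mul, map_mul, map_inv, inv_mul_eq_one] at h2
      exact hne (mul_eq_right.1 h2.symm)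
    obtain ⟨o, ho⟩ := Fbij.2 (a * φ kg a)
    rcases o with _ | r | r
    · exact hanti kg (eq_inv_of_mul_eq_one_right ho.symm)
    · change f r = a * φ kg a at ho
      exact hfix r (by rw [ho]; exact hz)
    · change (f r)⁻¹ = a * φ kg a at ho
      refine hfix r (inv_injective ?_)
      rw [← map_inv, ho]
      exact hz
  refine ⟨hr3, fun h3 => ?_⟩
  have hpos : 0 < Nat.card φ.range := Nat.card_pos
  rcases (show Nat.card φ.range = 1 ∨ Nat.card φ.range = 2 by
    rcases (show Nat.card φ.range = 1 ∨ Nat.card φ.range = 2 ∨ Nat.card φ.range = 3 by omega) with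
      e | e | e
    · exact Or.inl e
    · exact Or.inr e
    · exact absurd (by rw [e]) h3) with e | e
  · haveI : Subsingleton φ.range := (Nat.card_eq_one_iff_unique.1 e).1
    refine ⟨a, ha, ?_, fun k => Or.inl ?_⟩
    · have := hanti 1
      rwa [map_one, MulAut.one_apply] at this
    · have h1 : (⟨φ k, k, rfl⟩ : φ.range) = 1 := Subsingleton.elim _ _
      have h1' : φ k = 1 := congrArg Subtype.val h1
      rw [h1']
      rfl
  · obtain ⟨⟨_, k0, rfl⟩, -, hu⟩ := (Nat.card_eq_two_iff' (1 : φ.range)).1 e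
    refine ⟨φ k0 a, hf1 ⟨_, k0, rfl⟩, hanti k0, fun k => ?_⟩
    by_cases hk : (⟨φ k, k, rfl⟩ : φ.range) = 1
    · left
      have h1' : φ k = 1 := congrArg Subtype.val hk
      rw [h1']
      rfl
    · right
      have h1' : φ k = φ k0 := congrArg Subtype.val (hu _ hk)
      rw [h1']

variable {Q : Type*} [Group Q] [Finite Q] {p : ℕ} [Fact p.Prime]

/-- In a finite `p`-group the commutator subgroup consists of non-generators. -/
theorem eq_top_of_sup_commutator (hQ : IsPGroup p Q) (H : Subgroup Q) (h : H ⊔ commutator Q = ⊤) :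
    H = ⊤ := by
  haveI : Group.IsNilpotent Q := hQ.isNilpotent
  refine (eq_top_or_exists_le_coatom H).resolve_right ?_
  rintro ⟨K, hK, hHK⟩
  haveI : K.Normal := NormalizerCondition.normal_of_coatom K Group.normalizerCondition_of_isNilpotent hK
  refine hK.1 (top_le_iff.1 (h ▸ sup_le hHK (Normal.quotient_commutative_iff_commutator_le.1 ?_)))
  obtain ⟨g, hg⟩ : ∃ g : Q, g ∉ K := by
    by_contra hall
    push Not at hall
    exact hK.1 (eq_top_iff.2 fun g _ => hall g)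
  have htop : (zpowers (g : Q ⧸ K)).comap (QuotientGroup.mk' K) = ⊤ := by
    refine hK.2 _ (lt_of_le_of_ne (fun k hk => ?_) fun e => hg ?_)
    · rw [mem_comap, QuotientGroup.mk'_apply, (QuotientGroup.eq_one_iff k).2 hk]
      exact one_mem _
    · rw [e]
      exact mem_comap.2 (mem_zpowers _)
  refine ⟨⟨fun a b => ?_⟩⟩
  induction a using QuotientGroup.induction_on with
  | _ a =>
    induction b using QuotientGroup.induction_on with
    | _ b =>
      obtain ⟨i, hi⟩ := mem_zpowers_iff.1 (mem_comap.1 (htop ▸ mem_top a) : _)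
      obtain ⟨j, hj⟩ := mem_zpowers_iff.1 (mem_comap.1 (htop ▸ mem_top b) : _)
      rw [QuotientGroup.mk'_apply] at hi hj
      rw [← hi, ← hj]
      exact ((Commute.refl _).zpow_zpow i j).eq

/-- The abelianisation of a non-abelian finite `p`-group is not cyclic. -/
theorem zpowers_of_ne_top (hQ : IsPGroup p Q) (hne : ∃ a b : Q, a * b ≠ b * a) (g : Q) :
    zpowers (Abelianization.of g) ≠ ⊤ := by
  intro e
  obtain ⟨a, b, hab⟩ := hne
  have h : zpowers g = ⊤ := by
    refine eq_top_of_sup_commutator hQ _ (eq_top_iff.2 fun q _ => ?_)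
    obtain ⟨i, hi⟩ := mem_zpowers_iff.1 (e ▸ mem_top (Abelianization.of q) : _)
    rw [← map_zpow] at hi
    have h1 : (g ^ i)⁻¹ * q ∈ commutator Q := QuotientGroup.eq.1 hi
    have h2 := mul_mem (mem_sup_left (T := commutator Q) (zpow_mem (mem_zpowers g) i))
      (mem_sup_right (S := zpowers g) h1)
    rwa [mul_inv_cancel_left] at h2
  obtain ⟨i, hi⟩ := mem_zpowers_iff.1 (h ▸ mem_top a : a ∈ zpowers g)
  obtain ⟨j, hj⟩ := mem_zpowers_iff.1 (h ▸ mem_top b : b ∈ zpowers g)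
  rw [← hi, ← hj] at hab
  exact hab ((Commute.refl g).zpow_zpow i j).eq

/-- A non-abelian `3`-group with an element whose centraliser has order nine. -/
theorem class_eq_coset [Fact (Nat.Prime 3)] (hQ : IsPGroup 3 Q) (hne : ∃ a b : Q, a * b ≠ b * a) (x : Q)
    (hx : Nat.card (centralizer ({x} : Set Q)) = 9) :
    Nat.card (Abelianization Q) = 9 ∧ (∀ z : Abelianization Q, z ^ 3 = 1) ∧
      ∀ q, Abelianization.of q = Abelianization.of x → ∃ h : Q, h * x * h⁻¹ = q := by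
  classical
  let f : Q ⧸ centralizer ({x} : Set Q) → commutator Q := fun q =>
    ⟨q.out * x * q.out⁻¹ * x⁻¹, commutator_mem_commutator (mem_top q.out) (mem_top x)⟩
  have finj : Function.Injective f := by
    intro q q' e
    have e' : q.out * x * q.out⁻¹ = q'.out * x * q'.out⁻¹ := mul_right_cancel (congrArg Subtype.val e)
    rw [← QuotientGroup.out_eq' q, ← QuotientGroup.out_eq' q', QuotientGroup.eq, mem_centralizer_singleton_iff]
    calc q.out⁻¹ * q'.out * x = q.out⁻¹ * (q'.out * x * q'.out⁻¹) * q'.out := by group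
      _ = x * (q.out⁻¹ * q'.out) := by rw [← e']; group
  have hidx : (centralizer ({x} : Set Q)).index ≤ Nat.card (commutator Q) :=
    Nat.card_le_card_of_injective f finj
  have hQc : Nat.card Q = 9 * (centralizer ({x} : Set Q)).index := by
    rw [← hx, Subgroup.card_mul_index]
  have hQa : Nat.card Q = Nat.card (Abelianization Q) * Nat.card (commutator Q) :=
    Subgroup.card_eq_card_quotient_mul_card_subgroup _
  have hposc : 0 < Nat.card (commutator Q) := Nat.card_pos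
  have hle : Nat.card (Abelianization Q) ≤ 9 :=
    Nat.le_of_mul_le_mul_right (by rw [← hQa, hQc]; exact Nat.mul_le_mul_left 9 hidx) hposc
  have hAb : IsPGroup 3 (Abelianization Q) := hQ.to_quotient _
  obtain ⟨k, hk⟩ := IsPGroup.iff_card.1 hAb
  have hcard : Nat.card (Abelianization Q) = 9 := by
    rcases (show k ≤ 1 ∨ k = 2 ∨ 3 ≤ k by omega) with h1 | h1 | h1
    · exfalso
      have hcyc : IsCyclic (Abelianization Q) := by
        rcases (show k = 0 ∨ k = 1 by omega) with rfl | rfl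
        · haveI : Subsingleton (Abelianization Q) := (Nat.card_eq_one_iff_unique.1 hk).1
          infer_instance
        · exact isCyclic_of_prime_card (p := 3) hk
      obtain ⟨z, hz⟩ := IsCyclic.exists_generator (α := Abelianization Q)
      obtain ⟨g, rfl⟩ := QuotientGroup.mk_surjective z
      exact zpowers_of_ne_top hQ hne g (eq_top_iff.2 fun w _ => hz w)
    · rw [hk, h1]
      norm_num
    · have h27 : 3 ^ 3 ≤ 3 ^ k := Nat.pow_le_pow_right (by norm_num) h1
      omega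
  refine ⟨hcard, fun z => ?_, fun q hq => ?_⟩
  · obtain ⟨g, rfl⟩ := QuotientGroup.mk_surjective z
    have hd : orderOf (Abelianization.of g) ∣ 3 ^ 2 := by
      have := orderOf_dvd_natCard (Abelianization.of g)
      rw [hcard] at this
      norm_num
      exact this
    obtain ⟨m, hm, hmo⟩ := (Nat.dvd_prime_pow Nat.prime_three).1 hd
    have hm2 : m ≠ 2 := by
      intro e
      refine zpowers_of_ne_top hQ hne g (eq_top_of_card_eq _ ?_)
      rw [Nat.card_zpowers, hmo, e, hcard]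
      norm_num
    refine orderOf_dvd_iff_pow_eq_one.1 (show orderOf (Abelianization.of g) ∣ 3 from ?_)
    rw [hmo]
    exact pow_dvd_pow 3 (show m ≤ 1 by omega) |>.trans (by norm_num)
  · have fbij : Function.Bijective f := by
      refine (Nat.bijective_iff_injective_and_card f).2 ⟨finj, ?_⟩
      have : Nat.card Q = 9 * Nat.card (commutator Q) := by rw [hQa, hcard]
      exact Nat.eq_of_mul_eq_mul_left (by norm_num : 0 < 9) (hQc.symm.trans this)
    have hmem : q * x⁻¹ ∈ commutator Q := by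
      refine (QuotientGroup.eq_one_iff _).1 ?_
      change Abelianization.of (q * x⁻¹) = 1
      rw [map_mul, map_inv, hq, mul_inv_cancel]
    obtain ⟨c, hc⟩ := fbij.2 ⟨_, hmem⟩
    exact ⟨c.out, mul_right_cancel (congrArg Subtype.val hc)⟩

end Counting

section Config

variable {L : Type*} [Group L]

/-- The configuration of the 3-local argument. -/
structure Cfg (V W : Subgroup L) (x n : L) : Prop where
  perfect : commutator L = ⊤
  card_V : Nat.card V = 4
  sq : ∀ v ∈ V, v * v = 1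
  pW : IsPGroup 3 W
  commW : ∀ v ∈ W, ∀ w ∈ W, v * w = w * v
  commVW : ∀ v ∈ V, ∀ w ∈ W, v * w = w * v
  order_x : orderOf x = 3
  mem_x : x ∈ W
  comm_nx : n * x = x * n
  cube : n ^ 3 ∈ W
  normW : n ∈ normalizer (W : Set L)
  normV : n ∈ normalizer (V : Set L)
  free : ∀ v ∈ V, n * v = v * n → v = 1
  cover : ∀ g : L, g * x = x * g → ∃ (i : ℕ), ∃ v ∈ V, ∃ w ∈ W, g = n ^ i * v * w
  real : ∀ g : L, g * x * g⁻¹ ≠ x⁻¹
  normV_le : normalizer (V : Set L) ≤ centralizer ({x} : Set L)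
  fixW : ∀ w ∈ W, w ^ 3 = 1 → n * w = w * n → w ∈ zpowers x

variable {V W : Subgroup L} {x n : L}

namespace Cfg

variable (h : Cfg V W x n)
include h

theorem x_pow : x ^ 3 = 1 := by rw [← h.order_x, pow_orderOf_eq_one]

theorem x_ne : x ≠ 1 := fun e => by
  have := h.order_x
  rw [e, orderOf_one] at this
  omega

theorem comm_W {w : L} (hw : w ∈ W) : w * x = x * w := h.commW w hw x h.mem_x

theorem comm_V {v : L} (hv : v ∈ V) : v * x = x * v := h.commVW v hv x h.mem_x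

theorem norm_of_comm {g : L} (hg : g * x = x * g) :
    g ∈ normalizer (V : Set L) ∧ g ∈ normalizer (W : Set L) := by
  obtain ⟨i, v, hv, w, hw, rfl⟩ := h.cover g hg
  refine ⟨mul_mem (mul_mem (pow_mem h.normV i) (le_normalizer hv)) ?_,
    mul_mem (mul_mem (pow_mem h.normW i) ?_) (le_normalizer hw)⟩
  · refine mem_normalizer_iff.2 fun v' => ⟨fun hv' => ?_, fun hv' => ?_⟩
    · have e : w * v' * w⁻¹ = v' := by rw [← h.commVW v' hv' w hw, mul_inv_cancel_right]
      rwa [e]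
    · have e : v' = w⁻¹ * (w * v' * w⁻¹) * w := by group
      rw [e, ← h.commVW _ hv' _ (inv_mem hw), inv_mul_cancel_right]
      exact hv'
  · refine mem_normalizer_iff.2 fun w' => ⟨fun hw' => ?_, fun hw' => ?_⟩
    · have e : v * w' * v⁻¹ = w' := by rw [h.commVW v hv w' hw', mul_inv_cancel_right]
      rwa [e]
    · have e : w' = v⁻¹ * (v * w' * v⁻¹) * v := by group
      rw [e, h.commVW _ (inv_mem hv) _ hw', inv_mul_cancel_right]
      exact hw'

/-- An element of `V` which is a `3`-element is trivial. -/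
theorem V_three {v : L} (hv : v ∈ V) {k : ℕ} (hk : v ^ 3 ^ k = 1) : v = 1 := by
  obtain ⟨m, hm⟩ : Odd (3 ^ k) := (by decide : Odd 3).pow
  rwa [hm, pow_succ, pow_mul, pow_two, h.sq v hv, one_pow, one_mul] at hk

theorem mem_M {g : L} : g ∈ V ⊔ W ↔ ∃ v ∈ V, ∃ w ∈ W, g = v * w := by
  have hle : V ≤ normalizer (W : Set L) := fun v hv => (h.norm_of_comm (h.comm_V hv)).2
  rw [← SetLike.mem_coe, coe_mul_of_left_le_normalizer_right V W hle, Set.mem_mul]
  constructor
  · rintro ⟨v, hv, w, hw, rfl⟩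
    exact ⟨v, hv, w, hw, rfl⟩
  · rintro ⟨v, hv, w, hw, rfl⟩
    exact ⟨v, hv, w, hw, rfl⟩

theorem M_comm {g : L} (hg : g ∈ V ⊔ W) : g * x = x * g := by
  obtain ⟨v, hv, w, hw, rfl⟩ := h.mem_M.1 hg
  exact (Commute.mul_left (h.comm_V hv : Commute v x) (h.comm_W hw : Commute w x)).eq

theorem M_norm {c : L} (hc : c * x = x * c) {g : L} (hg : g ∈ V ⊔ W) : c * g * c⁻¹ ∈ V ⊔ W := by
  obtain ⟨v, hv, w, hw, rfl⟩ := h.mem_M.1 hg
  obtain ⟨h1, h2⟩ := h.norm_of_comm hc
  exact h.mem_M.2 ⟨_, (mem_normalizer_iff.1 h1 v).1 hv, _, (mem_normalizer_iff.1 h2 w).1 hw, by group⟩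

theorem n_not_mem : n ∉ V ⊔ W := by
  intro hn
  obtain ⟨v, hv, w, hw, e⟩ := h.mem_M.1 hn
  have hbot : V = ⊥ := by
    refine (Subgroup.eq_bot_iff_forall _).2 fun v' hv' => h.free v' hv' ?_
    have hVc : v * v' = v' * v := by
      have h1 : (v * v')⁻¹ = v * v' := inv_eq_of_mul_eq_one_left (h.sq _ (mul_mem hv hv'))
      rwa [mul_inv_rev, inv_eq_of_mul_eq_one_left (h.sq v hv), inv_eq_of_mul_eq_one_left (h.sq v' hv'),
        eq_comm] at h1
    rw [e]
    exact (Commute.mul_left (hVc : Commute v v') (h.commVW v' hv' w hw).symm).eq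
  have := h.card_V
  rw [hbot, card_bot] at this
  omega

theorem pow_cube (i : ℕ) : n ^ (3 * i) ∈ W := by
  rw [pow_mul]
  exact pow_mem h.cube i

theorem pow_n_mem_M {i : ℕ} (hi : n ^ i ∈ V ⊔ W) : 3 ∣ i := by
  by_contra h3
  obtain ⟨m, hm⟩ : ∃ m, i * i = 3 * m + 1 := ⟨i * i / 3, by
    have : i % 3 = 1 ∨ i % 3 = 2 := by omega
    rcases this with e | e <;>
      · have := Nat.mul_mod i i 3
        rw [e] at this
        omega⟩
  apply h.n_not_mem
  have h1 : n ^ (i * i) ∈ V ⊔ W := by rw [pow_mul]; exact pow_mem hi i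
  rw [hm, pow_succ] at h1
  have h2 := mul_mem (inv_mem (mem_sup_right (S := V) (h.pow_cube m))) h1
  rwa [inv_mul_cancel_left] at h2

/-- The part of a centralising element along `n`. -/
theorem cover_M {g : L} (hg : g * x = x * g) : ∃ i : ℕ, (n ^ i)⁻¹ * g ∈ V ⊔ W := by
  obtain ⟨i, v, hv, w, hw, rfl⟩ := h.cover g hg
  exact ⟨i, h.mem_M.2 ⟨v, hv, w, hw, by group⟩⟩

theorem cube_mem {g : L} (hg : g * x = x * g) : g ^ 3 ∈ V ⊔ W := by
  obtain ⟨i, hi⟩ := h.cover_M hg
  obtain ⟨m, hm, rfl⟩ : ∃ m ∈ V ⊔ W, g = n ^ i * m := ⟨_, hi, by group⟩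
  have hc : ∀ j : ℕ, n ^ j * x = x * n ^ j := fun j =>
    (Commute.pow_left (h.comm_nx : Commute n x) j).eq
  have e : (n ^ i * m) ^ 3 =
      (n ^ i * m * (n ^ i)⁻¹) * (n ^ (2 * i) * m * (n ^ (2 * i))⁻¹) * (n ^ (3 * i) * m) := by
    rw [show 3 * i = i + i + i by ring, two_mul, pow_add, pow_add, pow_succ, pow_two]
    group
  rw [e]
  exact mul_mem (mul_mem (h.M_norm (hc i) hm) (h.M_norm (hc _) hm))
    (mul_mem (mem_sup_right (h.pow_cube i)) hm)

theorem mem_W_of_M {y : L} (hy : y ∈ V ⊔ W) {k : ℕ} (hk : y ^ 3 ^ k = 1) : y ∈ W := by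
  obtain ⟨v, hv, w, hw, rfl⟩ := h.mem_M.1 hy
  rw [Commute.mul_pow (h.commVW v hv w hw)] at hk
  obtain ⟨j, hj⟩ := h.pW ⟨w, hw⟩
  have hj' : w ^ 3 ^ j = 1 := congrArg Subtype.val hj
  have h1 : v ^ 3 ^ (k + j) = 1 := by
    rw [pow_add, pow_mul, eq_inv_of_mul_eq_one_left hk, inv_pow, ← pow_mul, mul_comm, pow_mul, hj',
      one_pow, inv_one]
  rw [h.V_three hv h1, one_mul]
  exact hw

theorem mem_V_of_sq {g : L} (hg : g * x = x * g) (h2 : g * g = 1) : g ∈ V := by
  have e : g ^ 3 = g := by rw [pow_succ, pow_two, h2, one_mul]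
  obtain ⟨v, hv, w, hw, rfl⟩ := h.mem_M.1 (e ▸ h.cube_mem hg)
  have hw2 : w * w = 1 := by
    rw [Commute.mul_mul_mul_comm (h.commVW v hv w hw).symm, h.sq v hv, one_mul] at h2
    exact h2
  obtain ⟨j, hj⟩ := h.pW ⟨w, hw⟩
  have hj' : w ^ 3 ^ j = 1 := congrArg Subtype.val hj
  obtain ⟨m, hm⟩ : Odd (3 ^ j) := (by decide : Odd 3).pow
  rw [hm, pow_succ, pow_mul, pow_two, hw2, one_pow, one_mul] at hj'
  rw [hj', mul_one]
  exact hv

/-- A conjugate of `x` centralising `V` is `x`. -/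
theorem eq_of_central [Finite L] (g : L) (hg : ∀ v ∈ V, v * (g * x * g⁻¹) = g * x * g⁻¹ * v) :
    g * x * g⁻¹ = x := by
  have hsub : ∀ v ∈ V, g⁻¹ * v * g ∈ V := by
    intro v hv
    refine h.mem_V_of_sq ?_ ?_
    · calc g⁻¹ * v * g * x = g⁻¹ * (v * (g * x * g⁻¹)) * g := by group
        _ = x * (g⁻¹ * v * g) := by rw [hg v hv]; group
    · calc g⁻¹ * v * g * (g⁻¹ * v * g) = g⁻¹ * (v * v) * g := by group
        _ = 1 := by rw [h.sq v hv]; group
  have hgi : g⁻¹ ∈ normalizer (V : Set L) := by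
    rw [mem_normalizer_iff_map_conj_eq]
    refine eq_of_le_of_card_ge ?_ ?_
    · rintro _ ⟨v, hv, rfl⟩
      change g⁻¹ * v * g⁻¹⁻¹ ∈ V
      rw [inv_inv]
      exact hsub v hv
    · rw [card_map_of_injective (MulEquiv.injective _)]
  have hc : g * x = x * g :=
    mem_centralizer_singleton_iff.1 (h.normV_le (inv_inv g ▸ inv_mem hgi))
  rw [hc, mul_inv_cancel_right]

theorem T_le {g : L} (hg : g ∈ zpowers n ⊔ W) : g * x = x * g := by
  have hle : zpowers n ⊔ W ≤ centralizer ({x} : Set L) :=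
    sup_le (zpowers_le.2 (mem_centralizer_singleton_iff.2 h.comm_nx))
      fun w hw => mem_centralizer_singleton_iff.2 (h.comm_W hw)
  exact mem_centralizer_singleton_iff.1 (hle hg)

theorem n_mem_T : n ∈ zpowers n ⊔ W := mem_sup_left (mem_zpowers n)

theorem x_mem_T : x ∈ zpowers n ⊔ W := mem_sup_right h.mem_x

theorem T_pgroup : IsPGroup 3 (zpowers n ⊔ W : Subgroup L) := by
  refine IsPGroup.to_sup_of_normal_right' ?_ h.pW (zpowers_le.2 h.normW)
  intro y
  obtain ⟨i, hi⟩ := mem_zpowers_iff.1 y.2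
  obtain ⟨j, hj⟩ := h.pW ⟨n ^ 3, h.cube⟩
  have hj' : (n ^ 3) ^ 3 ^ j = 1 := congrArg Subtype.val hj
  refine ⟨j + 1, Subtype.ext ?_⟩
  rw [SubgroupClass.coe_pow, OneMemClass.coe_one, ← hi, ← zpow_natCast, ← zpow_mul, mul_comm, zpow_mul,
    zpow_natCast, pow_succ', pow_mul, hj', one_zpow]

/-- `⟨n⟩W` is a maximal 3-subgroup of the centraliser. -/
theorem T_max {R : Subgroup L} (hR : IsPGroup 3 R) (hRC : ∀ r ∈ R, r * x = x * r)
    (hTR : zpowers n ⊔ W ≤ R) : R = zpowers n ⊔ W := by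
  refine le_antisymm (fun g hg => ?_) hTR
  obtain ⟨i, v, hv, w, hw, rfl⟩ := h.cover g (hRC g hg)
  have hni : n ^ i ∈ zpowers n ⊔ W := pow_mem h.n_mem_T i
  have hwT : w ∈ zpowers n ⊔ W := mem_sup_right hw
  have hvR : v ∈ R := by
    have := mul_mem (mul_mem (inv_mem (hTR hni)) hg) (inv_mem (hTR hwT))
    have e : (n ^ i)⁻¹ * (n ^ i * v * w) * w⁻¹ = v := by group
    rwa [e] at this
  obtain ⟨k, hk⟩ := hR ⟨v, hvR⟩
  rw [h.V_three hv (k := k) (congrArg Subtype.val hk), mul_one]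
  exact mul_mem hni hwT

/-- Every 3-subgroup of the centraliser is conjugate there into `⟨n⟩W`. -/
theorem conj_T [Finite L] [Fact (Nat.Prime 3)] {R : Subgroup L} (hR : IsPGroup 3 R)
    (hRC : ∀ r ∈ R, r * x = x * r) :
    ∃ c : L, c * x = x * c ∧ ∀ r ∈ R, c * r * c⁻¹ ∈ zpowers n ⊔ W := by
  have hT : zpowers n ⊔ W ≤ centralizer ({x} : Set L) :=
    fun g hg => mem_centralizer_singleton_iff.2 (h.T_le hg)
  let PT : Sylow 3 (centralizer ({x} : Set L)) :=
    { (zpowers n ⊔ W).subgroupOf (centralizer ({x} : Set L)) with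
      isPGroup' := h.T_pgroup.comap_of_injective _ (subtype_injective _)
      is_maximal' := by
        intro Q hQ hle
        have e : Q.map (centralizer ({x} : Set L)).subtype = zpowers n ⊔ W := by
          refine h.T_max (hQ.map _) ?_ ?_
          · rintro _ ⟨r, -, rfl⟩
            exact mem_centralizer_singleton_iff.1 r.2
          · intro g hg
            exact ⟨⟨g, hT hg⟩, hle (mem_subgroupOf.2 hg), rfl⟩
        refine le_antisymm (fun q hq => ?_) hle
        change (q : L) ∈ zpowers n ⊔ W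
        rw [← e]
        exact ⟨q, hq, rfl⟩ }
  have hRsub : R ≤ centralizer ({x} : Set L) := fun r hr => mem_centralizer_singleton_iff.2 (hRC r hr)
  obtain ⟨c, hc⟩ := conj_into_sylow 3 PT (R := R.subgroupOf (centralizer ({x} : Set L)))
    (hR.comap_of_injective _ (subtype_injective _))
  exact ⟨c, mem_centralizer_singleton_iff.1 c.2,
    fun r hr => hc ⟨r, hRsub hr⟩ (mem_subgroupOf.2 hr)⟩

/-- If `n ^ i` with `i` prime to three centralises `u ∈ W`, so does `n`. -/
theorem comm_n_of {u : L} (hu : u ∈ W) {i : ℕ} (hi : ¬ 3 ∣ i) (hc : Commute (n ^ i) u) : Commute n u := by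
  obtain ⟨m, hm⟩ : ∃ m, i * i = 3 * m + 1 := ⟨i * i / 3, by
    have : i % 3 = 1 ∨ i % 3 = 2 := by omega
    rcases this with e | e <;>
      · have := Nat.mul_mod i i 3
        rw [e] at this
        omega⟩
  have h3 : Commute (n ^ (3 * m)) u := h.commW _ (h.pow_cube m) u hu
  have h1 : Commute (n ^ (i * i)) u := by rw [pow_mul]; exact hc.pow_left i
  rw [hm, pow_succ] at h1
  have := h3.inv_left.mul_left h1
  rwa [inv_mul_cancel_left] at this

/-- An element of order three outside `V × W` is moved by a transvection. -/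
theorem transv [Finite L] (hI : ¬ ∀ w ∈ W, n * w = w * n) {y : L} (hyx : y * x = x * y)
    (hyM : y ∉ V ⊔ W) (hy3 : y ^ 3 = 1) : ∃ τ ∈ W, τ * y * τ⁻¹ = y * x := by
  obtain ⟨i, v, hv, w0, hw0, hy⟩ := h.cover y hyx
  have hi : ¬ 3 ∣ i := by
    rintro ⟨m, rfl⟩
    refine hyM ?_
    rw [hy]
    exact mul_mem (mul_mem (mem_sup_right (h.pow_cube m)) (mem_sup_left hv)) (mem_sup_right hw0)
  have hcn : ∀ u ∈ W, y * u = u * y → Commute n u := by
    intro u hu hc
    refine h.comm_n_of hu hi ?_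
    have h1 : Commute y u := hc
    have h2 : Commute (v * w0) u := Commute.mul_left (h.commVW v hv u hu) (h.commW w0 hw0 u hu)
    have := h1.mul_left h2.inv_left
    rwa [show y * (v * w0)⁻¹ = n ^ i by rw [hy]; group] at this
  letI instW : CommGroup W :=
    { (inferInstance : Group W) with mul_comm := fun a b => Subtype.ext (h.commW a a.2 b b.2) }
  let σ : W →* W := (W.normalizerMonoidHom ⟨y, (h.norm_of_comm hyx).2⟩).toMonoidHom
  have hσ : ∀ w : W, (σ w : L) = y * w * y⁻¹ := fun w => rfl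
  have hfix : ∀ w : W, w / σ w = 1 → Commute n (w : L) := by
    intro w hw
    refine hcn w w.2 ?_
    have := congrArg Subtype.val (div_eq_one.1 hw)
    rw [hσ, eq_mul_inv_iff_mul_eq] at this
    exact this.symm
  let δ : W →* W := MonoidHom.id W / σ
  have hδ : ∀ w : W, δ w = w / σ w := fun w => rfl
  obtain ⟨w1, hw1⟩ : ∃ w : W, δ w ≠ 1 := by
    by_contra hall
    push Not at hall
    exact hI fun w hw => (hfix ⟨w, hw⟩ ((hδ _).symm.trans (hall _))).eq
  obtain ⟨j, hj1, hj2⟩ := exists_order_three (δ w1) hw1 (h.pW _)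
  rw [← map_pow] at hj1 hj2
  obtain ⟨d0, hd0⟩ : ∃ d0, d0 = w1 ^ 3 ^ j := ⟨_, rfl⟩
  rw [← hd0] at hj1 hj2
  have hσ3 : ∀ w : W, σ (σ (σ w)) = w := by
    intro w
    refine Subtype.ext ?_
    rw [hσ, hσ, hσ]
    have hy3' : y * y * y = 1 := by rw [← hy3, pow_succ, pow_two]
    calc y * (y * (y * (w : L) * y⁻¹) * y⁻¹) * y⁻¹ = y * y * y * w * (y * y * y)⁻¹ := by group
      _ = w := by rw [hy3']; group
  have hδ3 : δ (δ (δ (δ d0))) = 1 := by
    have e : ∀ z : W, δ (δ (δ z)) = (σ (σ z) / σ z) ^ 3 := fun z => by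
      simp only [hδ, map_div, hσ3]
      exact comm_identity _ _ _
    rw [e, ← map_div, ← map_pow, div_pow, ← map_pow, hj2, map_one, div_one, map_one]
  obtain ⟨z, hz1, hz3, hz0⟩ : ∃ z : W, δ z ≠ 1 ∧ δ z ^ 3 = 1 ∧ δ (δ z) = 1 := by
    by_cases h1 : δ (δ d0) = 1
    · exact ⟨d0, hj1, hj2, h1⟩
    · by_cases h2 : δ (δ (δ d0)) = 1
      · exact ⟨δ d0, h1, by rw [← map_pow, hj2, map_one], h2⟩
      · refine ⟨δ (δ d0), h2, ?_, hδ3⟩
        rw [← map_pow, ← map_pow, hj2, map_one, map_one]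
  have hzx : ((δ z : W) : L) ∈ zpowers x :=
    h.fixW _ (δ z).2 (congrArg Subtype.val hz3) (hfix _ ((hδ _).symm.trans hz0)).eq
  obtain ⟨m, hm3, hm⟩ : ∃ m : ℕ, m < 3 ∧ ((δ z : W) : L) = x ^ m := by
    obtain ⟨m, hm⟩ := (mem_powers_iff_mem_zpowers).2 hzx
    refine ⟨m % 3, Nat.mod_lt _ (by norm_num), ?_⟩
    rw [← hm]
    calc x ^ m = x ^ (m % orderOf x) := (pow_mod_orderOf x m).symm
      _ = _ := by rw [h.order_x]
  obtain ⟨τ, hτ⟩ : ∃ τ : W, ((δ τ : W) : L) = x := by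
    interval_cases m
    · exact absurd (Subtype.ext (hm.trans (pow_zero x))) hz1
    · exact ⟨z, hm.trans (pow_one x)⟩
    · refine ⟨z ^ 2, ?_⟩
      rw [map_pow, SubgroupClass.coe_pow, hm, ← pow_mul, pow_succ, h.x_pow, one_mul]
  refine ⟨τ, τ.2, ?_⟩
  rw [hδ] at hτ
  have hτ' : (τ : L) * (y * τ * y⁻¹)⁻¹ = x := by
    rw [← hσ]
    simpa [div_eq_mul_inv] using hτ
  have e : (τ : L) * y * (τ : L)⁻¹ = (τ : L) * (y * τ * y⁻¹)⁻¹ * y := by group
  rw [e, hτ', hyx]

/-- Case I: `x` is weakly closed in its centraliser. -/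
theorem weakly_closed [Finite L] (hI : ¬ ∀ w ∈ W, n * w = w * n) (g : L)
    (hg : g * x * g⁻¹ * x = x * (g * x * g⁻¹)) : g * x * g⁻¹ = x := by
  have hcube : ∀ c : L, (c * x * c⁻¹) ^ 3 = 1 := fun c => by
    rw [conj_pow, h.x_pow]; group
  have key : ∀ c : L, c * x * c⁻¹ ∈ V ⊔ W → c * x * c⁻¹ = x := fun c hc => by
    refine h.eq_of_central c fun v hv => h.commVW v hv _ (h.mem_W_of_M hc (k := 1) ?_)
    rw [pow_one]
    exact hcube c
  by_cases hM : g * x * g⁻¹ ∈ V ⊔ W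
  · exact key g hM
  obtain ⟨τ, hτW, hτ⟩ := h.transv hI hg hM (hcube g)
  have hg' : g⁻¹ * x * g⁻¹⁻¹ * x = x * (g⁻¹ * x * g⁻¹⁻¹) := by
    calc g⁻¹ * x * g⁻¹⁻¹ * x = g⁻¹ * (x * (g * x * g⁻¹)) * g := by group
      _ = g⁻¹ * (g * x * g⁻¹ * x) * g := by rw [hg]
      _ = x * (g⁻¹ * x * g⁻¹⁻¹) := by group
  have hM' : g⁻¹ * x * g⁻¹⁻¹ ∉ V ⊔ W := by
    intro hc
    apply hM
    have e := key g⁻¹ hc
    have e' : g * x * g⁻¹ = x := by
      conv_lhs => rw [← e]
      group
    rw [e']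
    exact mem_sup_right h.mem_x
  obtain ⟨τ₀, hτ₀W, hτ₀⟩ := h.transv hI hg' hM' (hcube g⁻¹)
  set a := x
  set b := g * x * g⁻¹
  obtain ⟨s, hs⟩ : ∃ s, s = g * τ₀ * g⁻¹ := ⟨_, rfl⟩
  have hAa : τ * a * τ⁻¹ = a := by rw [h.comm_W hτW, mul_inv_cancel_right]
  have hBb : s * b * s⁻¹ = b := by
    rw [hs]
    calc g * τ₀ * g⁻¹ * (g * a * g⁻¹) * (g * τ₀ * g⁻¹)⁻¹ = g * (τ₀ * a) * τ₀⁻¹ * g⁻¹ := by group
      _ = b := by rw [h.comm_W hτ₀W]; show _ = g * a * g⁻¹; group
  have hBa : s * a * s⁻¹ = a * b := by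
    rw [hs]
    calc g * τ₀ * g⁻¹ * a * (g * τ₀ * g⁻¹)⁻¹ = g * (τ₀ * (g⁻¹ * a * g⁻¹⁻¹) * τ₀⁻¹) * g⁻¹ := by group
      _ = a * b := by rw [hτ₀]; show _ = a * (g * a * g⁻¹); group
  have hBia : s⁻¹ * a * s = a * b⁻¹ := by
    have e : s * (a * b⁻¹) * s⁻¹ = a := by
      calc s * (a * b⁻¹) * s⁻¹ = (s * a * s⁻¹) * (s * b * s⁻¹)⁻¹ := by group
        _ = a := by rw [hBa, hBb, mul_inv_cancel_right]
    calc s⁻¹ * a * s = s⁻¹ * (s * (a * b⁻¹) * s⁻¹) * s := by rw [e]
      _ = a * b⁻¹ := by group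
  have hBib : s⁻¹ * b * s = b := by
    calc s⁻¹ * b * s = s⁻¹ * (s * b * s⁻¹) * s := by rw [hBb]
      _ = b := by group
  obtain ⟨u, hu⟩ : ∃ u, u = τ * s⁻¹ * τ := ⟨_, rfl⟩
  have hua : u * a * u⁻¹ = b⁻¹ := by
    rw [hu]
    calc τ * s⁻¹ * τ * a * (τ * s⁻¹ * τ)⁻¹ = τ * (s⁻¹ * (τ * a * τ⁻¹) * s) * τ⁻¹ := by group
      _ = τ * (a * b⁻¹) * τ⁻¹ := by rw [hAa, hBia]
      _ = (τ * a * τ⁻¹) * (τ * b * τ⁻¹)⁻¹ := by group
      _ = b⁻¹ := by rw [hAa, hτ, mul_inv_rev, mul_inv_cancel_left]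
  have hub : u * b * u⁻¹ = a := by
    rw [hu]
    calc τ * s⁻¹ * τ * b * (τ * s⁻¹ * τ)⁻¹ = τ * (s⁻¹ * (τ * b * τ⁻¹) * s) * τ⁻¹ := by group
      _ = τ * ((s⁻¹ * b * s) * (s⁻¹ * a * s)) * τ⁻¹ := by rw [hτ]; group
      _ = τ * (b * (a * b⁻¹)) * τ⁻¹ := by rw [hBia, hBib]
      _ = a := by rw [← mul_assoc b, hg, mul_inv_cancel_right, hAa]
  exfalso
  refine h.real (u * u) ?_
  calc u * u * a * (u * u)⁻¹ = u * (u * a * u⁻¹) * u⁻¹ := by group
    _ = (u * b * u⁻¹)⁻¹ := by rw [hua]; group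
    _ = a⁻¹ := by rw [hub]

/-- A `⟨n⟩W` with small normaliser is a Sylow subgroup. -/
theorem exists_sylow [Finite L] [Fact (Nat.Prime 3)]
    (hN : ∀ (g : L) (P : Sylow 3 L), zpowers n ⊔ W ≤ P → g ∈ (P : Subgroup L) →
      g ∈ normalizer ((zpowers n ⊔ W : Subgroup L) : Set L) → g ∈ zpowers n ⊔ W) :
    ∃ P : Sylow 3 L, (P : Subgroup L) = zpowers n ⊔ W := by
  obtain ⟨P, hP⟩ := h.T_pgroup.exists_le_sylow
  exact ⟨P, (eq_of_normalizer 3 P.isPGroup' hP fun g hg hg' => hN g P hP hg hg').symm⟩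

/-- Case I: `n` does not centralise `W`. -/
theorem case_one [Finite L] (hI : ¬ ∀ w ∈ W, n * w = w * n) : False := by
  haveI : Fact (Nat.Prime 3) := ⟨Nat.prime_three⟩
  have hconjT : ∀ g : L, g * x * g⁻¹ ∈ zpowers n ⊔ W → g * x = x * g := by
    intro g hg
    have := h.weakly_closed hI g (h.T_le hg)
    rwa [mul_inv_eq_iff_eq_mul] at this
  obtain ⟨P, hP⟩ := h.exists_sylow (by
    intro g P hP hg hg'
    have hgC : g * x = x * g := hconjT g ((mem_normalizer_iff.1 hg' x).1 h.x_mem_T)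
    have hR : IsPGroup 3 ((P : Subgroup L) ⊓ centralizer ({x} : Set L) : Subgroup L) :=
      P.isPGroup'.to_le inf_le_left
    have hle : zpowers n ⊔ W ≤ (P : Subgroup L) ⊓ centralizer ({x} : Set L) :=
      le_inf hP fun t ht => mem_centralizer_singleton_iff.2 (h.T_le ht)
    rw [← h.T_max hR (fun r hr => mem_centralizer_singleton_iff.1 (mem_inf.1 hr).2) hle]
    exact ⟨hg, mem_centralizer_singleton_iff.2 hgC⟩)
  set C := centralizer ({x} : Set L) with hC
  have hnorm : ((V ⊔ W).subgroupOf C).Normal := by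
    refine ⟨fun m hm c => ?_⟩
    exact mem_subgroupOf.2 (h.M_norm (mem_centralizer_singleton_iff.1 c.2) (mem_subgroupOf.1 hm))
  let nC : C := ⟨n, mem_centralizer_singleton_iff.2 h.comm_nx⟩
  have hgen : ∀ c : C, ∃ i : ℕ, (c : C ⧸ (V ⊔ W).subgroupOf C) = (nC : C ⧸ (V ⊔ W).subgroupOf C) ^ i := by
    intro c
    obtain ⟨i, hi⟩ := h.cover_M (mem_centralizer_singleton_iff.1 c.2)
    refine ⟨i, ?_⟩
    rw [← QuotientGroup.mk_pow]
    refine (QuotientGroup.eq.2 ?_).symm
    exact mem_subgroupOf.2 (by simpa [nC] using hi)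
  letI instQ : CommGroup (C ⧸ (V ⊔ W).subgroupOf C) :=
    { (inferInstance : Group (C ⧸ (V ⊔ W).subgroupOf C)) with
      mul_comm := by
        intro a b
        obtain ⟨a, rfl⟩ := QuotientGroup.mk_surjective a
        obtain ⟨b, rfl⟩ := QuotientGroup.mk_surjective b
        obtain ⟨i, hi⟩ := hgen a
        obtain ⟨j, hj⟩ := hgen b
        rw [hi, hj, ← pow_add, ← pow_add, add_comm] }
  have hPC : (P : Subgroup L) ≤ C := fun t ht =>
    mem_centralizer_singleton_iff.2 (h.T_le (hP ▸ ht : t ∈ zpowers n ⊔ W))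
  let ψ : (P : Subgroup L) →* C ⧸ (V ⊔ W).subgroupOf C :=
    (QuotientGroup.mk' _).comp (Subgroup.inclusion hPC)
  have hnP : n ∈ (P : Subgroup L) := hP ▸ h.n_mem_T
  have hψn : ψ ⟨n, hnP⟩ = 1 := by
    refine transfer_kill h.perfect 3 P ψ ⟨n, hnP⟩ fun k g hb => ?_
    simp only at hb
    have haC : n ^ k * x = x * n ^ k := (Commute.pow_left (h.comm_nx : Commute n x) k).eq
    set a := n ^ k
    have hbC : g⁻¹ * a * g * x = x * (g⁻¹ * a * g) := mem_centralizer_singleton_iff.1 (hPC hb)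
    obtain ⟨x'', hx''⟩ : ∃ x'', x'' = g * x * g⁻¹ := ⟨_, rfl⟩
    set D := centralizer ({a} : Set L)
    have hxD : x ∈ D := mem_centralizer_singleton_iff.2 haC.symm
    have hx''D : x'' ∈ D := by
      refine mem_centralizer_singleton_iff.2 ?_
      rw [hx'']
      calc g * x * g⁻¹ * a = g * (x * (g⁻¹ * a * g)) * g⁻¹ := by group
        _ = g * (g⁻¹ * a * g * x) * g⁻¹ := by rw [hbC]
        _ = a * (g * x * g⁻¹) := by group
    have hz : ∀ t : D, (t : L) ^ 3 = 1 → IsPGroup 3 (zpowers t) := by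
      intro t ht y
      obtain ⟨i, hi⟩ := mem_zpowers_iff.1 y.2
      refine ⟨1, Subtype.ext ?_⟩
      have ht' : t ^ 3 = 1 := Subtype.ext ht
      rw [SubgroupClass.coe_pow, OneMemClass.coe_one, ← hi, pow_one, ← zpow_natCast, ← zpow_mul, mul_comm,
        zpow_mul, zpow_natCast, ht', one_zpow]
    obtain ⟨R, hR⟩ := (hz ⟨x, hxD⟩ h.x_pow).exists_le_sylow
    obtain ⟨d, hd⟩ := conj_into_sylow 3 R (hz ⟨x'', hx''D⟩ (by
      show x'' ^ 3 = 1
      rw [hx'', conj_pow, h.x_pow]; group))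
    obtain ⟨e, he⟩ := conj_into_sylow 3 P (R.isPGroup'.map D.subtype)
    have he1 : e * x = x * e := by
      refine hconjT e ?_
      rw [← hP]
      exact he x ⟨⟨x, hxD⟩, hR (mem_zpowers _), rfl⟩
    have he2 : e * ((d : L) * x'' * (d : L)⁻¹) * e⁻¹ ∈ (P : Subgroup L) :=
      he _ ⟨_, hd _ (mem_zpowers _), rfl⟩
    have he3 : e * (d : L) * g * x = x * (e * (d : L) * g) := by
      refine hconjT _ ?_
      rw [← hP]
      rw [hx''] at he2
      convert he2 using 1
      group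
    have hdg : (d : L) * g * x = x * ((d : L) * g) := by
      calc (d : L) * g * x = e⁻¹ * (e * (d : L) * g * x) := by group
        _ = e⁻¹ * x * e * ((d : L) * g) := by rw [he3]; group
        _ = x * ((d : L) * g) := by rw [mul_assoc e⁻¹ x e, ← he1, inv_mul_cancel_left]
    have hda : (d : L) * a = a * (d : L) := mem_centralizer_singleton_iff.1 d.2
    let c : C := ⟨(d : L) * g, mem_centralizer_singleton_iff.2 hdg⟩
    have hval : Subgroup.inclusion hPC ⟨_, hb⟩ = c⁻¹ * nC ^ k * c := by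
      refine Subtype.ext ?_
      simp only [coe_inclusion, coe_mul, InvMemClass.coe_inv, SubgroupClass.coe_pow, c, nC]
      calc g⁻¹ * a * g = g⁻¹ * (d : L)⁻¹ * ((d : L) * a) * g := by group
        _ = ((d : L) * g)⁻¹ * n ^ k * ((d : L) * g) := by rw [hda]; simp only [mul_inv_rev, mul_assoc, a]
    change QuotientGroup.mk' _ (Subgroup.inclusion hPC ⟨_, hb⟩) = _
    rw [hval, map_mul, map_mul, map_inv, mul_comm (_)⁻¹, inv_mul_cancel_right, map_pow]
    rfl
  exact h.n_not_mem (mem_subgroupOf.1 ((QuotientGroup.eq_one_iff _).1 hψn))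

/-- Case II: `⟨n⟩W` is abelian. -/
theorem T_comm (hII : ∀ w ∈ W, n * w = w * n) :
    ∀ a ∈ zpowers n ⊔ W, ∀ b ∈ zpowers n ⊔ W, a * b = b * a := by
  have hle : zpowers n ⊔ W ≤ centralizer (({n} : Set L) ∪ (W : Set L)) := by
    refine sup_le (zpowers_le.2 ?_) fun w hw => ?_ <;> rw [mem_centralizer_iff]
    · rintro t (rfl | ht)
      · rfl
      · exact (hII t ht).symm
    · rintro t (rfl | ht)
      · exact hII w hw
      · exact h.commW t ht w hw
  intro a ha b hb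
  have h1 : zpowers n ⊔ W ≤ centralizer ({a} : Set L) := by
    refine sup_le (zpowers_le.2 ?_) fun w hw => ?_ <;> rw [mem_centralizer_singleton_iff]
    · exact mem_centralizer_iff.1 (hle ha) n (Or.inl rfl)
    · exact mem_centralizer_iff.1 (hle ha) w (Or.inr hw)
  exact (mem_centralizer_singleton_iff.1 (h1 hb)).symm

/-- Case II: the centraliser meets the normaliser of `⟨n⟩W` in itself. -/
theorem norm_inter {k : L} (hk : k * x = x * k)
    (hN : k ∈ normalizer ((zpowers n ⊔ W : Subgroup L) : Set L)) : k ∈ zpowers n ⊔ W := by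
  obtain ⟨i, v, hv, w, hw, rfl⟩ := h.cover k hk
  have hni : n ^ i ∈ zpowers n ⊔ W := pow_mem h.n_mem_T i
  have hwT : w ∈ zpowers n ⊔ W := mem_sup_right hw
  have hvN : v ∈ normalizer ((zpowers n ⊔ W : Subgroup L) : Set L) := by
    have := mul_mem (mul_mem (inv_mem (le_normalizer hni)) hN) (inv_mem (le_normalizer hwT))
    have e : (n ^ i)⁻¹ * (n ^ i * v * w) * w⁻¹ = v := by group
    rwa [e] at this
  have hv1 : v = 1 := by
    refine h.free v hv ?_
    obtain ⟨j, hj⟩ := h.T_pgroup ⟨v * n * v⁻¹ * n⁻¹,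
      mul_mem ((mem_normalizer_iff.1 hvN n).1 h.n_mem_T) (inv_mem h.n_mem_T)⟩
    have hV : v * n * v⁻¹ * n⁻¹ ∈ V := by
      have e : v * n * v⁻¹ * n⁻¹ = v * (n * v⁻¹ * n⁻¹) := by group
      rw [e]
      exact mul_mem hv ((mem_normalizer_iff.1 h.normV v⁻¹).1 (inv_mem hv))
    have e1 := h.V_three hV (k := j) (congrArg Subtype.val hj)
    calc n * v = (v * n * v⁻¹ * n⁻¹)⁻¹ * (v * n) := by group
      _ = v * n := by rw [e1, inv_one, one_mul]
  rw [hv1, mul_one]
  exact mul_mem hni hwT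

/-- Case IIa: some element of `⟨n⟩W` has a non-trivial cube. -/
theorem case_two_a [Finite L] (hII : ∀ w ∈ W, n * w = w * n) {y : L} (hy : y ∈ zpowers n ⊔ W)
    (hy3 : y ^ 3 ≠ 1) : False := by
  haveI : Fact (Nat.Prime 3) := ⟨Nat.prime_three⟩
  have hcubes : ∀ t ∈ zpowers n ⊔ W, (t ^ 3) ^ 3 = 1 → t ^ 3 ∈ zpowers x := by
    intro t ht h9
    refine h.fixW _ ?_ h9 ?_
    · obtain ⟨j, hj⟩ := h.T_pgroup ⟨t, ht⟩
      refine h.mem_W_of_M (h.cube_mem (h.T_le ht)) (k := j) ?_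
      have hj' : t ^ 3 ^ j = 1 := congrArg Subtype.val hj
      rw [← pow_mul, mul_comm, pow_mul, hj', one_pow]
    · exact h.T_comm hII n h.n_mem_T _ (pow_mem ht 3)
  obtain ⟨z, hz, hzx⟩ : ∃ z ∈ zpowers n ⊔ W, z ^ 3 = x := by
    obtain ⟨k, hk⟩ := h.T_pgroup ⟨y, hy⟩
    have hk' : y ^ 3 ^ k = 1 := congrArg Subtype.val hk
    obtain ⟨j, hj1, hj2⟩ := exists_order_three (y ^ 3) hy3
      ⟨k, by rw [← pow_mul, mul_comm, pow_mul, hk', one_pow]⟩
    have e : (y ^ 3) ^ 3 ^ j = (y ^ 3 ^ j) ^ 3 := by rw [← pow_mul, ← pow_mul, mul_comm]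
    rw [e] at hj1 hj2
    obtain ⟨m, hm⟩ := mem_powers_iff_mem_zpowers.2 (hcubes _ (pow_mem hy _) hj2)
    simp only at hm
    have hm3 : ¬ 3 ∣ m := by
      rintro ⟨m, rfl⟩
      rw [pow_mul, h.x_pow, one_pow] at hm
      exact hj1 hm.symm
    refine ⟨(y ^ 3 ^ j) ^ m, pow_mem (pow_mem hy _) _, ?_⟩
    rw [← pow_mul, mul_comm, pow_mul, ← hm, ← pow_mul, ← pow_mod_orderOf, h.order_x]
    have : m % 3 = 1 ∨ m % 3 = 2 := by omega
    rcases this with e | e <;>
      · rw [Nat.mul_mod, e, pow_one]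
  have hxk : ∀ k ∈ normalizer ((zpowers n ⊔ W : Subgroup L) : Set L), k ∈ zpowers n ⊔ W := by
    intro k hk
    refine h.norm_inter ?_ hk
    have hmem : k * x * k⁻¹ ∈ zpowers x := by
      have e : k * x * k⁻¹ = (k * z * k⁻¹) ^ 3 := by rw [conj_pow, hzx]
      rw [e]
      refine hcubes _ ((mem_normalizer_iff.1 hk z).1 hz) ?_
      rw [conj_pow, hzx, conj_pow, h.x_pow]
      group
    obtain ⟨m, hm⟩ := mem_powers_iff_mem_zpowers.2 hmem
    simp only at hm
    rw [← pow_mod_orderOf, h.order_x] at hm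
    rcases (show m % 3 = 0 ∨ m % 3 = 1 ∨ m % 3 = 2 by omega) with e | e | e <;> rw [e] at hm
    · rw [pow_zero, eq_comm, conj_eq_one_iff] at hm
      exact absurd hm h.x_ne
    · rw [pow_one] at hm
      exact mul_inv_eq_iff_eq_mul.1 hm.symm
    · refine absurd ?_ (h.real k)
      rw [← hm, eq_inv_iff_mul_eq_one, ← pow_succ, h.x_pow]
  obtain ⟨P, hP⟩ := h.exists_sylow fun g P _ _ hg => hxk g hg
  haveI hPcomm : IsMulCommutative P :=
    ⟨⟨fun a b => Subtype.ext (h.T_comm hII a (hP ▸ a.2) b (hP ▸ b.2))⟩⟩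
  letI instP : CommGroup (P : Subgroup L) :=
    { (inferInstance : Group (P : Subgroup L)) with
      mul_comm := fun a b => Subtype.ext (h.T_comm hII a (hP ▸ a.2) b (hP ▸ b.2)) }
  have hxP : x ∈ (P : Subgroup L) := hP ▸ h.x_mem_T
  have := transfer_kill h.perfect 3 P (MonoidHom.id _) ⟨x, hxP⟩ (by
    intro k g hb
    obtain ⟨c, hc, hcg⟩ := P.conj_eq_normalizer_conj_of_mem (x ^ k) g (pow_mem hxP k) hb
    refine Subtype.ext ?_
    simp only [MonoidHom.id_apply, SubgroupClass.coe_pow]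
    rw [hcg]
    have hcT : c ∈ zpowers n ⊔ W := hxk c (hP ▸ hc)
    calc c⁻¹ * x ^ k * c = c⁻¹ * (x ^ k * c) := by group
      _ = x ^ k := by rw [h.T_comm hII _ (pow_mem h.x_mem_T k) c hcT, inv_mul_cancel_left])
  exact h.x_ne (congrArg Subtype.val this)

/-- In Case IIb `W` is generated by `x`. -/
theorem W_eq (hII : ∀ w ∈ W, n * w = w * n) (hexp : ∀ y ∈ zpowers n ⊔ W, y ^ 3 = 1) : W = zpowers x :=
  le_antisymm (fun w hw => h.fixW w hw (hexp w (mem_sup_right hw)) (hII w hw)) (zpowers_le.2 h.mem_x)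

theorem card_W (hII : ∀ w ∈ W, n * w = w * n) (hexp : ∀ y ∈ zpowers n ⊔ W, y ^ 3 = 1) : Nat.card W = 3 := by
  rw [h.W_eq hII hexp, Nat.card_zpowers, h.order_x]

theorem card_T [Finite L] [Fact (Nat.Prime 3)] (hII : ∀ w ∈ W, n * w = w * n)
    (hexp : ∀ y ∈ zpowers n ⊔ W, y ^ 3 = 1) : Nat.card (zpowers n ⊔ W : Subgroup L) = 9 := by
  let f : Fin 3 × Fin 3 → (zpowers n ⊔ W : Subgroup L) := fun p =>
    ⟨n ^ (p.1 : ℕ) * x ^ (p.2 : ℕ), mul_mem (pow_mem h.n_mem_T _) (pow_mem h.x_mem_T _)⟩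
  have hf : Function.Surjective f := by
    rintro ⟨g, hg⟩
    obtain ⟨i, v, hv, w, hw, rfl⟩ := h.cover g (h.T_le hg)
    have hvT : v ∈ zpowers n ⊔ W := by
      have := mul_mem (mul_mem (inv_mem (pow_mem h.n_mem_T i)) hg) (inv_mem (mem_sup_right hw))
      have e : (n ^ i)⁻¹ * (n ^ i * v * w) * w⁻¹ = v := by group
      rwa [e] at this
    have hv1 : v = 1 := h.V_three hv (k := 1) (by rw [pow_one]; exact hexp v hvT)
    rw [h.W_eq hII hexp] at hw
    obtain ⟨j, rfl⟩ := mem_powers_iff_mem_zpowers.2 hw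
    refine ⟨(⟨i % 3, Nat.mod_lt _ (by norm_num)⟩, ⟨j % 3, Nat.mod_lt _ (by norm_num)⟩), Subtype.ext ?_⟩
    show n ^ (i % 3) * x ^ (j % 3) = n ^ i * v * x ^ j
    rw [hv1, mul_one, ← pow_eq_pow_mod i (hexp n h.n_mem_T), ← pow_eq_pow_mod j h.x_pow]
  have hle : Nat.card (zpowers n ⊔ W : Subgroup L) ≤ 9 := by
    refine (Nat.card_le_card_of_surjective f hf).trans ?_
    simp
  obtain ⟨k, hk⟩ := IsPGroup.iff_card.1 h.T_pgroup
  have hlt : 3 < Nat.card (zpowers n ⊔ W : Subgroup L) := by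
    by_contra hle'
    push Not at hle'
    have e : W = zpowers n ⊔ W := eq_of_le_of_card_ge le_sup_right (by rw [h.card_W hII hexp]; exact hle')
    exact h.n_not_mem (mem_sup_right (e.symm ▸ h.n_mem_T : n ∈ W))
  have hk2 : k = 2 := by
    rcases (show k ≤ 1 ∨ k = 2 ∨ 3 ≤ k by omega) with e | e | e
    · have := Nat.pow_le_pow_right (show 0 < 3 by norm_num) e
      omega
    · exact e
    · have := Nat.pow_le_pow_right (show 0 < 3 by norm_num) e
      omega
  rw [hk, hk2]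
  norm_num

/-- Case IIb, the normaliser of `⟨n⟩W` acting by a group of order prime to three. -/
theorem case_sylow [Finite L] (hII : ∀ w ∈ W, n * w = w * n) (hexp : ∀ y ∈ zpowers n ⊔ W, y ^ 3 = 1)
    (h3 : ¬ 3 ∣ Nat.card (zpowers n ⊔ W : Subgroup L).normalizerMonoidHom.range) : False := by
  haveI : Fact (Nat.Prime 3) := ⟨Nat.prime_three⟩
  letI instT : CommGroup (zpowers n ⊔ W : Subgroup L) :=
    { (inferInstance : Group (zpowers n ⊔ W : Subgroup L)) with
      mul_comm := fun a b => Subtype.ext (h.T_comm hII a a.2 b b.2) }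
  set φ := (zpowers n ⊔ W : Subgroup L).normalizerMonoidHom
  let a : (zpowers n ⊔ W : Subgroup L) := ⟨x, h.x_mem_T⟩
  have hval : ∀ k, ((φ k a : (zpowers n ⊔ W : Subgroup L)) : L) = k * x * (k : L)⁻¹ := fun k => rfl
  have hanti : ∀ k, φ k a ≠ a⁻¹ := fun k e => h.real k ((hval k).symm.trans (congrArg Subtype.val e))
  have hfix : ∀ k, φ k a = a → (k : L) ∈ zpowers n ⊔ W := fun k e =>
    h.norm_inter (mul_inv_eq_iff_eq_mul.1 ((hval k).symm.trans (congrArg Subtype.val e))) k.2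
  have hfree : ∀ k, φ k a = a → φ k = 1 := by
    refine fun k e => MulEquiv.ext fun t => Subtype.ext ?_
    show (k : L) * t * (k : L)⁻¹ = t
    rw [h.T_comm hII _ (hfix k e) _ t.2, mul_inv_cancel_right]
  obtain ⟨b, hb1, hba, hb⟩ := (orbit_small φ (h.card_T hII hexp) a hanti hfree).2 h3
  obtain ⟨P, hP⟩ := h.exists_sylow (by
    intro g P _ hg hg'
    refine hfix ⟨g, hg'⟩ ?_
    obtain ⟨j, hj⟩ := P.isPGroup' ⟨g, hg⟩
    have hj' : g ^ 3 ^ j = 1 := congrArg Subtype.val hj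
    have h1 : φ ⟨g, hg'⟩ ^ 3 ^ j = 1 := by
      rw [← map_pow, ← map_one φ]
      exact congrArg φ (Subtype.ext hj')
    have h2 : φ ⟨g, hg'⟩ ^ Nat.card φ.range = 1 :=
      congrArg Subtype.val (pow_card_eq_one' (x := (⟨φ ⟨g, hg'⟩, _, rfl⟩ : φ.range)))
    have h4 := pow_gcd_eq_one.2 ⟨h1, h2⟩
    rw [Nat.coprime_iff_gcd_eq_one.1 ((Nat.prime_three.coprime_iff_not_dvd.2 h3).pow_left j), pow_one] at h4
    rw [h4]
    rfl)
  have hPT : (P : Subgroup L) ≤ zpowers n ⊔ W := hP.le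
  haveI hPcomm : IsMulCommutative P :=
    ⟨⟨fun c d => Subtype.ext (h.T_comm hII c (hPT c.2) d (hPT d.2))⟩⟩
  have hxP : x ∈ (P : Subgroup L) := hP ▸ h.x_mem_T
  let ψ : (P : Subgroup L) →* (zpowers n ⊔ W : Subgroup L) ⧸ zpowers (a * b⁻¹) :=
    (QuotientGroup.mk' _).comp (Subgroup.inclusion hPT)
  have hk := transfer_kill_cube h.perfect P ψ ⟨x, hxP⟩ h.x_pow (by
    intro g hgP
    obtain ⟨c, hc, hcg⟩ := P.conj_eq_normalizer_conj_of_mem x g hxP hgP
    have hc' : c⁻¹ ∈ normalizer ((zpowers n ⊔ W : Subgroup L) : Set L) := inv_mem (hP ▸ hc)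
    have e : Subgroup.inclusion hPT ⟨_, hgP⟩ = φ ⟨c⁻¹, hc'⟩ a := by
      refine Subtype.ext ?_
      rw [hval, inv_inv]
      exact hcg
    show QuotientGroup.mk' _ (Subgroup.inclusion hPT ⟨_, hgP⟩) =
      QuotientGroup.mk' (zpowers (a * b⁻¹)) a
    rw [e]
    rcases hb ⟨c⁻¹, hc'⟩ with e' | e' <;> rw [e']
    refine QuotientGroup.eq.2 ?_
    rw [mul_comm]
    exact mem_zpowers _)
  refine not_mem_diff (fun t => Subtype.ext (hexp t t.2)) ?_ hb1 hba ((QuotientGroup.eq_one_iff a).1 hk)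
  exact fun e => h.x_ne (congrArg Subtype.val e)

/-- An element `z` centralising a Sylow subgroup of order at least 27 is not conjugate to `x` or `x⁻¹`. -/
theorem not_conj [Finite L] [Fact (Nat.Prime 3)] (hT : Nat.card (zpowers n ⊔ W : Subgroup L) = 9)
    {P : Subgroup L} (hP : IsPGroup 3 P) (hcard : 9 < Nat.card P) (u : L)
    (hu : ∀ p ∈ P, p * (u * x * u⁻¹) = u * x * u⁻¹ * p) : False := by
  obtain ⟨c, -, hc⟩ := h.conj_T (R := P.map (MulAut.conj u⁻¹).toMonoidHom) (hP.map _) (by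
    rintro _ ⟨p, hp, rfl⟩
    show u⁻¹ * p * u⁻¹⁻¹ * x = x * (u⁻¹ * p * u⁻¹⁻¹)
    calc u⁻¹ * p * u⁻¹⁻¹ * x = u⁻¹ * (p * (u * x * u⁻¹)) * u := by group
      _ = x * (u⁻¹ * p * u⁻¹⁻¹) := by rw [hu p hp]; group)
  let f : P → (zpowers n ⊔ W : Subgroup L) := fun p => ⟨_, hc _ ⟨p, p.2, rfl⟩⟩
  have hf : Function.Injective f := fun p q e =>
    Subtype.ext ((MulEquiv.injective _) (mul_left_cancel (mul_right_cancel (congrArg Subtype.val e))))
  have := Nat.card_le_card_of_injective f hf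
  omega

/-- Case IIb, an element of order three acting on `⟨n⟩W`. -/
theorem case_big [Finite L] (hII : ∀ w ∈ W, n * w = w * n) (hexp : ∀ y ∈ zpowers n ⊔ W, y ^ 3 = 1)
    (h27 : Nat.card W = 3 → ∀ w ∈ (closure {x, n} : Subgroup L), w ∉ zpowers x → w ^ 3 = 1 →
      Cfsg.IsPClosed 3 (centralizer ({w} : Set L)) ∨ Cfsg.HasNormalPComplement 3 (centralizer ({w} : Set L)) ∨
        ¬ 27 ∣ Nat.card (centralizer ({w} : Set L)))
    (h3 : 3 ∣ Nat.card (zpowers n ⊔ W : Subgroup L).normalizerMonoidHom.range) : False := by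
  classical
  haveI : Fact (Nat.Prime 3) := ⟨Nat.prime_three⟩
  letI instT : CommGroup (zpowers n ⊔ W : Subgroup L) :=
    { (inferInstance : Group (zpowers n ⊔ W : Subgroup L)) with
      mul_comm := fun a b => Subtype.ext (h.T_comm hII a a.2 b b.2) }
  have hcT := h.card_T hII hexp
  set N := normalizer ((zpowers n ⊔ W : Subgroup L) : Set L) with hNdef
  set φ := (zpowers n ⊔ W : Subgroup L).normalizerMonoidHom
  let a : (zpowers n ⊔ W : Subgroup L) := ⟨x, h.x_mem_T⟩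
  have hval : ∀ k t, ((φ k t : (zpowers n ⊔ W : Subgroup L)) : L) = k * t * (k : L)⁻¹ := fun k t => rfl
  have hanti : ∀ k, φ k a ≠ a⁻¹ := fun k e => h.real k ((hval k a).symm.trans (congrArg Subtype.val e))
  have hfix : ∀ k, φ k a = a → (k : L) ∈ zpowers n ⊔ W := fun k e =>
    h.norm_inter (mul_inv_eq_iff_eq_mul.1 ((hval k a).symm.trans (congrArg Subtype.val e))) k.2
  have hfree : ∀ k, φ k a = a → φ k = 1 := by
    refine fun k e => MulEquiv.ext fun t => Subtype.ext ?_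
    rw [hval, h.T_comm hII _ (hfix k e) _ t.2, mul_inv_cancel_right]
    rfl
  have hr : Nat.card φ.range = 3 := by
    have h1 := (orbit_small φ hcT a hanti hfree).1
    have h2 : 0 < Nat.card φ.range := Nat.card_pos
    have h4 := Nat.le_of_dvd h2 h3
    omega
  have hker : φ.ker = (zpowers n ⊔ W : Subgroup L).subgroupOf N := by
    refine le_antisymm (fun k hk => mem_subgroupOf.2 (hfix k ?_)) fun k hk => ?_
    · rw [MonoidHom.mem_ker.1 hk]
      rfl
    · refine MonoidHom.mem_ker.2 (hfree k (Subtype.ext ?_))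
      rw [hval, h.T_comm hII _ (mem_subgroupOf.1 hk) _ a.2, mul_inv_cancel_right]
  have hcN : Nat.card N = 27 := by
    rw [← φ.ker.card_mul_index, index_ker, hr, hker,
      Nat.card_congr (Subgroup.subgroupOfEquivOfLe le_normalizer).toEquiv, hcT]
  obtain ⟨P, hNP⟩ := (IsPGroup.of_card (p := 3) (n := 3) (by rw [hcN]; norm_num) : IsPGroup 3 N).exists_le_sylow
  have hTP : zpowers n ⊔ W ≤ (P : Subgroup L) := le_normalizer.trans hNP
  have hCP : ∀ g ∈ (P : Subgroup L), g * x = x * g → g ∈ zpowers n ⊔ W := by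
    intro g hg hgx
    rw [← h.T_max (R := (P : Subgroup L) ⊓ centralizer ({x} : Set L)) (P.isPGroup'.to_le inf_le_left)
      (fun r hr => mem_centralizer_singleton_iff.1 (mem_inf.1 hr).2)
      (le_inf hTP fun t ht => mem_centralizer_singleton_iff.2 (h.T_le ht))]
    exact ⟨hg, mem_centralizer_singleton_iff.2 hgx⟩
  have hcP : 9 < Nat.card (P : Subgroup L) := by
    have := card_le_of_le hNP
    omega
  obtain ⟨k0, hk0P, hk0⟩ : ∃ k ∈ (P : Subgroup L), k * x ≠ x * k := by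
    by_contra hall
    push Not at hall
    have e : (P : Subgroup L) = zpowers n ⊔ W :=
      le_antisymm (fun g hg => hCP g hg (hall g hg)) hTP
    rw [e, hcT] at hcP
    omega
  let xP : (P : Subgroup L) := ⟨x, hTP h.x_mem_T⟩
  have hne : ∃ c d : (P : Subgroup L), c * d ≠ d * c :=
    ⟨⟨k0, hk0P⟩, xP, fun e => hk0 (congrArg Subtype.val e)⟩
  have hxc : Nat.card (centralizer ({xP} : Set (P : Subgroup L))) = 9 := by
    have e : centralizer ({xP} : Set (P : Subgroup L)) = (zpowers n ⊔ W).subgroupOf P := by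
      ext g
      rw [mem_centralizer_singleton_iff, mem_subgroupOf]
      exact ⟨fun e => hCP g g.2 (congrArg Subtype.val e), fun e => Subtype.ext (h.T_le e)⟩
    rw [e, Nat.card_congr (Subgroup.subgroupOfEquivOfLe hTP).toEquiv, hcT]
  obtain ⟨hAb, hAb3, hclass⟩ := class_eq_coset P.isPGroup' hne xP hxc
  obtain ⟨z, hzT, hz1, hzP⟩ : ∃ z ∈ zpowers n ⊔ W, z ≠ 1 ∧ ∀ g ∈ (P : Subgroup L), g * z = z * g := by
    haveI : Nontrivial (P : Subgroup L) := ⟨⟨xP, 1, fun e => h.x_ne (congrArg Subtype.val e)⟩⟩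
    haveI := P.isPGroup'.center_nontrivial
    obtain ⟨⟨zc, hzc⟩, hne1⟩ := exists_ne (1 : center (P : Subgroup L))
    have hcomm : ∀ g ∈ (P : Subgroup L), g * (zc : L) = zc * g := fun g hg =>
      congrArg Subtype.val (mem_center_iff.1 hzc ⟨g, hg⟩)
    exact ⟨zc, hCP zc zc.2 (hcomm x xP.2).symm, fun e => hne1 (Subtype.ext (Subtype.ext e)), hcomm⟩
  have hz3 : z ^ 3 = 1 := hexp z hzT
  have hzo : orderOf z = 3 := orderOf_eq_prime hz3 hz1
  have hzx : z ∉ zpowers x := by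
    intro hz
    have e : zpowers z = zpowers x := eq_of_le_of_card_ge (zpowers_le.2 hz)
      (by rw [Nat.card_zpowers, Nat.card_zpowers, hzo, h.order_x])
    obtain ⟨i, hi⟩ := mem_zpowers_iff.1 (e.symm ▸ mem_zpowers x : x ∈ zpowers z)
    exact hk0 (hi ▸ (Commute.zpow_right (hzP k0 hk0P) i).eq)
  have hmove : ∀ t : (zpowers n ⊔ W : Subgroup L),
      t ∉ zpowers (⟨z, hzT⟩ : (zpowers n ⊔ W : Subgroup L)) → ∃ k, φ k a = t ∨ φ k a = t⁻¹ := by
    set Z := zpowers (⟨z, hzT⟩ : (zpowers n ⊔ W : Subgroup L)) with hZ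
    have haZ : a ∉ Z := by
      intro ha
      obtain ⟨i, hi⟩ := mem_zpowers_iff.1 ha
      have hi' : z ^ i = x := congrArg Subtype.val hi
      exact hk0 (hi' ▸ (Commute.zpow_right (hzP k0 hk0P) i).eq)
    have hZfix : ∀ k, ∀ u ∈ Z, φ k u = u := by
      intro k u hu
      obtain ⟨i, rfl⟩ := mem_zpowers_iff.1 hu
      refine Subtype.ext ?_
      rw [hval, SubgroupClass.coe_zpow]
      rw [(Commute.zpow_right (hzP k (hNP k.2)) i).eq, mul_inv_cancel_right]
    have hout : ∀ k, φ k a ∉ Z := fun k hk => haZ (by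
      have e := (φ k).injective (hZfix k _ hk)
      rwa [e] at hk)
    let f : φ.range → (zpowers n ⊔ W : Subgroup L) := fun r => (r : MulAut _) a
    have finj : Function.Injective f := by
      rintro ⟨_, k, rfl⟩ ⟨_, k', rfl⟩ e
      have h1 : φ (k'⁻¹ * k) a = a := by
        rw [map_mul, MulAut.mul_apply, map_inv]
        exact (congrArg _ e).trans (MulAut.inv_apply_self _ _ _)
      have := hfree _ h1
      rw [map_mul, map_inv, inv_mul_eq_one] at this
      exact Subtype.ext this.symm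
    have fanti : ∀ r r', f r ≠ (f r')⁻¹ := by
      rintro ⟨_, k, rfl⟩ ⟨_, k', rfl⟩ e
      refine hanti (k'⁻¹ * k) ?_
      rw [map_mul, MulAut.mul_apply, map_inv]
      refine (congrArg _ e).trans ?_
      show (φ k')⁻¹ (φ k' a)⁻¹ = a⁻¹
      rw [map_inv, MulAut.inv_apply_self]
    have hfo : ∀ r, f r ∉ Z := by
      rintro ⟨_, k, rfl⟩
      exact hout k
    let F : φ.range ⊕ φ.range → {t : (zpowers n ⊔ W : Subgroup L) // t ∉ Z} :=
      Sum.elim (fun r => ⟨f r, hfo r⟩) fun r => ⟨(f r)⁻¹, fun hm => hfo r (inv_mem_iff.1 hm)⟩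
    have Finj : Function.Injective F := by
      rintro (r | r) (r' | r') e <;> have e' := congrArg Subtype.val e
      · exact congrArg Sum.inl (finj e')
      · exact absurd e' (fanti r r')
      · exact absurd e'.symm (fanti r' r)
      · exact congrArg Sum.inr (finj (inv_injective e'))
    have hcard : Nat.card {t : (zpowers n ⊔ W : Subgroup L) // t ∉ Z} = 6 := by
      haveI := Fintype.ofFinite (zpowers n ⊔ W : Subgroup L)
      have h1 : Nat.card Z = 3 := by
        rw [hZ, Nat.card_zpowers, orderOf_mk, hzo]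
      rw [Nat.card_eq_fintype_card, Fintype.card_subtype_compl, ← Nat.card_eq_fintype_card,
        ← Nat.card_eq_fintype_card, hcT]
      change 9 - Nat.card Z = 6
      rw [h1]
    have Fbij : Function.Bijective F := (Nat.bijective_iff_injective_and_card F).2
      ⟨Finj, by rw [Nat.card_sum, hr, hcard]⟩
    intro t ht
    obtain ⟨(⟨_, k, rfl⟩ | ⟨_, k, rfl⟩), e⟩ := Fbij.2 ⟨t, ht⟩
    · exact ⟨k, Or.inl (congrArg Subtype.val e)⟩
    · refine ⟨k, Or.inr ?_⟩
      have e' : (φ k a)⁻¹ = t := congrArg Subtype.val e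
      rw [← e', inv_inv]
  have hconj : ∀ g : L, g * x * g⁻¹ ∈ (P : Subgroup L) → ∃ m ∈ normalizer ((P : Subgroup L) : Set L),
      g * x * g⁻¹ = m * x * m⁻¹ := by
    intro g hg
    obtain ⟨c, hcx, hc⟩ := h.conj_T (R := zpowers (g⁻¹ * z * g)) (by
      intro y
      obtain ⟨i, hi⟩ := mem_zpowers_iff.1 y.2
      have e3 : (g⁻¹ * z * g) ^ 3 = 1 := by
        have := conj_pow (i := 3) (a := g⁻¹) (b := z)
        rw [inv_inv] at this
        rw [this, hz3]; group
      refine ⟨1, Subtype.ext ?_⟩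
      rw [SubgroupClass.coe_pow, OneMemClass.coe_one, ← hi, pow_one, ← zpow_natCast, ← zpow_mul, mul_comm,
        zpow_mul, zpow_natCast, e3, one_zpow]) (by
      intro r hr
      obtain ⟨i, rfl⟩ := mem_zpowers_iff.1 hr
      refine (Commute.zpow_left (show Commute (g⁻¹ * z * g) x from ?_) i).eq
      calc g⁻¹ * z * g * x = g⁻¹ * (z * (g * x * g⁻¹)) * g := by group
        _ = x * (g⁻¹ * z * g) := by rw [← hzP _ hg]; group)
    obtain ⟨t, ht⟩ : ∃ t : (zpowers n ⊔ W : Subgroup L), (t : L) = c * g⁻¹ * z * (c * g⁻¹)⁻¹ := by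
      refine ⟨⟨_, hc _ (mem_zpowers _)⟩, ?_⟩
      show c * (g⁻¹ * z * g) * c⁻¹ = _
      group
    have htz : t ∈ zpowers (⟨z, hzT⟩ : (zpowers n ⊔ W : Subgroup L)) := by
      by_contra htz
      obtain ⟨k, hk | hk⟩ := hmove t htz
      · refine h.not_conj hcT P.isPGroup' hcP ((c * g⁻¹)⁻¹ * k) fun p hp => ?_
        have hk' : (k : L) * x * (k : L)⁻¹ = c * g⁻¹ * z * (c * g⁻¹)⁻¹ :=
          ((hval k a).symm.trans (congrArg Subtype.val hk)).trans ht
        have e : (c * g⁻¹)⁻¹ * k * x * ((c * g⁻¹)⁻¹ * k)⁻¹ = z := by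
          calc (c * g⁻¹)⁻¹ * k * x * ((c * g⁻¹)⁻¹ * k)⁻¹
              = (c * g⁻¹)⁻¹ * ((k : L) * x * (k : L)⁻¹) * (c * g⁻¹) := by group
            _ = z := by rw [hk']; group
        rw [e]
        exact hzP p hp
      · refine h.not_conj hcT P.isPGroup' hcP ((c * g⁻¹)⁻¹ * k) fun p hp => ?_
        have hk' : (k : L) * x * (k : L)⁻¹ = (c * g⁻¹ * z * (c * g⁻¹)⁻¹)⁻¹ := by
          rw [← ht]
          exact (hval k a).symm.trans (congrArg Subtype.val hk)
        have e : (c * g⁻¹)⁻¹ * k * x * ((c * g⁻¹)⁻¹ * k)⁻¹ = z⁻¹ := by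
          calc (c * g⁻¹)⁻¹ * k * x * ((c * g⁻¹)⁻¹ * k)⁻¹
              = (c * g⁻¹)⁻¹ * ((k : L) * x * (k : L)⁻¹) * (c * g⁻¹) := by group
            _ = z⁻¹ := by rw [hk']; group
        rw [e]
        exact (Commute.inv_right (hzP p hp)).eq
    obtain ⟨i, hi⟩ := mem_zpowers_iff.1 htz
    have hti : z ^ i = c * g⁻¹ * z * (c * g⁻¹)⁻¹ := by rw [← ht, ← hi]; rfl
    obtain ⟨m₀, hm₀⟩ : ∃ m₀, m₀ = g * c⁻¹ := ⟨_, rfl⟩
    have hm₀i : m₀ * z ^ i * m₀⁻¹ = z := by rw [hti, hm₀]; group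
    have hm₀x : m₀ * x * m₀⁻¹ = g * x * g⁻¹ := by
      rw [hm₀]
      calc g * c⁻¹ * x * (g * c⁻¹)⁻¹ = g * (c⁻¹ * (x * c)) * g⁻¹ := by group
        _ = g * x * g⁻¹ := by rw [← hcx, inv_mul_cancel_left]
    have hPE : (P : Subgroup L) ≤ centralizer ({z} : Set L) := fun p hp =>
      mem_centralizer_singleton_iff.2 (hzP p hp)
    have hQE : ((m₀ • P : Sylow 3 L) : Subgroup L) ≤ centralizer ({z} : Set L) := by
      rw [Sylow.coe_subgroup_smul]
      rintro _ ⟨p, hp, rfl⟩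
      refine mem_centralizer_singleton_iff.2 ?_
      show m₀ * p * m₀⁻¹ * z = z * (m₀ * p * m₀⁻¹)
      calc m₀ * p * m₀⁻¹ * z = m₀ * (p * z ^ i) * m₀⁻¹ := by
            nth_rw 1 [← hm₀i]
            group
        _ = m₀ * (z ^ i * p) * m₀⁻¹ := by rw [(Commute.zpow_right (hzP p hp) i).eq]
        _ = z * (m₀ * p * m₀⁻¹) := by nth_rw 2 [← hm₀i]; group
    obtain ⟨e, he⟩ := MulAction.exists_smul_eq (centralizer ({z} : Set L)) (P.subtype hPE)
      ((m₀ • P).subtype hQE)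
    have hE27 : 27 ∣ Nat.card (centralizer ({z} : Set L)) := hcN ▸ card_dvd_of_le (hNP.trans hPE)
    have hclos : z ∈ (closure {x, n} : Subgroup L) := by
      refine (?_ : zpowers n ⊔ W ≤ closure {x, n}) hzT
      rw [h.W_eq hII hexp]
      exact sup_le (zpowers_le.2 (subset_closure (Or.inr rfl))) (zpowers_le.2 (subset_closure (Or.inl rfl)))
    have hfin : ∀ k : centralizer ({z} : Set L), k • P.subtype hPE = (m₀ • P).subtype hQE →
        (k : L)⁻¹ * m₀ ∈ normalizer ((P : Subgroup L) : Set L) := by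
      intro k hk
      rw [Sylow.smul_subtype] at hk
      have h1 := Sylow.subtype_injective hk
      rw [Subgroup.smul_def] at h1
      refine Sylow.smul_eq_iff_mem_normalizer.1 ?_
      rw [mul_smul, ← h1, inv_smul_smul]
    rcases h27 (h.card_W hII hexp) z hclos hzx (hexp z hzT) with hcl | ⟨Q, K, hKn, hKQ⟩ | h0
    · haveI := hcl (P.subtype hPE)
      refine ⟨m₀, ?_, hm₀x.symm⟩
      have h1 : (1 : centralizer ({z} : Set L)) • P.subtype hPE = (m₀ • P).subtype hQE := by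
        rw [one_smul, ← he]
        exact (Sylow.smul_eq_of_normal).symm
      simpa using hfin 1 h1
    · haveI := hKn
      set PE := P.subtype hPE
      have hK3 : ¬ 3 ∣ Nat.card K := hKQ.index_eq_card ▸ Q.not_dvd_index
      have hdisj : Disjoint K (PE : Subgroup (centralizer ({z} : Set L))) := by
        rw [disjoint_iff_inf_le]
        intro y hy
        obtain ⟨hyK, hyP⟩ := mem_inf.1 hy
        obtain ⟨j, hj⟩ := PE.isPGroup' ⟨y, hyP⟩
        have h1 : y ^ 3 ^ j = 1 := congrArg Subtype.val hj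
        have h2 : y ^ Nat.card K = 1 := congrArg Subtype.val (pow_card_eq_one' (x := (⟨y, hyK⟩ : K)))
        have h4 := pow_gcd_eq_one.2 ⟨h1, h2⟩
        rw [Nat.coprime_iff_gcd_eq_one.1 ((Nat.prime_three.coprime_iff_not_dvd.2 hK3).pow_left j), pow_one] at h4
        exact mem_bot.2 h4
      have hcompl : K.IsComplement' (PE : Subgroup (centralizer ({z} : Set L))) := by
        refine isComplement'_of_card_mul_and_disjoint ?_ hdisj
        rw [← hKQ.card_mul_card, Sylow.card_eq_multiplicity, Sylow.card_eq_multiplicity]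
      obtain ⟨⟨⟨k, hk⟩, ⟨q, hq⟩⟩, hkq⟩ := hcompl.2 e
      have hkq' : k * q = e := hkq
      have h1 : k • PE = (m₀ • P).subtype hQE := by
        rw [← he, ← hkq', mul_smul, Sylow.smul_eq_iff_mem_normalizer.2 (le_normalizer hq)]
      refine ⟨(k : L)⁻¹ * m₀, hfin k h1, ?_⟩
      have hmx : (k : L)⁻¹ * m₀ * x * ((k : L)⁻¹ * m₀)⁻¹ = (k : L)⁻¹ * (g * x * g⁻¹) * k := by
        rw [← hm₀x]; group
      have hmP : (k : L)⁻¹ * (g * x * g⁻¹) * k ∈ (P : Subgroup L) :=
        hmx ▸ (mem_normalizer_iff.1 (hfin k h1) x).1 (hTP h.x_mem_T)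
      let g' : centralizer ({z} : Set L) := ⟨g * x * g⁻¹, hPE hg⟩
      have h2 : k⁻¹ * g' * k * g'⁻¹ = 1 := by
        refine mem_bot.1 (hdisj.le_bot (mem_inf.2 ⟨?_, ?_⟩))
        · have e' : k⁻¹ * g' * k * g'⁻¹ = k⁻¹ * (g' * k * g'⁻¹) := by group
          rw [e']
          exact mul_mem (inv_mem hk) (hKn.conj_mem k hk g')
        · exact mul_mem (show k⁻¹ * g' * k ∈ (PE : Subgroup _) from hmP) (inv_mem (show g' ∈ (PE : Subgroup _) from hg))
      rw [hmx]
      exact (congrArg Subtype.val (mul_inv_eq_one.1 h2)).symm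
    · exact absurd hE27 h0
  let φ' : normalizer ((P : Subgroup L) : Set L) →* MulAut (Abelianization (P : Subgroup L)) :=
    { toFun := fun k => ((P : Subgroup L).normalizerMonoidHom k).abelianizationCongr
      map_one' := by
        refine MulEquiv.ext fun t => ?_
        obtain ⟨p, rfl⟩ := QuotientGroup.mk_surjective t
        show Abelianization.of _ = Abelianization.of p
        rw [map_one]
        rfl
      map_mul' := fun k k' => by
        refine MulEquiv.ext fun t => ?_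
        obtain ⟨p, rfl⟩ := QuotientGroup.mk_surjective t
        show Abelianization.of _ = Abelianization.of _
        rw [map_mul]
        rfl }
  have hφ' : ∀ k p, φ' k (Abelianization.of p) =
      Abelianization.of ((P : Subgroup L).normalizerMonoidHom k p) := fun k p => rfl
  let a' := Abelianization.of xP
  have hanti' : ∀ k, φ' k a' ≠ a'⁻¹ := by
    intro k e
    rw [hφ'] at e
    obtain ⟨u, hu⟩ := hclass (((P : Subgroup L).normalizerMonoidHom k xP)⁻¹) (by rw [map_inv, e, inv_inv])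
    have hu' : (u : L) * x * (u : L)⁻¹ = ((k : L) * x * (k : L)⁻¹)⁻¹ := congrArg Subtype.val hu
    refine h.real ((k : L)⁻¹ * u) ?_
    calc (k : L)⁻¹ * u * x * ((k : L)⁻¹ * u)⁻¹ = (k : L)⁻¹ * ((u : L) * x * (u : L)⁻¹) * k := by group
      _ = x⁻¹ := by rw [hu']; group
  have hfree' : ∀ k, φ' k a' = a' → φ' k = 1 := by
    intro k e
    rw [hφ'] at e
    obtain ⟨u, hu⟩ := hclass _ e
    have hu' : (u : L) * x * (u : L)⁻¹ = (k : L) * x * (k : L)⁻¹ := congrArg Subtype.val hu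
    obtain ⟨m, hm⟩ : ∃ m, m = (u : L)⁻¹ * k := ⟨_, rfl⟩
    have hmx : m * x = x * m := by
      rw [hm]
      calc (u : L)⁻¹ * k * x = (u : L)⁻¹ * ((k : L) * x * (k : L)⁻¹) * k := by group
        _ = x * ((u : L)⁻¹ * k) := by rw [← hu']; group
    have hmP : m ∈ normalizer ((P : Subgroup L) : Set L) :=
      hm ▸ mul_mem (inv_mem (le_normalizer u.2)) k.2
    have hfwd : ∀ m' ∈ normalizer ((P : Subgroup L) : Set L), m' * x = x * m' →
        ∀ t ∈ zpowers n ⊔ W, m' * t * m'⁻¹ ∈ zpowers n ⊔ W := fun m' hm' hm'x t ht =>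
      hCP _ ((mem_normalizer_iff.1 hm' t).1 (hTP ht))
        (((show Commute m' x from hm'x).mul_left (h.T_le ht)).mul_left
          (show Commute m' x from hm'x).inv_left).eq
    have hmT : m ∈ zpowers n ⊔ W := by
      refine h.norm_inter hmx (mem_normalizer_iff.2 fun t => ⟨hfwd m hmP hmx t, fun ht => ?_⟩)
      have := hfwd m⁻¹ (inv_mem hmP) (show Commute m x from hmx).inv_left.eq _ ht
      have e' : m⁻¹ * (m * t * m⁻¹) * m⁻¹⁻¹ = t := by group
      rwa [e'] at this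
    have hkP : (k : L) ∈ (P : Subgroup L) := by
      have := mul_mem u.2 (hTP hmT)
      rwa [hm, mul_inv_cancel_left] at this
    refine MulEquiv.ext fun t => ?_
    obtain ⟨p, rfl⟩ := QuotientGroup.mk_surjective t
    show φ' k (Abelianization.of p) = Abelianization.of p
    rw [hφ', show (P : Subgroup L).normalizerMonoidHom k p = ⟨k, hkP⟩ * p * (⟨k, hkP⟩)⁻¹ from rfl,
      map_mul, map_mul, map_inv, mul_comm (Abelianization.of (⟨(k : L), hkP⟩ : (P : Subgroup L))),
      mul_inv_cancel_right]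
  have hr' : ¬ 3 ∣ Nat.card φ'.range := by
    intro hd
    refine P.not_dvd_index (hd.trans ?_)
    rw [← index_ker, ← relIndex_mul_index (le_normalizer (H := (P : Subgroup L)))]
    refine dvd_mul_of_dvd_left (index_dvd_of_le fun k hk => MonoidHom.mem_ker.2 (hfree' k ?_)) _
    rw [hφ', show (P : Subgroup L).normalizerMonoidHom k xP =
        ⟨k, mem_subgroupOf.1 hk⟩ * xP * (⟨k, mem_subgroupOf.1 hk⟩)⁻¹ from rfl,
      map_mul, map_mul, map_inv,
      mul_comm (Abelianization.of (⟨(k : L), mem_subgroupOf.1 hk⟩ : (P : Subgroup L))), mul_inv_cancel_right]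
  obtain ⟨b, hb1, hba, hb⟩ := (orbit_small φ' hAb a' hanti' hfree').2 hr'
  let ψ : (P : Subgroup L) →* Abelianization (P : Subgroup L) ⧸ zpowers (a' * b⁻¹) :=
    (QuotientGroup.mk' _).comp Abelianization.of
  have hk := transfer_kill_cube h.perfect P ψ xP h.x_pow (by
    intro g hgP
    obtain ⟨m, hm, hmx⟩ := hconj g⁻¹ (by rw [inv_inv]; exact hgP)
    have e : (⟨_, hgP⟩ : (P : Subgroup L)) = (P : Subgroup L).normalizerMonoidHom ⟨m, hm⟩ xP := by
      refine Subtype.ext ?_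
      show g⁻¹ * x * g = m * x * m⁻¹
      rw [← hmx, inv_inv]
    show QuotientGroup.mk' _ (Abelianization.of _) = QuotientGroup.mk' (zpowers (a' * b⁻¹)) a'
    rw [e, ← hφ']
    rcases hb ⟨m, hm⟩ with e' | e' <;> rw [e']
    refine QuotientGroup.eq.2 ?_
    rw [mul_comm]
    exact mem_zpowers _)
  refine not_mem_diff hAb3 (fun e => hanti' 1 ?_) hb1 hba ((QuotientGroup.eq_one_iff a').1 hk)
  rw [map_one, MulAut.one_apply, e, inv_one]

end Cfg

end Config

end ThreeAux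

open ThreeAux in
/-- There is no non-real element of order three with centraliser `(V × W)⟨n⟩` in a perfect group. -/
theorem three : ThreeBrick.{u} := by
  intro L _ _ hperf V W x n hV hsq hW hcW hcVW hx hxW hnx hn3 hnW hnV hfree hcover hreal hVC hfixW h27
  have h : Cfg V W x n := ⟨hperf, hV, hsq, hW, hcW, hcVW, hx, hxW, hnx, hn3, hnW, hnV, hfree, hcover,
    hreal, hVC, hfixW⟩
  by_cases hII : ∀ w ∈ W, n * w = w * n
  · by_cases hexp : ∀ y ∈ zpowers n ⊔ W, y ^ 3 = 1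
    · by_cases h3 : 3 ∣ Nat.card (zpowers n ⊔ W : Subgroup L).normalizerMonoidHom.range
      · exact h.case_big hII hexp h27 h3
      · exact h.case_sylow hII hexp h3
    · push Not at hexp
      obtain ⟨y, hy, hy3⟩ := hexp
      exact h.case_two_a hII hy hy3
  · exact h.case_one hII

end Cfsg.Agent.Lib.MinNonCA34
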